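import Mathlib.GroupTheory.Frattini
import Mathlib.GroupTheory.Nilpotent
import Mathlib.GroupTheory.Sylow
import Cfsg.Agent.Lib.OddOrder.Nilpotent

/-!
Critical subgroups of a `p`-group.
-/

set_option autoImplicit false
set_option linter.style.haveILetI false
set_option linter.unusedSectionVars false

namespace Cfsg.Agent.Critical

open scoped commutatorElement

variable {P : Type*} [Group P]

/-- A characteristic subgroup of class two, central modulo its centre, self-centralizing and with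
elementary abelian central quotient. -/
structure IsCritical (p : ℕ) (H : Subgroup P) : Prop where
  char : H.Characteristic
  pow : ∀ a ∈ H, a ^ p ∈ H ⊓ Subgroup.centralizer (H : Set P)
  comm : ⁅(⊤ : Subgroup P), H⁆ ≤ H ⊓ Subgroup.centralizer (H : Set P)
  cent : Subgroup.centralizer (H : Set P) ≤ H

/-- An automorphism of coprime order fixing a self-centralizing normal subgroup is trivial. -/
theorem mulAut_eq_one {p : ℕ} [Fact p.Prime] (hP : IsPGroup p P) {H : Subgroup P} [hn : H.Normal]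
    (hC : Subgroup.centralizer (H : Set P) ≤ H) {a : MulAut P} (ha : (orderOf a).Coprime p)
    (h : ∀ x ∈ H, a x = x) : a = 1 := by
  ext x
  have hc : x⁻¹ * a x ∈ H := by
    refine hC (Subgroup.mem_centralizer_iff.2 fun y hy => ?_)
    have h1 := h _ (hn.conj_mem y hy x)
    rw [map_mul, map_mul, map_inv, h y hy] at h1
    calc y * (x⁻¹ * a x) = x⁻¹ * (x * y * x⁻¹) * a x := by group
      _ = x⁻¹ * (a x * y * (a x)⁻¹) * a x := by rw [h1]
      _ = x⁻¹ * a x * y := by group
  have hpow : ∀ n : ℕ, (a ^ n) x = x * (x⁻¹ * a x) ^ n := by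
    intro n
    induction n with
    | zero => simp
    | succ n ih =>
      rw [pow_succ', MulAut.mul_apply, ih, map_mul, map_pow, h _ hc, pow_succ', ← mul_assoc x,
        mul_inv_cancel_left]
  have h2 := hpow (orderOf a)
  rw [pow_orderOf_eq_one, MulAut.one_apply, left_eq_mul] at h2
  obtain ⟨k, hk⟩ := hP (x⁻¹ * a x)
  have h3 : orderOf (x⁻¹ * a x) ∣ Nat.gcd (orderOf a) (p ^ k) :=
    Nat.dvd_gcd (orderOf_dvd_of_pow_eq_one h2) (orderOf_dvd_of_pow_eq_one hk)
  rw [(ha.pow_right k).gcd_eq_one, Nat.dvd_one, orderOf_eq_one_iff] at h3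
  exact (inv_mul_eq_one.1 h3).symm

theorem IsCritical.mulAut_eq_one' {p : ℕ} [Fact p.Prime] (hP : IsPGroup p P) {H : Subgroup P}
    (hH : IsCritical p H) {a : MulAut P} (ha : (orderOf a).Coprime p) (h : ∀ x ∈ H, a x = x) :
    a = 1 := by
  haveI := hH.char
  exact mulAut_eq_one hP hH.cent ha h

/-- Thompson's critical subgroup. -/
theorem exists_critical [Finite P] {p : ℕ} [Fact p.Prime] (hP : IsPGroup p P) :
    ∃ H : Subgroup P, IsCritical p H := by
  haveI := hP.isNilpotent
  obtain ⟨B, ⟨hBchar, hBab⟩, hBmax⟩ := (Set.toFinite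
    {B : Subgroup P | B.Characteristic ∧ IsMulCommutative ↥B}).exists_maximal
    ⟨⊥, inferInstance, inferInstance⟩
  haveI := hBchar
  have hBc : ∀ a ∈ B, ∀ b ∈ B, a * b = b * a := fun a ha b hb =>
    congrArg Subtype.val (hBab.is_comm.comm (⟨a, ha⟩ : ↥B) ⟨b, hb⟩)
  let π := QuotientGroup.mk' B
  have hπ : ∀ x : P, π x = 1 ↔ x ∈ B := fun x => QuotientGroup.eq_one_iff x
  let H : Subgroup P :=
    { carrier := {x | x ∈ Subgroup.centralizer (B : Set P) ∧ (∀ t, Commute (π x) (π t)) ∧ π x ^ p = 1}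
      one_mem' := ⟨one_mem _, fun t => by rw [map_one]; exact Commute.one_left _, by simp⟩
      mul_mem' := fun {x y} hx hy => ⟨mul_mem hx.1 hy.1,
        fun t => by rw [map_mul]; exact (hx.2.1 t).mul_left (hy.2.1 t),
        by rw [map_mul, (hx.2.1 y).mul_pow, hx.2.2, hy.2.2, one_mul]⟩
      inv_mem' := fun {x} hx => ⟨inv_mem hx.1,
        fun t => by rw [map_inv]; exact (hx.2.1 t).inv_left,
        by rw [map_inv, inv_pow, hx.2.2, inv_one]⟩ }
  have hmem : ∀ x, x ∈ H ↔ x ∈ Subgroup.centralizer (B : Set P) ∧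
      (∀ t, Commute (π x) (π t)) ∧ π x ^ p = 1 := fun x => Iff.rfl
  have hBH : B ≤ H := fun b hb => (hmem b).2
    ⟨Subgroup.mem_centralizer_iff.2 fun a ha => hBc a ha b hb,
      fun t => by rw [(hπ b).2 hb]; exact Commute.one_left _, by rw [(hπ b).2 hb, one_pow]⟩
  have hchar : H.Characteristic := by
    refine Subgroup.characteristic_iff_le_comap.2 fun φ x hx => ?_
    obtain ⟨h1, h2, h3⟩ := (hmem x).1 hx
    have hφB : ∀ b, b ∈ B ↔ φ b ∈ B := fun b => by
      conv_lhs => rw [← Subgroup.Characteristic.fixed hBchar φ]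
      rfl
    refine (hmem (φ x)).2 ⟨Subgroup.mem_centralizer_iff.2 fun b hb => ?_, fun t => ?_, ?_⟩
    · obtain ⟨b, rfl⟩ := φ.surjective b
      rw [← map_mul, Subgroup.mem_centralizer_iff.1 h1 b ((hφB b).2 hb), map_mul]
    · obtain ⟨t, rfl⟩ := φ.surjective t
      rw [← commutatorElement_eq_one_iff_commute, ← map_commutatorElement, hπ,
        ← map_commutatorElement φ, ← hφB, ← hπ, map_commutatorElement, commutatorElement_eq_one_iff_commute]
      exact h2 t
    · rw [← map_pow, ← map_pow, hπ, ← hφB, ← hπ, map_pow]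
      exact h3
  have hZ : H ⊓ Subgroup.centralizer (H : Set P) = B := by
    haveI := hchar
    refine le_antisymm (hBmax ⟨inferInstance, ?_⟩ (le_inf hBH ?_)) (le_inf hBH ?_)
    · exact ⟨⟨fun a b => Subtype.ext
        ((Subgroup.mem_centralizer_iff.1 (Subgroup.mem_inf.1 a.2).2 b (Subgroup.mem_inf.1 b.2).1).symm)⟩⟩
    all_goals
      exact fun b hb => Subgroup.mem_centralizer_iff.2 fun x hx =>
        (Subgroup.mem_centralizer_iff.1 ((hmem x).1 hx).1 b hb).symm
  refine ⟨H, hchar, fun a ha => ?_, ?_, ?_⟩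
  · rw [hZ, ← hπ, map_pow]
    exact ((hmem a).1 ha).2.2
  · rw [hZ, Subgroup.commutator_le]
    intro t _ x hx
    rw [← hπ, map_commutatorElement]
    exact commutatorElement_eq_one_iff_commute.2 (((hmem x).1 hx).2.1 t).symm
  · by_contra hC
    haveI := hchar
    have hnle : ¬ Subgroup.centralizer (H : Set P) ≤ B := fun h => hC (h.trans hBH)
    obtain ⟨x, hxC, hxB, hx⟩ := OddOrder.Nilp.exists_mem_commutator_le hnle
    classical
    have hex : ∃ k, x ^ p ^ k ∈ B := by
      obtain ⟨k, hk⟩ := hP x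
      exact ⟨k, hk ▸ one_mem B⟩
    obtain ⟨k, hk⟩ : ∃ k, Nat.find hex = k + 1 := Nat.exists_eq_succ_of_ne_zero fun h0 => hxB (by
      have := Nat.find_spec hex
      rwa [h0, pow_zero, pow_one] at this)
    have hy : x ^ p ^ k ∉ B := Nat.find_min hex (by omega)
    have hyp : x ^ p ^ k ∈ H := by
      refine (hmem _).2 ⟨Subgroup.centralizer_le (SetLike.coe_subset_coe.2 hBH) (pow_mem hxC _),
        fun t => ?_, ?_⟩
      · rw [map_pow]
        refine Commute.pow_left ?_ _
        rw [← commutatorElement_eq_one_iff_commute, ← map_commutatorElement, hπ]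
        exact hx t
      · rw [← map_pow, hπ, ← pow_mul, ← pow_succ, ← hk]
        exact Nat.find_spec hex
    exact hy (hZ ▸ Subgroup.mem_inf.2 ⟨hyp, pow_mem hxC _⟩)

end Cfsg.Agent.Critical
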