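import Cfsg.Agent.Lib.Functors.Sections

/-!
Control of strong fusion and of transfer is decided by the sections with `C(O_p) ≤ O_p`.
-/

set_option autoImplicit false
set_option linter.style.haveILetI false
set_option linter.unusedSectionVars false

namespace Cfsg.Agent.Functors

open Cfsg
open scoped commutatorElement

universe u

variable {G : Type u} [Group G] [Finite G] {p : ℕ} [Fact p.Prime]
  {𝓦 : Set (∀ (Q : Type u) [Group Q], Subgroup Q)}

theorem card_lt_of_ne_top {H : Subgroup G} (h : H ≠ ⊤) : Nat.card ↥H < Nat.card G :=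
  lt_of_le_of_ne (Subgroup.card_le_card_group H) fun e => h (Subgroup.eq_top_of_card_eq H e)

theorem card_quotient_lt {N : Subgroup G} [N.Normal] (h : N ≠ ⊥) : Nat.card (G ⧸ N) < Nat.card G := by
  rw [Subgroup.card_eq_card_quotient_mul_card_subgroup N]
  exact lt_mul_of_one_lt_right Nat.card_pos (Subgroup.one_lt_card_iff_ne_bot N |>.2 h)

theorem normalizer_ne_top_of_not_le {V : Subgroup G} (hV : IsPGroup p ↥V) (h : ¬ V ≤ pCore p G) :
    Subgroup.normalizer (V : Set G) ≠ ⊤ :=
  fun e => h (PBasic.le_pCore (Subgroup.normalizer_eq_top_iff.1 e) hV)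

theorem conj_le_intermediate (S : Sylow p G) {M L : Subgroup G} (hSM : (S : Subgroup G) ≤ M)
    (hSL : (S : Subgroup G) ≤ L) {B : Subgroup G} (hB : B ≤ (S : Subgroup G)) {m l : G} (hm : m ∈ M)
    (hl : l ∈ L) (hg : B.map (cj (m * l)) ≤ (S : Subgroup G)) :
    ∃ m' ∈ M, ∃ l' ∈ L, m * l = m' * l' ∧ B.map (cj l') ≤ (S : Subgroup G) := by
  have hsyl : IsSylowIn p (S : Subgroup G) (M ⊓ L) := (isSylowIn_sylow S).of_le (le_inf hSM hSL) le_top
  have hBl : B.map (cj l) ≤ M ⊓ L := by
    rintro _ ⟨b, hb, rfl⟩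
    refine Subgroup.mem_inf.2 ⟨?_, mul_mem (mul_mem hl (hSL (hB hb))) (inv_mem hl)⟩
    have h1 := mul_mem (mul_mem (inv_mem hm) (hSM (hg ⟨b, hb, rfl⟩))) hm
    simpa [cj_apply, mul_assoc] using h1
  obtain ⟨n, hn, hnB⟩ := exists_conj_le_of_isSylowIn hsyl ((S.isPGroup'.to_le hB).map _) hBl
  rw [map_map_cj] at hnB
  exact ⟨m * n⁻¹, mul_mem hm (inv_mem (Subgroup.mem_inf.1 hn).1), n * l,
    mul_mem (Subgroup.mem_inf.1 hn).2 hl, by group, hnB⟩

/-- The Sylow subgroup of a normalized subgroup. -/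
theorem IsSylowIn.inf_normalized {T H E : Subgroup G} (h : IsSylowIn p T H) (hEH : E ≤ H)
    (hn : H ≤ Subgroup.normalizer (E : Set G)) : IsSylowIn p (T ⊓ E) E := by
  obtain ⟨R, hR, hle⟩ := exists_isSylowIn_ge (h.isPGroup.to_le (inf_le_left : T ⊓ E ≤ T)) inf_le_right
  obtain ⟨n, hnH, hnR⟩ := exists_conj_le_of_isSylowIn h hR.isPGroup (hR.le.trans hEH)
  have h1 : R.map (cj n) ≤ T ⊓ E := le_inf hnR
    ((Subgroup.map_mono hR.le).trans (map_cj_eq_iff.2 (hn hnH)).le)
  have h2 : Nat.card ↥R ≤ Nat.card ↥(T ⊓ E) := by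
    rw [← card_map_cj R n]; exact Subgroup.card_le_of_le h1
  rwa [← Subgroup.eq_of_le_of_card_ge hle h2] at hR

/-- `S ∩ C(T) ≤ T = O_p(G)` leaves no `p'`-free room: constrained. -/
theorem centralizer_pCore_le_of_inf (S : Sylow p G) (h0 : pPrimeCore p G = ⊥)
    (h : (S : Subgroup G) ⊓ Subgroup.centralizer ((pCore p G : Subgroup G) : Set G) ≤ pCore p G) :
    PConstr p G := by
  set C := Subgroup.centralizer ((pCore p G : Subgroup G) : Set G) with hC
  haveI : C.Normal := inferInstance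
  obtain ⟨P, hP⟩ := PBasic.exists_sylow_subgroupOf S C
  have hcen : Subgroup.normalizer (P : Set ↥C) ≤ Subgroup.centralizer (P : Set ↥C) := by
    intro x _
    refine Subgroup.mem_centralizer_iff.2 fun y hy => Subtype.ext ?_
    replace hy : y ∈ (P : Subgroup ↥C) := hy
    rw [hP, Subgroup.mem_subgroupOf] at hy
    have hyT : (y : G) ∈ pCore p G := h (Subgroup.mem_inf.2 ⟨hy, y.2⟩)
    exact Subgroup.mem_centralizer_iff.1 x.2 y hyT
  have hK := MonoidHom.ker_transferSylow_isComplement' P hcen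
  have hKc : (Nat.card ↥(MonoidHom.transferSylow P hcen).ker).Coprime p := by
    rw [Nat.Coprime, ← Nat.coprime_iff_gcd_eq_one, Nat.coprime_comm, (Fact.out : p.Prime).coprime_iff_not_dvd,
      ← hK.index_eq_card]
    exact P.not_dvd_index
  have hKbot : (MonoidHom.transferSylow P hcen).ker = ⊥ := by
    have h1 := (Subgroup.map_mono (f := C.subtype) (PBasic.le_pPrimeCore inferInstance hKc)).trans
      (PBasic.map_pPrimeCore_le_of_normal C)
    rw [h0, le_bot_iff, Subgroup.map_eq_bot_iff_of_injective _ C.subtype_injective] at h1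
    exact h1
  have hPtop : (P : Subgroup ↥C) = ⊤ := by
    have h2 := hK.sup_eq_top
    rwa [hKbot, bot_sup_eq] at h2
  intro x hx
  have : (⟨x, hx⟩ : ↥C) ∈ (P : Subgroup ↥C) := hPtop ▸ Subgroup.mem_top _
  rw [hP, Subgroup.mem_subgroupOf] at this
  exact h (Subgroup.mem_inf.2 ⟨this, hx⟩)

/-- Factorizations used when `C(O_p) ≰ O_p` and there is no `p'`-core. -/
theorem exists_factorization (S : Sylow p G) (h0 : pPrimeCore p G = ⊥) (hnc : ¬ PConstr p G) :
    ∃ M : Subgroup G, M ≠ ⊤ ∧ (S : Subgroup G) ≤ M ∧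
      ∀ x : G, ∃ m ∈ M, ∃ c ∈ Subgroup.centralizer ((pCore p G : Subgroup G) : Set G), x = m * c := by
  set C := Subgroup.centralizer ((pCore p G : Subgroup G) : Set G) with hC
  haveI : C.Normal := inferInstance
  refine ⟨Subgroup.normalizer (((S : Subgroup G) ⊓ C : Subgroup G) : Set G),
    normalizer_ne_top_of_not_le (S.isPGroup'.to_le inf_le_left)
      fun h => hnc (centralizer_pCore_le_of_inf S h0 h),
    ChiefAct.inf_le_normalizer Subgroup.le_normalizer (le_top.trans_eq (Subgroup.normalizer_eq_top (H := C)).symm),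
    fun x => ?_⟩
  obtain ⟨P, hP⟩ := PBasic.exists_sylow_subgroupOf S C
  have h1 := Sylow.normalizer_sup_eq_top P
  rw [hP, Subgroup.subgroupOf_map_subtype] at h1
  obtain ⟨m, hm, c, hc, rfl⟩ := Subgroup.mem_sup_of_normal_right.1 (h1.ge (Subgroup.mem_top x))
  exact ⟨m, hm, c, hc, rfl⟩

/-! ### strong fusion -/

/-- When `G = C(T) S`, elements acting trivially on `B/T` act on `B` like elements of `S`. -/
theorem reach_of_stab (h𝓦 : ∀ W ∈ 𝓦, IsCharPFunctor.{u} p W) (S : Sylow p G)
    (hS : CtlSF p 𝓦 ↥(S : Subgroup G))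
    (hCS : Subgroup.centralizer ((pCore p G : Subgroup G) : Set G) ⊔ (S : Subgroup G) = ⊤)
    {B : Subgroup G} (hBS : B ≤ (S : Subgroup G))
    (hext : Extremal p (S : Subgroup G) B) {x : G} (hx : x ∈ Subgroup.normalizer (B : Set G))
    (hxT : ∀ u ∈ B, ⁅u, x⁆ ∈ pCore p G) :
    Reach (S : Subgroup G) (stepSet 𝓦 (S : Subgroup G)) (B : Set G) x := by
  set T := pCore p G with hT
  haveI : T.Normal := Cfsg.pCore_normal p G
  set C := Subgroup.centralizer (T : Set G) with hC
  haveI : C.Normal := inferInstance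
  set E := Subgroup.normalizer (B : Set G) ⊓ ChiefAct.modCent B T with hE
  set CE := Subgroup.centralizer (B : Set G) with hCE
  have hnE : Subgroup.normalizer (B : Set G) ≤ Subgroup.normalizer (E : Set G) := by
    refine ChiefAct.inf_le_normalizer Subgroup.le_normalizer fun n hn =>
      Subgroup.mem_normalizer_iff.2 fun z => ?_
    have key : ∀ n ∈ Subgroup.normalizer (B : Set G), ∀ z ∈ ChiefAct.modCent B T,
        n * z * n⁻¹ ∈ ChiefAct.modCent B T := by
      intro n hn z hz u hu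
      rw [show ⁅u, n * z * n⁻¹⁆ = n * ⁅n⁻¹ * u * n, z⁆ * n⁻¹ by
        simp only [commutatorElement_def]; group]
      refine (Cfsg.pCore_normal p G).conj_mem _ (hz _ ?_) n
      simpa using (Subgroup.mem_normalizer_iff.1 (inv_mem hn) u).1 hu
    refine ⟨key n hn z, fun h => ?_⟩
    simpa [mul_assoc] using key n⁻¹ (inv_mem hn) _ h
  -- `p'`-elements centralize
  have hcop : ∀ e ∈ E, (orderOf e).Coprime p → e ∈ CE := by
    intro e he hec
    obtain ⟨heN, heM⟩ := Subgroup.mem_inf.1 he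
    have hCS' : IsPGroup p (G ⧸ C) := fun q => by
      induction q using QuotientGroup.induction_on with
      | _ g =>
        obtain ⟨c, hc, s, hs, rfl⟩ := Subgroup.mem_sup_of_normal_left.1 (hCS.ge (Subgroup.mem_top g))
        obtain ⟨k, hk⟩ := S.isPGroup' ⟨s, hs⟩
        refine ⟨k, ?_⟩
        rw [QuotientGroup.mk_mul, (QuotientGroup.eq_one_iff c).2 hc, one_mul, ← QuotientGroup.mk_pow,
          show s ^ p ^ k = 1 from congrArg Subtype.val hk, QuotientGroup.mk_one]
    have heC : e ∈ C := (QuotientGroup.eq_one_iff e).1 (PBasic.isPGroup_iff_forall_coprime.1 hCS' _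
      (Nat.Coprime.coprime_dvd_left (orderOf_map_dvd (QuotientGroup.mk' C) e) hec))
    have h1 : ⁅B, Subgroup.zpowers e⁆ ≤ T :=
      ChiefAct.commutator_zpowers_le_iff.2 heM
    have h2 : ⁅T, Subgroup.zpowers e⁆ = ⊥ := by
      rw [Subgroup.commutator_comm, Subgroup.commutator_eq_bot_iff_le_centralizer, Subgroup.zpowers_le]
      exact heC
    have h3 : ⁅B, Subgroup.zpowers e⁆ = ⊥ := by
      rw [← LECoprime.commutator_commutator_eq (S.isPGroup'.to_le hBS) (ChiefAct.coprime_zpowers hec)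
        (Subgroup.zpowers_le.2 heN), eq_bot_iff, ← h2]
      exact Subgroup.commutator_mono h1 le_rfl
    rw [Subgroup.commutator_comm, Subgroup.commutator_eq_bot_iff_le_centralizer] at h3
    exact h3 (Subgroup.mem_zpowers e)
  have hsyl : IsSylowIn p (((S : Subgroup G) ⊓ Subgroup.normalizer (B : Set G)) ⊓ E) E :=
    hext.2.inf_normalized inf_le_left hnE
  obtain ⟨Q, hQ⟩ := hsyl.exists_sylow
  haveI : (CE.subgroupOf E).Normal := by
    refine ⟨fun c hc n => ?_⟩
    rw [Subgroup.mem_subgroupOf] at hc ⊢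
    rw [Subgroup.mem_centralizer_iff]
    intro b hb
    have hb' : (n : G)⁻¹ * b * n ∈ B := by
      simpa using (Subgroup.mem_normalizer_iff.1 (inv_mem (Subgroup.mem_inf.1 n.2).1) b).1 hb
    have h1 := Subgroup.mem_centralizer_iff.1 hc _ hb'
    push_cast
    calc b * ((n : G) * c * (n : G)⁻¹) = n * (((n : G)⁻¹ * b * n) * c) * (n : G)⁻¹ := by group
      _ = n * c * (n : G)⁻¹ * b := by rw [h1]; group
  have hq : IsPGroup p (↥E ⧸ CE.subgroupOf E) := fun q => by
    induction q using QuotientGroup.induction_on with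
    | _ e =>
      obtain ⟨k, hk⟩ := ChiefAct.exists_pow_mem_of_coprime_mem hcop e.2
      refine ⟨k, ?_⟩
      rw [← QuotientGroup.mk_pow, QuotientGroup.eq_one_iff, Subgroup.mem_subgroupOf]
      simpa using hk
  obtain ⟨q, hq', c, hc, hqc⟩ := Subgroup.mem_sup_of_normal_right.1
    ((PBasic.sylow_sup_eq_top Q hq).ge (Subgroup.mem_top (⟨x, Subgroup.mem_inf.2 ⟨hx, hxT⟩⟩ : ↥E)))
  rw [hQ, Subgroup.mem_subgroupOf] at hq'
  rw [Subgroup.mem_subgroupOf] at hc
  have e : (q : G) * c = x := congrArg Subtype.val hqc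
  have hqS : (q : G) ∈ (S : Subgroup G) := (Subgroup.mem_inf.1 (Subgroup.mem_inf.1 hq').1).1
  refine (reach_of_ctl_subgroup h𝓦 S le_rfl hS hqS hBS ?_).congr fun b hb => ?_
  · rintro _ ⟨b, hb, rfl⟩
    exact mul_mem (mul_mem hqS (hBS hb)) (inv_mem hqS)
  · rw [← e]
    calc (q : G) * c * b * ((q : G) * c)⁻¹ = q * (c * b) * (c : G)⁻¹ * (q : G)⁻¹ := by group
      _ = q * b * (q : G)⁻¹ := by rw [← Subgroup.mem_centralizer_iff.1 hc b hb]; group

theorem reach_lift_pCore (h𝓦 : ∀ W ∈ 𝓦, IsCharPFunctor.{u} p W) (S : Sylow p G)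
    (hne : (S : Subgroup G) ≠ pCore p G)
    (hsub : ∀ H : Subgroup G, H ≠ ⊤ → CtlSF p 𝓦 ↥H) {Ab : Set (G ⧸ pCore p G)} {gb : G ⧸ pCore p G}
    (r : Reach ((S : Subgroup G).map (QuotientGroup.mk' (pCore p G)))
      (stepSet 𝓦 ((S : Subgroup G).map (QuotientGroup.mk' (pCore p G)))) Ab gb) :
    ∀ B : Subgroup G, B ≤ (S : Subgroup G) → QuotientGroup.mk' (pCore p G) '' (B : Set G) ⊆ Ab →
      ∃ g : G, Reach (S : Subgroup G) (stepSet 𝓦 (S : Subgroup G)) (B : Set G) g ∧
        ∀ b ∈ B, QuotientGroup.mk' (pCore p G) (g * b * g⁻¹) =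
          gb * QuotientGroup.mk' (pCore p G) b * gb⁻¹ := by
  have hTS := PBasic.pCore_le_sylow (p := p) S
  set T := pCore p G with hT
  set π := QuotientGroup.mk' T with hπ
  have hπs : Function.Surjective π := QuotientGroup.mk'_surjective T
  induction r with
  | refl hA hg =>
    intro B hB hBA
    exact ⟨1, .refl hB fun b _ => by group, fun b hb => by
      rw [one_mul, inv_one, mul_one, hg _ (hBA ⟨b, hb, rfl⟩)]⟩
  | @cons Ab nb gb kb hA hn h hk ih =>
    intro B hB hBA
    obtain ⟨_, ⟨_, ⟨W, hW, rfl⟩, rfl⟩, hnW⟩ := hn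
    obtain ⟨n, rfl⟩ := hπs nb
    set Wb := inducedFunctor W ((S : Subgroup G).map π) with hWb
    set J := Wb.comap π with hJ
    have hnJ : n ∈ Subgroup.normalizer (J : Set G) := by
      rw [hJ, ← Subgroup.comap_normalizer_eq_of_surjective Wb hπs]; exact hnW
    have hbS : IsPGroup p ↥((S : Subgroup G).map π) := S.isPGroup'.map π
    have hfun := inducedFunctor_isConjugacyFunctor (G := G ⧸ T) (h𝓦 W hW)
    have hJp : IsPGroup p ↥J := by
      refine (hbS.to_le (conjFunctor_le hfun hbS)).comap_of_ker_isPGroup π ?_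
      rw [hπ, QuotientGroup.ker_mk']; exact PBasic.pCore_isPGroup p G
    have hne' : (S : Subgroup G).map π ≠ ⊥ := by
      rw [Ne, Subgroup.map_eq_bot_iff, hπ, QuotientGroup.ker_mk']
      exact fun hle => hne (le_antisymm hle hTS)
    have hJT : ¬ J ≤ T := fun hle => by
      refine conjFunctor_ne_bot hfun hbS hne' (eq_bot_iff.2 fun z hz => ?_)
      obtain ⟨z, rfl⟩ := hπs z
      exact (QuotientGroup.eq_one_iff z).2 (hle hz)
    have hSJ : (S : Subgroup G) ≤ Subgroup.normalizer (J : Set G) := by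
      rw [hJ, ← Subgroup.comap_normalizer_eq_of_surjective Wb hπs, ← Subgroup.map_le_iff_le_comap]
      exact le_normalizer_conjFunctor hfun hbS
    have hnB : B.map (cj n) ≤ (S : Subgroup G) := by
      rintro _ ⟨b, hb, rfl⟩
      obtain ⟨s, hs, hse⟩ := h.left ⟨_, hBA ⟨b, hb, rfl⟩, rfl⟩
      have hs' : s⁻¹ * cj n b ∈ T := by
        rw [← QuotientGroup.eq, ← QuotientGroup.mk'_apply, ← QuotientGroup.mk'_apply, ← hπ, hse]
        simp
      have := mul_mem hs (hTS hs')
      rwa [mul_inv_cancel_left] at this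
    have himg : π '' ((B.map (cj n) : Subgroup G) : Set G) ⊆ cj (π n) '' Ab := by
      rintro _ ⟨_, ⟨b, hb, rfl⟩, rfl⟩
      exact ⟨π b, hBA ⟨b, hb, rfl⟩, by simp⟩
    obtain ⟨g, rg, hg⟩ := ih (B.map (cj n)) hnB himg
    have rn := reach_of_ctl_subgroup h𝓦 S hSJ (hsub _ (normalizer_ne_top_of_not_le hJp hJT)) hnJ hB
      (by rw [cj_image_coe]; exact hnB)
    refine ⟨g * n, rn.trans (by rw [cj_image_coe]; exact rg), fun b hb => ?_⟩
    have := hg _ ⟨b, hb, rfl⟩
    rw [hk _ (hBA ⟨b, hb, rfl⟩)]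
    calc π (g * n * b * (g * n)⁻¹) = π (g * cj n b * g⁻¹) := by
          congr 1; simp only [cj_apply]; group
      _ = gb * π (cj n b) * gb⁻¹ := this
      _ = _ := by simp [mul_assoc]

/-- The case `G = C(T) S`. -/
theorem reach_of_centralizer_sup (h𝓦 : ∀ W ∈ 𝓦, IsCharPFunctor.{u} p W) (S : Sylow p G)
    (hne : (S : Subgroup G) ≠ pCore p G)
    (hCS : Subgroup.centralizer ((pCore p G : Subgroup G) : Set G) ⊔ (S : Subgroup G) = ⊤)
    (hsub : ∀ H : Subgroup G, H ≠ ⊤ → CtlSF p 𝓦 ↥H) (hquot : CtlSF p 𝓦 (G ⧸ pCore p G))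
    {B : Subgroup G} {g : G} (hTB : pCore p G ≤ B) (hBS : B ≤ (S : Subgroup G))
    (hgB : B.map (cj g) ≤ (S : Subgroup G)) :
    Reach (S : Subgroup G) (stepSet 𝓦 (S : Subgroup G)) (B : Set G) g := by
  suffices key : ∀ (d : ℕ) (B : Subgroup G) (g : G), Nat.card ↥(S : Subgroup G) ≤ d + Nat.card ↥B →
      pCore p G ≤ B → B ≤ (S : Subgroup G) → B.map (cj g) ≤ (S : Subgroup G) →
      Reach (S : Subgroup G) (stepSet 𝓦 (S : Subgroup G)) (B : Set G) g from
    key _ B g (Nat.le_add_right _ _) hTB hBS hgB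
  clear hgB hBS hTB g B
  intro d
  induction d using Nat.strong_induction_on with
  | _ d ihd =>
    intro B g hd hTB hBS hgB
    set T := pCore p G with hT
    set π := QuotientGroup.mk' T with hπ
    have hSne : (S : Subgroup G) ≠ ⊤ := fun e =>
      hne (le_antisymm (PBasic.le_pCore (by rw [e]; infer_instance) S.isPGroup') (PBasic.pCore_le_sylow S))
    set Sb : Sylow p (G ⧸ T) := S.mapSurjective (QuotientGroup.mk'_surjective T) with hSb
    have r : Reach ((S : Subgroup G).map π) (stepSet 𝓦 ((S : Subgroup G).map π))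
        (π '' (B : Set G)) (π g) :=
      reach_of_sfAt (sfAt_top_of_ctl h𝓦 Sb hquot) (Subgroup.mem_top (π g)) (A := π '' (B : Set G))
        (by rintro _ ⟨a, ha, rfl⟩; exact ⟨a, hBS ha, rfl⟩)
        (by rintro _ ⟨_, ⟨a, ha, rfl⟩, rfl⟩; exact ⟨_, hgB ⟨a, ha, rfl⟩, by simp [hπ]⟩)
    obtain ⟨g', rg, hg'⟩ := reach_lift_pCore h𝓦 S hne hsub r B hBS subset_rfl
    set B' := B.map (cj g') with hB'
    have hTB' : T ≤ B' := fun t ht =>
      mem_map_cj.2 (hTB (by simpa using (Cfsg.pCore_normal p G).conj_mem t ht g'⁻¹))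
    have hB'S : B' ≤ (S : Subgroup G) := by
      intro z hz
      exact rg.right (by rw [cj_image_coe]; exact hz)
    have hdiff : ∀ b ∈ B, (g' * b * g'⁻¹)⁻¹ * (g * b * g⁻¹) ∈ T := fun b hb => by
      rw [← QuotientGroup.eq, ← QuotientGroup.mk'_apply, ← QuotientGroup.mk'_apply, hg' b hb]
      simp [hπ]
      rfl
    set x := g * g'⁻¹ with hx
    have hxB : B'.map (cj x) = B' := by
      refine Subgroup.eq_of_le_of_card_ge ?_ (card_map_cj _ _).ge
      rw [hB', map_map_cj, hx, inv_mul_cancel_right]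
      rintro _ ⟨b, hb, rfl⟩
      have h1 : g' * b * g'⁻¹ ∈ B' := ⟨b, hb, rfl⟩
      have h2 := mul_mem h1 (hTB' (hdiff b hb))
      rw [mul_inv_cancel_left] at h2
      exact h2
    have hxT : ∀ u ∈ B', ⁅u, x⁆ ∈ T := by
      rintro _ ⟨b, hb, rfl⟩
      have h1 := inv_mem ((Cfsg.pCore_normal p G).conj_mem _ (hdiff b hb) (g' * b * g'⁻¹))
      convert h1 using 1
      simp only [cj_apply, hx, commutatorElement_def]
      group
    suffices rx : Reach (S : Subgroup G) (stepSet 𝓦 (S : Subgroup G)) (B' : Set G) x by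
      have := rg.trans (by rw [cj_image_coe, ← hB']; exact rx)
      rwa [hx, inv_mul_cancel_right] at this
    have hxN := map_cj_eq_iff.1 hxB
    by_cases hext : Extremal p (S : Subgroup G) B'
    · exact reach_of_stab h𝓦 S (hsub _ hSne) hCS hB'S hext hxN hxT
    · have hlt : B' < (S : Subgroup G) := lt_of_le_of_ne hB'S fun e => hext (by
        rw [e]; exact extremal_of_normal S le_rfl Subgroup.le_normalizer)
      set P := (S : Subgroup G) ⊓ Subgroup.normalizer (B' : Set G) with hP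
      have hcard : Nat.card ↥B < Nat.card ↥P := by
        rw [← card_map_cj B g', ← hB']
        exact Nat.lt_of_not_ge fun hle => (lt_inf_normalizer_of_lt S.isPGroup' hlt).ne
          (Subgroup.eq_of_le_of_card_ge (le_inf hB'S Subgroup.le_normalizer) hle)
      have hdpos : 0 < d := by
        by_contra h0
        have := Subgroup.card_le_of_le (show P ≤ (S : Subgroup G) from inf_le_left)
        omega
      obtain ⟨h, hh, hhle⟩ := exists_extremal S hB'S
      have rh : Reach (S : Subgroup G) (stepSet 𝓦 (S : Subgroup G)) (P : Set G) h :=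
        ihd (d - 1) (by omega) P h (by omega)
          (hTB'.trans (le_inf hB'S Subgroup.le_normalizer)) inf_le_left hhle
      have rB := rh.mono (B := (B' : Set G)) (le_inf hB'S Subgroup.le_normalizer : B' ≤ P)
      have rx' : Reach (S : Subgroup G) (stepSet 𝓦 (S : Subgroup G)) ((B'.map (cj h) : Subgroup G) : Set G)
          (h * x * h⁻¹) := by
        refine reach_of_stab h𝓦 S (hsub _ hSne) hCS hh.1 hh ?_ ?_
        · rw [← map_cj_normalizer]; exact ⟨x, hxN, rfl⟩
        · rintro _ ⟨u, hu, rfl⟩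
          have h1 := (Cfsg.pCore_normal p G).conj_mem _ (hxT u hu) h
          convert h1 using 1
          simp only [cj_apply, commutatorElement_def]
          group
      have r2 := rB.trans (by rw [cj_image_coe]; exact rx')
      rw [inv_mul_cancel_right] at r2
      have r3 : Reach (S : Subgroup G) (stepSet 𝓦 (S : Subgroup G)) (cj (h * x) '' (B' : Set G)) h⁻¹ := by
        rw [← cj_image_image, cj_image_coe B' x, hxB]
        exact rB.symm
      have r4 := r2.trans r3
      rwa [inv_mul_cancel_left] at r4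

/-- Strong fusion is decided by the constrained sections. -/
theorem ctlSF_of_sections (h𝓦 : ∀ W ∈ 𝓦, IsCharPFunctor.{u} p W) (G : Type u) [Group G] [Finite G]
    (hloc : ∀ (Y : Type u) [Group Y] [Finite Y], IsSectionOf G Y → PConstr p Y → CtlSF p 𝓦 Y) :
    CtlSF p 𝓦 G := by
  suffices key : ∀ (n : ℕ) (X : Type u) [Group X] [Finite X], Nat.card X = n →
      (∀ (Y : Type u) [Group Y] [Finite Y], IsSectionOf X Y → PConstr p Y → CtlSF p 𝓦 Y) →
      CtlSF p 𝓦 X from key _ G rfl hloc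
  intro n
  induction n using Nat.strong_induction_on with
  | _ n ih =>
    intro X _ _ hn hloc
    have hsub : ∀ H : Subgroup X, H ≠ ⊤ → CtlSF p 𝓦 ↥H := fun H hH =>
      ih _ (hn ▸ card_lt_of_ne_top hH) ↥H rfl fun Y _ _ hY => hloc Y hY.of_subgroup
    have hquot : ∀ (N : Subgroup X) [N.Normal], N ≠ ⊥ → CtlSF p 𝓦 (X ⧸ N) := fun N _ hN =>
      ih _ (hn ▸ card_quotient_lt hN) (X ⧸ N) rfl fun Y _ _ hY =>
        hloc Y (IsSectionOf.of_surjective (QuotientGroup.mk'_surjective N) hY)
    by_cases h0 : pPrimeCore p X = ⊥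
    swap
    · exact ctlSF_of_pprime h𝓦 (PBasic.pPrimeCore_coprime p X) (hquot _ h0)
    by_cases hC : PConstr p X
    · exact hloc X IsSectionOf.refl hC
    obtain ⟨S⟩ : Nonempty (Sylow p X) := inferInstance
    by_cases hT : pCore p X = ⊥
    · refine familySF_top_of_reach (strongFusion_local_to_global S.isPGroup' (indSet X 𝓦)
        (indSet_isConjugacyFunctor h𝓦) (Extremal p (S : Subgroup X)) (fun _ h => h)
        (fun _ hV hn => extremal_of_normal S hV hn) (fun _ _ hV => exists_extremal S hV)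
        fun V hV hext => ?_)
      exact familySF_of_ctl h𝓦 (hsub _ (normalizer_ne_top_of_not_le (S.isPGroup'.to_le hext.1)
        (by rw [hT, le_bot_iff]; exact hV)))
    obtain ⟨M, hM, hSM, hfac⟩ := exists_factorization S h0 hC
    refine familySF_top_of_reach (S := S) fun A g hA hgA => ?_
    set C := Subgroup.centralizer ((pCore p X : Subgroup X) : Set X) with hCdef
    have hBS : Subgroup.closure A ≤ (S : Subgroup X) := (Subgroup.closure_le _).2 hA
    have hgB : (Subgroup.closure A).map (cj g) ≤ (S : Subgroup X) := by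
      rw [MonoidHom.map_closure, Subgroup.closure_le]; exact hgA
    by_cases hL : C ⊔ (S : Subgroup X) = ⊤
    · have hne : (S : Subgroup X) ≠ pCore p X := fun e =>
        hC (centralizer_pCore_le_of_inf S h0 (inf_le_left.trans e.le))
      have hT' : (pCore p X).map (cj g) ≤ (S : Subgroup X) := by
        rintro _ ⟨t, ht, rfl⟩
        exact PBasic.pCore_le_sylow S ((Cfsg.pCore_normal p X).conj_mem t ht g)
      refine (reach_of_centralizer_sup h𝓦 S hne hL hsub (hquot _ hT)
        (B := Subgroup.closure A ⊔ pCore p X) le_sup_right (sup_le hBS (PBasic.pCore_le_sylow S)) ?_).mono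
        (Subgroup.subset_closure.trans (SetLike.coe_subset_coe.2 le_sup_left))
      rw [Subgroup.map_sup]
      exact sup_le hgB hT'
    · obtain ⟨m, hm, c, hc, rfl⟩ := hfac g
      obtain ⟨m', hm', l', hl', he, hle⟩ := conj_le_intermediate S hSM (le_sup_right (a := C)) hBS hm
        (Subgroup.mem_sup_left hc) hgB
      rw [he] at hgB ⊢
      have r1 := reach_of_ctl_subgroup h𝓦 S le_sup_right (hsub _ hL) hl' hBS
        (by rw [cj_image_coe]; exact hle)
      have r2 := reach_of_ctl_subgroup h𝓦 S hSM (hsub _ hM) hm'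
        (A := cj l' '' ((Subgroup.closure A : Subgroup X) : Set X)) (by rw [cj_image_coe]; exact hle)
        (by rw [cj_image_image, cj_image_coe]; exact hgB)
      exact (r1.trans r2).mono Subgroup.subset_closure

/-! ### transfer -/

/-- `T ∩ G' ≤ S'` when `G = C(T) S`. -/
theorem inf_commutator_le_of_centralizer_sup (S : Sylow p G) {T : Subgroup G} [hTn : T.Normal]
    (hTS : T ≤ (S : Subgroup G)) (hCS : Subgroup.centralizer (T : Set G) ⊔ (S : Subgroup G) = ⊤) :
    T ⊓ commutator G ≤ ⁅(S : Subgroup G), (S : Subgroup G)⁆ := by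
  set R := ⁅T, (S : Subgroup G)⁆ with hR
  have hRT : R ≤ T := Subgroup.commutator_le_left T _
  have hRS : R ≤ ⁅(S : Subgroup G), (S : Subgroup G)⁆ := Subgroup.commutator_mono hTS le_rfl
  haveI : R.Normal := by
    rw [← Subgroup.normalizer_eq_top_iff, eq_top_iff, ← hCS]
    refine sup_le ?_ (Subgroup.normalizer_commutator_ge_right T _)
    exact le_trans (Subgroup.centralizer_le hRT) (Subgroup.centralizer_le_normalizer _)
  set π := QuotientGroup.mk' R with hπ
  have hπs : Function.Surjective π := QuotientGroup.mk'_surjective R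
  set P : Sylow p (G ⧸ R) := S.mapSurjective hπs with hP
  intro t ht
  obtain ⟨htT, htc⟩ := Subgroup.mem_inf.1 ht
  have hcen : ∀ y : G ⧸ R, y * π t = π t * y := by
    intro y
    obtain ⟨g, rfl⟩ := hπs y
    obtain ⟨c, hc, s, hs, rfl⟩ := Subgroup.mem_sup_of_normal_left.1 (hCS.ge (Subgroup.mem_top g))
    have h1 : Commute (π c) (π t) :=
      (show Commute c t from (Subgroup.mem_centralizer_iff.1 hc t htT).symm).map π
    have h2 : Commute (π t) (π s) := by
      rw [← commutatorElement_eq_one_iff_commute, ← map_commutatorElement]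
      exact (QuotientGroup.eq_one_iff _).2 (Subgroup.commutator_mem_commutator htT hs)
    rw [map_mul]
    exact h1.mul_left h2.symm
  let φ : ↥(P : Subgroup (G ⧸ R)) →* Abelianization ↥(P : Subgroup (G ⧸ R)) := Abelianization.of
  have key : ∀ (k : ℕ) (g₀ : G ⧸ R), g₀⁻¹ * π t ^ k * g₀ ∈ (P : Subgroup (G ⧸ R)) →
      g₀⁻¹ * π t ^ k * g₀ = π t ^ k := by
    intro k g₀ _
    have : Commute g₀⁻¹ (π t ^ k) := Commute.pow_right (hcen g₀⁻¹) k
    rw [this.eq, inv_mul_cancel_right]
  have h0 : MonoidHom.transfer φ (π t) = 1 := by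
    have h : π t ∈ commutator (G ⧸ R) := by
      rw [commutator_def, ← Subgroup.map_top_of_surjective π hπs, ← Subgroup.map_commutator]
      exact ⟨t, htc, rfl⟩
    exact Abelianization.commutator_subset_ker _ h
  rw [MonoidHom.transfer_eq_pow φ (π t) key] at h0
  have hn : π t ^ (P : Subgroup (G ⧸ R)).index ∈ ⁅(P : Subgroup (G ⧸ R)), (P : Subgroup (G ⧸ R))⁆ := by
    rw [← Subgroup.map_subtype_commutator]
    exact ⟨_, (QuotientGroup.eq_one_iff _).1 h0, rfl⟩
  rw [show (P : Subgroup (G ⧸ R)) = (S : Subgroup G).map π from rfl, ← Subgroup.map_commutator] at hn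
  obtain ⟨z, hz, hze⟩ := hn
  have hpow : t ^ ((S : Subgroup G).map π).index ∈ ⁅(S : Subgroup G), (S : Subgroup G)⁆ := by
    have h3 : z⁻¹ * t ^ ((S : Subgroup G).map π).index ∈ R := by
      rw [← QuotientGroup.eq, QuotientGroup.mk_pow]
      exact hze
    simpa using mul_mem hz (hRS h3)
  have hcop : (orderOf t).Coprime ((S : Subgroup G).map π).index := by
    obtain ⟨k, hk⟩ := S.isPGroup' ⟨t, hTS htT⟩
    refine Nat.Coprime.coprime_dvd_left (orderOf_dvd_of_pow_eq_one
      (congrArg Subtype.val hk : t ^ p ^ k = 1)) (Nat.Coprime.pow_left k ?_)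
    exact (Fact.out : p.Prime).coprime_iff_not_dvd.2 P.not_dvd_index
  obtain ⟨m, hm⟩ := exists_pow_eq_self_of_coprime hcop.symm
  rw [← hm]
  exact pow_mem hpow m

/-- The inductive step for transfer once `O_p(G) ∩ G'` is known to be covered. -/
theorem inf_commutator_le_of_pCore_part (h𝓦 : ∀ W ∈ 𝓦, IsCharPFunctor.{u} p W) (S : Sylow p G)
    (hsub : ∀ H : Subgroup G, H ≠ ⊤ → CtlTR p 𝓦 ↥H)
    (hquot : (S : Subgroup G) ≠ pCore p G → CtlTR p 𝓦 (G ⧸ pCore p G))
    (hT : pCore p G ⊓ commutator G ≤ transferPart (indSet G 𝓦) ⊤ (S : Subgroup G)) :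
    (S : Subgroup G) ⊓ commutator G ≤ transferPart (indSet G 𝓦) ⊤ (S : Subgroup G) := by
  by_cases hne : (S : Subgroup G) = pCore p G
  · rw [hne] at hT ⊢; exact hT
  have hTS := PBasic.pCore_le_sylow (p := p) S
  set T := pCore p G with hTdef
  set π := QuotientGroup.mk' T with hπ
  have hπs : Function.Surjective π := QuotientGroup.mk'_surjective T
  set T₀ := transferPart (indSet G 𝓦) ⊤ (S : Subgroup G) with hT₀
  set Sb : Sylow p (G ⧸ T) := S.mapSurjective hπs with hSb
  have hq := tr_top_of_ctl h𝓦 Sb (hquot hne)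
  rw [show (Sb : Subgroup (G ⧸ T)) = (S : Subgroup G).map π from rfl] at hq
  have hle : transferPart (indSet (G ⧸ T) 𝓦) ⊤ ((S : Subgroup G).map π) ≤ T₀.map π := by
    refine iSup₂_le ?_
    rintro _ ⟨W, hW, rfl⟩
    set Wb := inducedFunctor W ((S : Subgroup G).map π) with hWb
    set J := Wb.comap π with hJ
    have hbS : IsPGroup p ↥((S : Subgroup G).map π) := S.isPGroup'.map π
    have hfun := inducedFunctor_isConjugacyFunctor (G := G ⧸ T) (h𝓦 W hW)
    have hJp : IsPGroup p ↥J := by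
      refine (hbS.to_le (conjFunctor_le hfun hbS)).comap_of_ker_isPGroup π ?_
      rw [hπ, QuotientGroup.ker_mk']; exact PBasic.pCore_isPGroup p G
    have hne' : (S : Subgroup G).map π ≠ ⊥ := by
      rw [Ne, Subgroup.map_eq_bot_iff, hπ, QuotientGroup.ker_mk']
      exact fun hle => hne (le_antisymm hle hTS)
    have hJT : ¬ J ≤ T := fun hle => by
      refine conjFunctor_ne_bot hfun hbS hne' (eq_bot_iff.2 fun z hz => ?_)
      obtain ⟨z, rfl⟩ := hπs z
      exact (QuotientGroup.eq_one_iff z).2 (hle hz)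
    have hNJ : Subgroup.normalizer (J : Set G) = (Subgroup.normalizer (Wb : Set (G ⧸ T))).comap π :=
      (Subgroup.comap_normalizer_eq_of_surjective Wb hπs).symm
    have hSJ : (S : Subgroup G) ≤ Subgroup.normalizer (J : Set G) := by
      rw [hNJ, ← Subgroup.map_le_iff_le_comap]
      exact le_normalizer_conjFunctor hfun hbS
    have hbound := inf_commutator_le_of_ctl_subgroup h𝓦 S hSJ
      (hsub _ (normalizer_ne_top_of_not_le hJp hJT))
    dsimp only
    rw [top_inf_eq, ← hWb, ← Subgroup.map_comap_eq_self_of_surjective hπs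
      (Subgroup.normalizer (Wb : Set (G ⧸ T))), ← hNJ, ← Subgroup.map_commutator]
    rintro _ ⟨⟨y, hy, rfl⟩, c, hc, hce⟩
    have hcy : c⁻¹ * y ∈ T := by rw [← QuotientGroup.eq]; exact hce
    have hcS : c ∈ (S : Subgroup G) := by
      have := mul_mem hy (inv_mem (hTS hcy))
      simpa [mul_assoc] using this
    exact ⟨c, hbound (Subgroup.mem_inf.2 ⟨hcS, hc⟩), hce⟩
  intro x hx
  obtain ⟨hxS, hxc⟩ := Subgroup.mem_inf.1 hx
  have hπx : π x ∈ (S : Subgroup G).map π ⊓ ⁅(⊤ : Subgroup (G ⧸ T)), ⊤⁆ := by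
    refine Subgroup.mem_inf.2 ⟨⟨x, hxS, rfl⟩, ?_⟩
    rw [← Subgroup.map_top_of_surjective π hπs, ← Subgroup.map_commutator]
    exact ⟨x, hxc, rfl⟩
  rw [hq] at hπx
  obtain ⟨z, hz, hze⟩ := hle hπx
  have hzT : z⁻¹ * x ∈ T := by rw [← QuotientGroup.eq]; exact hze
  have hzc : z ∈ commutator G := (transferPart_le _ _ _ hz).2
  have := mul_mem hz (hT (Subgroup.mem_inf.2 ⟨hzT, mul_mem (inv_mem hzc) hxc⟩))
  rwa [mul_inv_cancel_left] at this

/-- Transfer is decided by `O_p ∩ G'` in the constrained sections. -/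
theorem ctlTR_of_sections (h𝓦 : ∀ W ∈ 𝓦, IsCharPFunctor.{u} p W) (G : Type u) [Group G] [Finite G]
    (hloc : ∀ (Y : Type u) [Group Y] [Finite Y], IsSectionOf G Y → PConstr p Y →
      ∀ S : Sylow p Y, pCore p Y ⊓ commutator Y ≤ transferPart (indSet Y 𝓦) ⊤ (S : Subgroup Y)) :
    CtlTR p 𝓦 G := by
  suffices key : ∀ (n : ℕ) (X : Type u) [Group X] [Finite X], Nat.card X = n →
      (∀ (Y : Type u) [Group Y] [Finite Y], IsSectionOf X Y → PConstr p Y →
        ∀ S : Sylow p Y, pCore p Y ⊓ commutator Y ≤ transferPart (indSet Y 𝓦) ⊤ (S : Subgroup Y)) →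
      CtlTR p 𝓦 X from key _ G rfl hloc
  intro n
  induction n using Nat.strong_induction_on with
  | _ n ih =>
    intro X _ _ hn hloc
    have hsub : ∀ H : Subgroup X, H ≠ ⊤ → CtlTR p 𝓦 ↥H := fun H hH =>
      ih _ (hn ▸ card_lt_of_ne_top hH) ↥H rfl fun Y _ _ hY => hloc Y hY.of_subgroup
    have hquot : ∀ (N : Subgroup X) [N.Normal], N ≠ ⊥ → CtlTR p 𝓦 (X ⧸ N) := fun N _ hN =>
      ih _ (hn ▸ card_quotient_lt hN) (X ⧸ N) rfl fun Y _ _ hY =>
        hloc Y (IsSectionOf.of_surjective (QuotientGroup.mk'_surjective N) hY)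
    by_cases h0 : pPrimeCore p X = ⊥
    swap
    · exact ctlTR_of_pprime h𝓦 (PBasic.pPrimeCore_coprime p X) (hquot _ h0)
    obtain ⟨S⟩ : Nonempty (Sylow p X) := inferInstance
    have fin : (S : Subgroup X) ⊓ commutator X ≤ transferPart (indSet X 𝓦) ⊤ (S : Subgroup X) →
        CtlTR p 𝓦 X := fun h => (familyTR_iff _ ⊤).2 ⟨(S : Subgroup X), isSylowIn_sylow S,
      le_antisymm (by rw [← commutator_def]; exact h) (transferPart_le _ _ _)⟩
    have hq : pPrimeCore p X = ⊥ → (S : Subgroup X) ≠ pCore p X → pCore p X ≠ ⊥ → CtlTR p 𝓦 (X ⧸ pCore p X) :=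
      fun _ _ h => hquot _ h
    by_cases hT : pCore p X = ⊥
    · refine transfer_local_to_global S (indSet X 𝓦) (indSet_isConjugacyFunctor h𝓦)
        (Extremal p (S : Subgroup X)) (fun _ h => h)
        (fun _ hV hn => extremal_of_normal S hV hn) (fun _ _ hV => exists_extremal S hV)
        fun V hV hext => ?_
      exact familyTR_of_ctl h𝓦 (hsub _ (normalizer_ne_top_of_not_le (S.isPGroup'.to_le hext.1)
        (by rw [hT, le_bot_iff]; exact hV)))
    by_cases hC : PConstr p X
    · exact fin (inf_commutator_le_of_pCore_part h𝓦 S hsub (fun _ => hquot _ hT)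
        (hloc X IsSectionOf.refl hC S))
    obtain ⟨M, hM, hSM, hfac⟩ := exists_factorization S h0 hC
    set C := Subgroup.centralizer ((pCore p X : Subgroup X) : Set X) with hCdef
    by_cases hL : C ⊔ (S : Subgroup X) = ⊤
    · refine fin (inf_commutator_le_of_pCore_part h𝓦 S hsub (fun _ => hquot _ hT) ?_)
      have hSne : (S : Subgroup X) ≠ ⊤ := fun e => hC (centralizer_pCore_le_of_inf S h0
        (le_trans inf_le_left (PBasic.le_pCore (by rw [e]; infer_instance) S.isPGroup')))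
      refine le_trans ?_ (inf_commutator_le_of_ctl_subgroup h𝓦 S le_rfl (hsub _ hSne))
      exact le_inf (inf_le_left.trans (PBasic.pCore_le_sylow S))
        (inf_commutator_le_of_centralizer_sup S (PBasic.pCore_le_sylow S) hL)
    · refine familyTR_top_of_forall (S := S) (indSet X 𝓦) fun a g ha hga => ?_
      obtain ⟨m, hm, c, hc, rfl⟩ := hfac g
      have hBS : Subgroup.zpowers a ≤ (S : Subgroup X) := Subgroup.zpowers_le.2 ha
      obtain ⟨m', hm', l', hl', he, hle⟩ := conj_le_intermediate S hSM (le_sup_right (a := C)) hBS hm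
        (Subgroup.mem_sup_left hc) (by rw [MonoidHom.map_zpowers, Subgroup.zpowers_le]; exact hga)
      have hla : l' * a * l'⁻¹ ∈ (S : Subgroup X) := hle ⟨a, Subgroup.mem_zpowers a, rfl⟩
      rw [he] at hga ⊢
      have e : m' * l' * a * (m' * l')⁻¹ = m' * (l' * a * l'⁻¹) * m'⁻¹ := by group
      rw [e] at hga ⊢
      have h1 := inf_commutator_le_of_ctl_subgroup h𝓦 S le_sup_right (hsub _ hL)
        (mul_mem_transfer_step hl' ha (le_sup_right (a := C) ha) hla)
      have h2 := inf_commutator_le_of_ctl_subgroup h𝓦 S hSM (hsub _ hM)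
        (mul_mem_transfer_step hm' hla (hSM hla) hga)
      have := mul_mem h1 h2
      rwa [mul_assoc, mul_inv_cancel_left] at this

end Cfsg.Agent.Functors
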