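/-
Strongly closed subgroups `D` of a Sylow `p`-subgroup: the normalizer of `Z(J(D))` controls strong fusion in
groups with no `Qd(p)` section.
-/
import Cfsg.Agent.Lib.PLocal.ZJClosed
import Cfsg.Agent.Lib.Functors.SectionInduction
import Cfsg.Agent.Lib.Transfer.CoprimeQuotient
import Cfsg.Agent.Lib.PStable.Involved
import Cfsg.Agent.Lib.Solvable.Structure

set_option autoImplicit false
set_option linter.style.haveILetI false
set_option linter.unusedSectionVars false

namespace Cfsg.Agent.ClosedZJ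

open scoped commutatorElement

open Cfsg Cfsg.Agent.Functors

universe u

variable {G : Type u} [Group G] [Finite G] {p : ℕ} [Fact p.Prime] {e : Prop}

/-- The map `a ↦ g a g⁻¹` on `A` is induced by an element of `N`. -/
def Realised (N S : Subgroup G) (A : Set G) (g : G) : Prop :=
  A ⊆ S ∧ cj g '' A ⊆ S ∧ ∃ n ∈ N, ∀ a ∈ A, n * a * n⁻¹ = g * a * g⁻¹

theorem isMapRel_realised (N S : Subgroup G) : IsMapRel S (Realised N S) where
  sub h a ha := ⟨h.1 ha, h.2.1 ⟨a, ha, rfl⟩⟩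
  triv {A g} hA hg := ⟨hA, by rintro _ ⟨a, ha, rfl⟩; rw [cj_apply, hg a ha]; exact hA ha,
    1, one_mem N, fun a ha => by rw [hg a ha]; group⟩
  congr {A g k} h hk := by
    obtain ⟨h1, h2, n, hn, hna⟩ := h
    exact ⟨h1, (cj_image_congr hk).le.trans h2, n, hn, fun a ha => (hna a ha).trans (hk a ha).symm⟩
  mono {A B g} hBA h := by
    obtain ⟨h1, h2, n, hn, hna⟩ := h
    exact ⟨hBA.trans h1, (Set.image_mono hBA).trans h2, n, hn, fun a ha => hna a (hBA ha)⟩
  trans {A g h} r s := by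
    obtain ⟨h1, h2, n, hn, hna⟩ := r
    obtain ⟨-, k2, m, hm, hma⟩ := s
    refine ⟨h1, by rwa [cj_image_image] at k2, m * n, mul_mem hm hn, fun a ha => ?_⟩
    have e1 := hma _ ⟨a, ha, rfl⟩
    rw [cj_apply] at e1
    calc m * n * a * (m * n)⁻¹ = m * (n * a * n⁻¹) * m⁻¹ := by group
      _ = h * (g * a * g⁻¹) * h⁻¹ := by rw [hna a ha]; exact e1
      _ = h * g * a * (h * g)⁻¹ := by group
  symm {A g} r := by
    obtain ⟨h1, h2, n, hn, hna⟩ := r
    refine ⟨h2, by rw [cj_image_inv_image]; exact h1, n⁻¹, inv_mem hn, ?_⟩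
    rintro _ ⟨a, ha, rfl⟩
    rw [cj_apply]
    calc n⁻¹ * (g * a * g⁻¹) * n⁻¹⁻¹ = n⁻¹ * (n * a * n⁻¹) * n := by rw [hna a ha, inv_inv]
      _ = g⁻¹ * (g * a * g⁻¹) * g⁻¹⁻¹ := by group

theorem normalizer_le (D : Subgroup G) :
    Subgroup.normalizer (D : Set G) ≤ Subgroup.normalizer (ZJ.zCore p e D : Set G) :=
  (ZJ.normalizer_le_normalizer_zJ D).trans (ZJ.normalizer_zJ_le_normalizer_zCore D)

theorem sylow_le {S : Sylow p G} {D : Subgroup G} (hD : IsStronglyClosed D (S : Subgroup G)) :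
    (S : Subgroup G) ≤ Subgroup.normalizer (ZJ.zCore p e D : Set G) :=
  (ZJClosed.sylow_le_normalizer hD).trans (normalizer_le D)

theorem zCore_le (D : Subgroup G) : ZJ.zCore p e D ≤ D := (ZJ.zCore_le_zJ D).trans (ZJ.zJ_le D)

theorem inf_ne_bot {S : Sylow p G} {D : Subgroup G} (hD : IsStronglyClosed D (S : Subgroup G))
    (h1 : D ≠ ⊥) {T : Subgroup G}
    (hT : ((S : Subgroup G) ⊓ Subgroup.centralizer ((S : Subgroup G) : Set G)) ≤ T) : D ⊓ T ≠ ⊥ := by
  haveI hn : (D.subgroupOf (S : Subgroup G)).Normal :=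
    (Subgroup.normal_subgroupOf_iff_le_normalizer hD.1).2 (ZJClosed.sylow_le_normalizer hD)
  intro h0
  have hne : D.subgroupOf (S : Subgroup G) ≠ ⊥ := fun h => h1 (by
    rw [← Subgroup.map_subgroupOf_eq_of_le hD.1, h, Subgroup.map_bot])
  haveI : Group.IsNilpotent ↥(S : Subgroup G) := S.isPGroup'.isNilpotent
  obtain ⟨z, hzi, hz1⟩ :=
    ((D.subgroupOf (S : Subgroup G) ⊓ Subgroup.center _).bot_or_exists_ne_one).resolve_left
      (SolvStruct.inf_center_ne_bot hne)
  obtain ⟨hz, hzc⟩ := Subgroup.mem_inf.1 hzi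
  refine hz1 (Subtype.ext ?_)
  rw [Subgroup.coe_one, ← Subgroup.mem_bot, ← h0]
  exact Subgroup.mem_inf.2 ⟨hz, hT (Subgroup.mem_inf.2 ⟨z.2, fun y hy =>
    congrArg Subtype.val (Subgroup.mem_center_iff.1 hzc ⟨y, hy⟩)⟩)⟩

/-- All fusion in `S` is realised in `N(Z(J(D)))`. -/
def Ctl (p : ℕ) (e : Prop) (G : Type u) [Group G] : Prop :=
  ∀ (S : Sylow p G) (D : Subgroup G), IsStronglyClosed D (S : Subgroup G) →
    ∀ (A : Set G) (g : G), A ⊆ (S : Subgroup G) → cj g '' A ⊆ (S : Subgroup G) →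
      Realised (Subgroup.normalizer (ZJ.zCore p e D : Set G)) (S : Subgroup G) A g

/-- Control inside a subgroup. -/
theorem ctl_subgroup {H : Subgroup G} (hH : Ctl p e ↥H) (S : Sylow p G) {D : Subgroup G}
    (hD : IsStronglyClosed D (S : Subgroup G)) (hT : IsSylowIn p ((S : Subgroup G) ⊓ H) H)
    {A : Set G} {g : G} (hg : g ∈ H) (hA : A ⊆ ((S : Subgroup G) ⊓ H : Subgroup G))
    (hgA : cj g '' A ⊆ ((S : Subgroup G) ⊓ H : Subgroup G)) :
    ∃ n ∈ H ⊓ Subgroup.normalizer (ZJ.zCore p e (D ⊓ H) : Set G),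
      ∀ a ∈ A, n * a * n⁻¹ = g * a * g⁻¹ := by
  obtain ⟨Q, hQ⟩ := hT.exists_sylow
  have hQ' : ∀ x : ↥H, x ∈ (Q : Subgroup ↥H) ↔ (x : G) ∈ (S : Subgroup G) := fun x => by
    rw [hQ, Subgroup.mem_subgroupOf]
    exact ⟨fun h => (Subgroup.mem_inf.1 h).1, fun h => Subgroup.mem_inf.2 ⟨h, x.2⟩⟩
  have hDH : IsStronglyClosed (D.subgroupOf H) (Q : Subgroup ↥H) :=
    ⟨fun x hx => (hQ' x).2 (hD.1 hx), fun x hx y hy => hD.2 (x : G) hx (y : G) ((hQ' _).1 hy)⟩
  obtain ⟨-, -, n, hn, hna⟩ := hH Q _ hDH (H.subtype ⁻¹' A) ⟨g, hg⟩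
    (fun x hx => (hQ' x).2 (Subgroup.mem_inf.1 (hA hx)).1)
    (by
      rintro _ ⟨x, hx, rfl⟩
      exact (hQ' _).2 (Subgroup.mem_inf.1 (hgA ⟨(x : G), hx, rfl⟩)).1)
  refine ⟨n, Subgroup.mem_inf.2 ⟨n.2, ?_⟩, fun a ha => ?_⟩
  · have h1 := Subgroup.le_normalizer_map H.subtype (Subgroup.mem_map_of_mem H.subtype hn)
    rw [ZJ.zCore_map H.subtype H.subtype_injective.injOn, Subgroup.subgroupOf_map_subtype] at h1
    exact h1
  · exact congrArg Subtype.val (hna ⟨a, (Subgroup.mem_inf.1 (hA ha)).2⟩ ha)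

theorem realised_of_ge {H : Subgroup G} (hH : Ctl p e ↥H) (S : Sylow p G) {D : Subgroup G}
    (hD : IsStronglyClosed D (S : Subgroup G)) (hSH : (S : Subgroup G) ≤ H) {A : Set G} {g : G}
    (hg : g ∈ H) (hA : A ⊆ (S : Subgroup G)) (hgA : cj g '' A ⊆ (S : Subgroup G)) :
    Realised (Subgroup.normalizer (ZJ.zCore p e D : Set G)) (S : Subgroup G) A g := by
  obtain ⟨n, hn, hna⟩ := ctl_subgroup (A := A) (g := g) hH S hD
    (by rw [inf_eq_left.2 hSH]; exact (isSylowIn_sylow S).of_le hSH le_top) hg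
    (by rw [inf_eq_left.2 hSH]; exact hA) (by rw [inf_eq_left.2 hSH]; exact hgA)
  rw [inf_eq_left.2 (hD.1.trans hSH)] at hn
  exact ⟨hA, hgA, n, (Subgroup.mem_inf.1 hn).2, hna⟩

section quotient

variable {N : Subgroup G} [N.Normal]

theorem stronglyClosed_map (S : Sylow p G) {D : Subgroup G}
    (hD : IsStronglyClosed D (S : Subgroup G))
    (hN : (Nat.card ↥N).Coprime p ∨ N ≤ (S : Subgroup G)) :
    IsStronglyClosed (D.map (QuotientGroup.mk' N))
      (S.mapSurjective (QuotientGroup.mk'_surjective N) : Subgroup (G ⧸ N)) := by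
  set π := QuotientGroup.mk' N with hπ
  refine ⟨Subgroup.map_mono hD.1, ?_⟩
  rintro _ ⟨x, hx, rfl⟩ gb hgb
  obtain ⟨g, rfl⟩ := QuotientGroup.mk'_surjective N gb
  obtain ⟨s, hs, hse⟩ := hgb
  -- `g x g⁻¹` lies in `S N`; move it into `S` by an element of `N`
  have hy : (s : G)⁻¹ * (g * x * g⁻¹) ∈ N := QuotientGroup.eq.1 (hse.trans (by simp))
  have hyH : g * x * g⁻¹ ∈ (S : Subgroup G) ⊔ N := by
    have := mul_mem (Subgroup.mem_sup_left (T := N) hs) (Subgroup.mem_sup_right (S := (S : Subgroup G)) hy)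
    rwa [mul_inv_cancel_left] at this
  rcases hN with hN | hN
  · have hxp : IsPGroup p ↥(Subgroup.zpowers (g * x * g⁻¹)) := by
      have h1 : IsPGroup p ↥(Subgroup.zpowers x) :=
        S.isPGroup'.to_le (Subgroup.zpowers_le.2 (hD.1 hx))
      have h2 := h1.map (cj g)
      rwa [MonoidHom.map_zpowers, cj_apply] at h2
    obtain ⟨n, hn, hle⟩ := exists_conj_le_of_isSylowIn
      ((isSylowIn_sylow S).of_le (le_sup_left (b := N)) le_top) hxp (Subgroup.zpowers_le.2 hyH)
    obtain ⟨t, ht, m, hm, rfl⟩ := Subgroup.mem_sup_of_normal_right.1 hn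
    have h1 : t * m * (g * x * g⁻¹) * (t * m)⁻¹ ∈ (S : Subgroup G) :=
      hle ⟨_, Subgroup.mem_zpowers _, rfl⟩
    have h2 : m * g * x * (m * g)⁻¹ ∈ (S : Subgroup G) := by
      have := mul_mem (mul_mem (inv_mem ht) h1) ht
      simpa [mul_assoc] using this
    refine ⟨_, hD.2 x hx (m * g) h2, ?_⟩
    simp only [map_mul, map_inv, show QuotientGroup.mk' N m = 1 from (QuotientGroup.eq_one_iff m).2 hm, one_mul]
  · refine ⟨_, hD.2 x hx g ((sup_le le_rfl hN : (S : Subgroup G) ⊔ N ≤ _) hyH), ?_⟩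
    simp [hπ]

theorem ctl_pprime (hN : (Nat.card ↥N).Coprime p) (h : Ctl p e (G ⧸ N)) (S : Sylow p G)
    {D : Subgroup G} (hD : IsStronglyClosed D (S : Subgroup G)) (A : Set G) (g : G)
    (hA : A ⊆ (S : Subgroup G)) (hgA : cj g '' A ⊆ (S : Subgroup G)) :
    Realised (Subgroup.normalizer (ZJ.zCore p e D : Set G)) (S : Subgroup G) A g := by
  set π := QuotientGroup.mk' N with hπ
  have hπs : Function.Surjective π := QuotientGroup.mk'_surjective N
  have hker : (Nat.card π.ker).Coprime p := by rw [hπ, QuotientGroup.ker_mk']; exact hN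
  obtain ⟨-, -, nb, hnb, hna⟩ := h (S.mapSurjective hπs) _ (stronglyClosed_map S hD (Or.inl hN))
    (π '' A) (π g) (by rintro _ ⟨a, ha, rfl⟩; exact ⟨a, hA ha, rfl⟩)
    (by rintro _ ⟨_, ⟨a, ha, rfl⟩, rfl⟩; exact ⟨_, hgA ⟨a, ha, rfl⟩, by simp [hπ]⟩)
  set Z := ZJ.zCore p e D with hZ
  have hZp : IsPGroup p ↥Z := S.isPGroup'.to_le ((zCore_le D).trans hD.1)
  rw [← ZJ.zCore_map π ((CoprimeQuotient.injOn_of_coprime_ker π hker S.isPGroup').mono hD.1),
    CoprimeQuotient.normalizer_map π hπs hker hZp] at hnb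
  obtain ⟨n, hn, rfl⟩ := hnb
  set B := Subgroup.closure A with hB
  have hBS : B ≤ (S : Subgroup G) := (Subgroup.closure_le _).2 hA
  set L := Subgroup.normalizer (Z : Set G) ⊓ ((S : Subgroup G) ⊔ N) with hL
  have hBn : B.map (cj n) ≤ L := by
    rw [hB, MonoidHom.map_closure, Subgroup.closure_le]
    rintro _ ⟨a, ha, rfl⟩
    refine Subgroup.mem_inf.2 ⟨mul_mem (mul_mem hn (sylow_le hD (hA ha))) (inv_mem hn), ?_⟩
    have h1 : (g * a * g⁻¹)⁻¹ * (n * a * n⁻¹) ∈ N := by
      rw [← QuotientGroup.eq]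
      show π (g * a * g⁻¹) = π (n * a * n⁻¹)
      have h5 := hna _ ⟨a, ha, rfl⟩
      rw [← map_mul, ← map_inv, ← map_mul, ← map_mul, ← map_inv, ← map_mul] at h5
      exact h5.symm
    have h6 := mul_mem (Subgroup.mem_sup_left (T := N) (hgA ⟨a, ha, rfl⟩ : cj g a ∈ (S : Subgroup G)))
      (Subgroup.mem_sup_right (S := (S : Subgroup G)) h1)
    rw [cj_apply, mul_inv_cancel_left] at h6
    exact h6
  obtain ⟨m, hm, hle⟩ := exists_conj_le_of_isSylowIn
    ((isSylowIn_sylow S).of_le (le_inf (sylow_le hD) le_sup_left) le_top : IsSylowIn p (S : Subgroup G) L)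
    ((S.isPGroup'.to_le hBS).map _) hBn
  obtain ⟨s, hs, o, ho, rfl⟩ := Subgroup.mem_sup_of_normal_right.1 (Subgroup.mem_inf.1 hm).2
  have hoZ : o ∈ Subgroup.normalizer (Z : Set G) := by
    have := mul_mem (inv_mem (sylow_le hD hs)) (Subgroup.mem_inf.1 hm).1
    rwa [inv_mul_cancel_left] at this
  refine ⟨hA, hgA, o * n, mul_mem hoZ hn, fun a ha => ?_⟩
  have h2 : o * n * a * (o * n)⁻¹ ∈ (S : Subgroup G) := by
    have h3 : s * o * (n * a * n⁻¹) * (s * o)⁻¹ ∈ (S : Subgroup G) :=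
      hle ⟨_, ⟨a, Subgroup.subset_closure ha, rfl⟩, rfl⟩
    have := mul_mem (mul_mem (inv_mem hs) h3) hs
    simpa [mul_assoc] using this
  refine mk_injOn S hN h2 (hgA ⟨a, ha, rfl⟩) ?_
  have h4 := hna _ ⟨a, ha, rfl⟩
  rw [map_mul, map_mul, map_inv, map_mul, map_mul, map_mul, map_inv,
    show QuotientGroup.mk' N o = 1 from (QuotientGroup.eq_one_iff o).2 ho, one_mul]
  exact h4

end quotient

open Classical in
/-- `Q ↦ Z(J(Q ∩ ⋃ D^g))`. -/
noncomputable def relW (p : ℕ) (e : Prop) (D : Subgroup G) (Q : Subgroup G) : Subgroup G :=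
  if Subgroup.closure {x : G | x ∈ Q ∧ ∃ g : G, g * x * g⁻¹ ∈ D} = ⊥ then Q
  else ZJ.zCore p e (Subgroup.closure {x : G | x ∈ Q ∧ ∃ g : G, g * x * g⁻¹ ∈ D})

theorem relW_of_le {S : Sylow p G} {D : Subgroup G} (hD : IsStronglyClosed D (S : Subgroup G))
    {Q : Subgroup G} (hQ : Q ≤ (S : Subgroup G)) :
    Subgroup.closure {x : G | x ∈ Q ∧ ∃ g : G, g * x * g⁻¹ ∈ D} = D ⊓ Q := by
  refine le_antisymm ((Subgroup.closure_le _).2 ?_) fun x hx =>
    Subgroup.subset_closure ⟨(Subgroup.mem_inf.1 hx).2, 1, by simpa using (Subgroup.mem_inf.1 hx).1⟩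
  rintro x ⟨hxQ, g, hg⟩
  refine Subgroup.mem_inf.2 ⟨?_, hxQ⟩
  have h := hD.2 _ hg g⁻¹
  rw [show g⁻¹ * (g * x * g⁻¹) * g⁻¹⁻¹ = x by group] at h
  exact h (hQ hxQ)

theorem isConjugacyFunctor_relW (D : Subgroup G) : IsConjugacyFunctor p (relW p e D) := by
  intro Q hQ
  have hle : Subgroup.closure {x : G | x ∈ Q ∧ ∃ g : G, g * x * g⁻¹ ∈ D} ≤ Q :=
    (Subgroup.closure_le _).2 fun x hx => hx.1
  refine ⟨?_, ?_, fun h => ?_⟩
  · rw [relW]; split_ifs
    · exact le_rfl
    · exact (zCore_le _).trans hle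
  · intro hQ1
    rw [relW]; split_ifs with h
    · exact hQ1
    · exact ZJ.zCore_ne_bot (hQ.to_le hle) h
  · set c := (MulAut.conj h).toMonoidHom with hc
    have hS : Subgroup.closure {x : G | x ∈ Q.map c ∧ ∃ g : G, g * x * g⁻¹ ∈ D} =
        (Subgroup.closure {x : G | x ∈ Q ∧ ∃ g : G, g * x * g⁻¹ ∈ D}).map c := by
      rw [MonoidHom.map_closure]
      congr 1
      ext x
      constructor
      · rintro ⟨⟨y, hy, rfl⟩, g, hg⟩
        exact ⟨y, ⟨hy, g * h, by simpa [hc, mul_assoc] using hg⟩, rfl⟩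
      · rintro ⟨y, ⟨hy, g, hg⟩, rfl⟩
        exact ⟨⟨y, hy, rfl⟩, g * h⁻¹, by simpa [hc, mul_assoc] using hg⟩
    rw [relW, relW, hS]
    by_cases h0 : Subgroup.closure {x : G | x ∈ Q ∧ ∃ g : G, g * x * g⁻¹ ∈ D} = ⊥
    · rw [if_pos h0, if_pos (by rw [h0, Subgroup.map_bot])]
    · rw [if_neg h0, if_neg (by rwa [Subgroup.map_eq_bot_iff_of_injective _ (MulAut.conj h).injective]),
        ← ZJ.zCore_map _ (MulAut.conj h).injective.injOn]

/-- If every normalizer of a non-identity subgroup of `S` is controlled, then so is `G`. -/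
theorem realised_of_local (S : Sylow p G) {D : Subgroup G}
    (hD : IsStronglyClosed D (S : Subgroup G))
    (hloc : ∀ V : Subgroup G, V ≠ ⊥ → Extremal p (S : Subgroup G) V →
      ∀ (A : Set G) (g : G), g ∈ Subgroup.normalizer (V : Set G) →
        A ⊆ ((S : Subgroup G) ⊓ Subgroup.normalizer (V : Set G) : Subgroup G) →
        cj g '' A ⊆ ((S : Subgroup G) ⊓ Subgroup.normalizer (V : Set G) : Subgroup G) →
        ∃ n ∈ Subgroup.normalizer (V : Set G) ⊓ Subgroup.normalizer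
            (ZJ.zCore p e (D ⊓ Subgroup.normalizer (V : Set G)) : Set G),
          ∀ a ∈ A, n * a * n⁻¹ = g * a * g⁻¹)
    (A : Set G) (g : G) (hA : A ⊆ (S : Subgroup G)) (hgA : cj g '' A ⊆ (S : Subgroup G)) :
    Realised (Subgroup.normalizer (ZJ.zCore p e D : Set G)) (S : Subgroup G) A g := by
  by_cases hD1 : D = ⊥
  · refine ⟨hA, hgA, g, ?_, fun a _ => rfl⟩
    refine normalizer_le D ?_
    rw [hD1, Subgroup.normalizer_eq_top]
    exact Subgroup.mem_top g
  set R := Realised (Subgroup.normalizer (ZJ.zCore p e D : Set G)) (S : Subgroup G) with hRdef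
  have hR : IsMapRel (S : Subgroup G) R := isMapRel_realised _ _
  refine (local_to_global S.isPGroup' hR {relW p e D}
    (fun W hW => by rw [Set.mem_singleton_iff.1 hW]; exact isConjugacyFunctor_relW D)
    (fun V => ∀ (A : Set G) (g : G), g ∈ Subgroup.normalizer (V : Set G) →
      A ⊆ ((S : Subgroup G) ⊓ Subgroup.normalizer (V : Set G) : Subgroup G) →
      cj g '' A ⊆ ((S : Subgroup G) ⊓ Subgroup.normalizer (V : Set G) : Subgroup G) → R A g)
    (Extremal p (S : Subgroup G)) (fun _ h => h) (fun _ hV hn => extremal_of_normal S hV hn)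
    (fun _ _ hV => exists_extremal S hV) ?_ ?_ ?_).1 A g hA hgA
  · intro X _ hX hl x hx
    refine hl _ x hx (le_inf hX Subgroup.le_normalizer) ?_
    rw [cj_image_coe, map_cj_eq_iff.2 hx]
    exact le_inf hX Subgroup.le_normalizer
  · intro V h _ _ rh hl A g hg hA hgA
    have hh : ∀ a ∈ ((S : Subgroup G) ⊓ Subgroup.normalizer (V : Set G) : Subgroup G), h * a * h⁻¹ ∈
        ((S : Subgroup G) ⊓ Subgroup.normalizer (V.map (cj h) : Set G) : Subgroup G) := fun a ha =>
      Subgroup.mem_inf.2 ⟨(hR.sub rh a ha).2, by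
        rw [← map_cj_normalizer]; exact ⟨a, (Subgroup.mem_inf.1 ha).2, rfl⟩⟩
    have hx : h * g * h⁻¹ ∈ Subgroup.normalizer (V.map (cj h) : Set G) := by
      rw [← map_cj_normalizer]; exact ⟨g, hg, rfl⟩
    have r2 := hR.trans (hR.mono hA rh) (hl _ _ hx
      (by rintro _ ⟨a, ha, rfl⟩; exact hh a (hA ha))
      (by
        rintro _ ⟨_, ⟨a, ha, rfl⟩, rfl⟩
        have := hh _ (hgA ⟨a, ha, rfl⟩)
        simp only [cj_apply] at this ⊢
        rw [show h * g * h⁻¹ * (h * a * h⁻¹) * (h * g * h⁻¹)⁻¹ = h * (g * a * g⁻¹) * h⁻¹ by group]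
        exact this))
    have e1 : h * g * h⁻¹ * h = h * g := by group
    rw [e1] at r2
    have r3 : R (cj (h * g) '' A) h⁻¹ := by
      rw [← cj_image_image]; exact hR.symm (hR.mono hgA rh)
    have r4 := hR.trans r2 r3
    rwa [inv_mul_cancel_left] at r4
  · intro V hV hext hclimb A g hg hA hgA
    obtain ⟨n, hn, hna⟩ := hloc V hV hext A g hg hA hgA
    obtain ⟨hnV, hnW⟩ := Subgroup.mem_inf.1 hn
    set T := (S : Subgroup G) ⊓ Subgroup.normalizer (V : Set G) with hT
    have hDT : D ⊓ T = D ⊓ Subgroup.normalizer (V : Set G) := by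
      rw [hT, ← inf_assoc, inf_eq_left.2 hD.1]
    have hne : D ⊓ T ≠ ⊥ := inf_ne_bot hD hD1 (le_inf inf_le_left
      (inf_le_right.trans ((Subgroup.centralizer_le (SetLike.coe_subset_coe.2 hext.1)).trans
        (Subgroup.centralizer_le_normalizer _))))
    have hW : relW p e D T = ZJ.zCore p e (D ⊓ T) := by
      rw [relW, relW_of_le hD (inf_le_left : T ≤ _), if_neg hne]
    rcases hclimb _ (Set.mem_singleton _) with hTS | hl
    · refine ⟨hA.trans (SetLike.coe_subset_coe.2 inf_le_left),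
        hgA.trans (SetLike.coe_subset_coe.2 inf_le_left), n, ?_, hna⟩
      rw [← hDT, show D ⊓ T = D from inf_eq_left.2 (hD.1.trans hTS.ge)] at hnW
      exact hnW
    · have hTW : T ≤ (S : Subgroup G) ⊓ Subgroup.normalizer ((relW p e D T : Subgroup G) : Set G) :=
        le_inf inf_le_left (le_normalizer_conjFunctor (isConjugacyFunctor_relW D)
          (S.isPGroup'.to_le inf_le_left))
      refine hR.congr (hl A n (by rw [hW, hDT]; exact hnW) (hA.trans hTW) ?_) fun a ha => (hna a ha).symm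
      rw [cj_image_congr hna]; exact hgA.trans hTW

/-- If `G = C(O_p(G)) S`, an element of `N(B)` trivial on `B/O_p` acts like an element of `S`. -/
theorem exists_sylow_of_stab (S : Sylow p G)
    (hCS : Subgroup.centralizer ((pCore p G : Subgroup G) : Set G) ⊔ (S : Subgroup G) = ⊤)
    {B : Subgroup G} (hBS : B ≤ (S : Subgroup G))
    (hext : Extremal p (S : Subgroup G) B) {x : G} (hx : x ∈ Subgroup.normalizer (B : Set G))
    (hxT : ∀ u ∈ B, ⁅u, x⁆ ∈ pCore p G) :
    ∃ q ∈ (S : Subgroup G), q ∈ Subgroup.normalizer (B : Set G) ∧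
      ∀ b ∈ B, q * b * q⁻¹ = x * b * x⁻¹ := by
  set T := pCore p G with hT
  haveI : T.Normal := Cfsg.pCore_normal p G
  set C := Subgroup.centralizer (T : Set G) with hC
  haveI : C.Normal := inferInstance
  set E := Subgroup.normalizer (B : Set G) ⊓ ChiefAct.modCent B T with hE
  set CE := Subgroup.centralizer (B : Set G) with hCE
  have hnE : Subgroup.normalizer (B : Set G) ≤ Subgroup.normalizer (E : Set G) := by
    refine ChiefAct.inf_le_normalizer Subgroup.le_normalizer fun n hn =>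
      Subgroup.mem_normalizer_iff.2 fun z => ?_
    have key : ∀ n ∈ Subgroup.normalizer (B : Set G), ∀ z ∈ ChiefAct.modCent B T,
        n * z * n⁻¹ ∈ ChiefAct.modCent B T := by
      intro n hn z hz u hu
      rw [show ⁅u, n * z * n⁻¹⁆ = n * ⁅n⁻¹ * u * n, z⁆ * n⁻¹ by
        simp only [commutatorElement_def]; group]
      refine (Cfsg.pCore_normal p G).conj_mem _ (hz _ ?_) n
      simpa using (Subgroup.mem_normalizer_iff.1 (inv_mem hn) u).1 hu
    refine ⟨key n hn z, fun h => ?_⟩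
    simpa [mul_assoc] using key n⁻¹ (inv_mem hn) _ h
  have hcop : ∀ z ∈ E, (orderOf z).Coprime p → z ∈ CE := by
    intro z hz hzc
    obtain ⟨hzN, hzM⟩ := Subgroup.mem_inf.1 hz
    have hCS' : IsPGroup p (G ⧸ C) := fun q => by
      induction q using QuotientGroup.induction_on with
      | _ g =>
        obtain ⟨c, hc, s, hs, rfl⟩ := Subgroup.mem_sup_of_normal_left.1 (hCS.ge (Subgroup.mem_top g))
        obtain ⟨k, hk⟩ := S.isPGroup' ⟨s, hs⟩
        refine ⟨k, ?_⟩
        rw [QuotientGroup.mk_mul, (QuotientGroup.eq_one_iff c).2 hc, one_mul, ← QuotientGroup.mk_pow,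
          show s ^ p ^ k = 1 from congrArg Subtype.val hk, QuotientGroup.mk_one]
    have hzC : z ∈ C := (QuotientGroup.eq_one_iff z).1 (PBasic.isPGroup_iff_forall_coprime.1 hCS' _
      (Nat.Coprime.coprime_dvd_left (orderOf_map_dvd (QuotientGroup.mk' C) z) hzc))
    have h1 : ⁅B, Subgroup.zpowers z⁆ ≤ T := ChiefAct.commutator_zpowers_le_iff.2 hzM
    have h2 : ⁅T, Subgroup.zpowers z⁆ = ⊥ := by
      rw [Subgroup.commutator_comm, Subgroup.commutator_eq_bot_iff_le_centralizer, Subgroup.zpowers_le]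
      exact hzC
    have h3 : ⁅B, Subgroup.zpowers z⁆ = ⊥ := by
      rw [← LECoprime.commutator_commutator_eq (S.isPGroup'.to_le hBS) (ChiefAct.coprime_zpowers hzc)
        (Subgroup.zpowers_le.2 hzN), eq_bot_iff, ← h2]
      exact Subgroup.commutator_mono h1 le_rfl
    rw [Subgroup.commutator_comm, Subgroup.commutator_eq_bot_iff_le_centralizer] at h3
    exact h3 (Subgroup.mem_zpowers z)
  obtain ⟨Q, hQ⟩ := (hext.2.inf_normalized (inf_le_left : E ≤ _) hnE).exists_sylow
  haveI : (CE.subgroupOf E).Normal :=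
    ⟨fun c hc n => by
      rw [Subgroup.mem_subgroupOf] at hc ⊢
      rw [Subgroup.mem_centralizer_iff]
      intro b hb
      have hb' : (n : G)⁻¹ * b * n ∈ B := by
        simpa using (Subgroup.mem_normalizer_iff.1 (inv_mem (Subgroup.mem_inf.1 n.2).1) b).1 hb
      have h1 := Subgroup.mem_centralizer_iff.1 hc _ hb'
      push_cast
      calc b * ((n : G) * c * (n : G)⁻¹) = n * (((n : G)⁻¹ * b * n) * c) * (n : G)⁻¹ := by group
        _ = n * c * (n : G)⁻¹ * b := by rw [h1]; group⟩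
  have hq : IsPGroup p (↥E ⧸ CE.subgroupOf E) := fun q => by
    induction q using QuotientGroup.induction_on with
    | _ z =>
      obtain ⟨k, hk⟩ := ChiefAct.exists_pow_mem_of_coprime_mem hcop z.2
      refine ⟨k, ?_⟩
      rw [← QuotientGroup.mk_pow, QuotientGroup.eq_one_iff, Subgroup.mem_subgroupOf]
      simpa using hk
  obtain ⟨q, hq', c, hc, hqc⟩ := Subgroup.mem_sup_of_normal_right.1
    ((PBasic.sylow_sup_eq_top Q hq).ge (Subgroup.mem_top (⟨x, Subgroup.mem_inf.2 ⟨hx, hxT⟩⟩ : ↥E)))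
  rw [hQ, Subgroup.mem_subgroupOf] at hq'
  rw [Subgroup.mem_subgroupOf] at hc
  have e1 : (q : G) * c = x := congrArg Subtype.val hqc
  refine ⟨q, (Subgroup.mem_inf.1 (Subgroup.mem_inf.1 hq').1).1, (Subgroup.mem_inf.1 q.2).1,
    fun b hb => ?_⟩
  rw [← e1]
  calc (q : G) * b * (q : G)⁻¹ = q * (b * c) * (c : G)⁻¹ * (q : G)⁻¹ := by group
    _ = q * (c * b) * (c : G)⁻¹ * (q : G)⁻¹ := by rw [Subgroup.mem_centralizer_iff.1 hc b hb]
    _ = q * c * b * ((q : G) * c)⁻¹ := by group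

/-- The case `G = C(O_p(G)) S`. -/
theorem realised_of_centralizer_sup (S : Sylow p G) {D : Subgroup G}
    (hD : IsStronglyClosed D (S : Subgroup G))
    (hCS : Subgroup.centralizer ((pCore p G : Subgroup G) : Set G) ⊔ (S : Subgroup G) = ⊤)
    (hsub : ∀ H : Subgroup G, H ≠ ⊤ → Ctl p e ↥H) (hquot : Ctl p e (G ⧸ pCore p G))
    {B : Subgroup G} {g : G} (hTB : pCore p G ≤ B) (hBS : B ≤ (S : Subgroup G))
    (hgB : B.map (cj g) ≤ (S : Subgroup G)) :
    Realised (Subgroup.normalizer (ZJ.zCore p e D : Set G)) (S : Subgroup G) (B : Set G) g := by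
  suffices key : ∀ (d : ℕ) (B : Subgroup G) (g : G), Nat.card ↥(S : Subgroup G) ≤ d + Nat.card ↥B →
      pCore p G ≤ B → B ≤ (S : Subgroup G) → B.map (cj g) ≤ (S : Subgroup G) →
      Realised (Subgroup.normalizer (ZJ.zCore p e D : Set G)) (S : Subgroup G) (B : Set G) g from
    key _ B g (Nat.le_add_right _ _) hTB hBS hgB
  clear hgB hBS hTB g B
  intro d
  induction d using Nat.strong_induction_on with
  | _ d ihd =>
    intro B g hd hTB hBS hgB
    set N₀ := Subgroup.normalizer (ZJ.zCore p e D : Set G) with hN₀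
    set T := pCore p G with hT
    haveI : T.Normal := Cfsg.pCore_normal p G
    set π := QuotientGroup.mk' T with hπ
    have hπs : Function.Surjective π := QuotientGroup.mk'_surjective T
    have hTS : T ≤ (S : Subgroup G) := PBasic.pCore_le_sylow S
    by_cases hDT : D ≤ T
    · refine ⟨hBS, by rw [cj_image_coe]; exact hgB, g, normalizer_le D ?_, fun a _ => rfl⟩
      refine Subgroup.mem_normalizer_iff.2 fun x => ⟨fun hx => ?_, fun hx => ?_⟩
      · exact hD.2 x hx g (hTS (Subgroup.Normal.conj_mem inferInstance x (hDT hx) g))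
      · have h := hD.2 _ hx g⁻¹ (hTS (Subgroup.Normal.conj_mem inferInstance _ (hDT hx) g⁻¹))
        rwa [show g⁻¹ * (g * x * g⁻¹) * g⁻¹⁻¹ = x by group] at h
    -- lift from the quotient
    obtain ⟨-, -, nb, hnb, hna⟩ := hquot (S.mapSurjective hπs) _ (stronglyClosed_map S hD (Or.inr hTS))
      (π '' (B : Set G)) (π g) (by rintro _ ⟨a, ha, rfl⟩; exact ⟨a, hBS ha, rfl⟩)
      (by rintro _ ⟨_, ⟨a, ha, rfl⟩, rfl⟩; exact ⟨_, hgB ⟨a, ha, rfl⟩, by simp [hπ]⟩)
    set Wb := ZJ.zCore p e (D.map π) with hWb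
    set J := Wb.comap π with hJ
    obtain ⟨n, rfl⟩ := hπs nb
    have hnJ : n ∈ Subgroup.normalizer (J : Set G) := by
      rw [hJ, ← Subgroup.comap_normalizer_eq_of_surjective Wb hπs]; exact hnb
    have hDb : IsPGroup p ↥(D.map π) := (S.isPGroup'.to_le hD.1).map π
    have hDbne : D.map π ≠ ⊥ := by
      rw [Ne, Subgroup.map_eq_bot_iff, hπ, QuotientGroup.ker_mk']; exact hDT
    have hJp : IsPGroup p ↥J := by
      refine (hDb.to_le (zCore_le _)).comap_of_ker_isPGroup π ?_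
      rw [hπ, QuotientGroup.ker_mk']; exact PBasic.pCore_isPGroup p G
    have hJT : ¬ J ≤ T := fun hle => ZJ.zCore_ne_bot (e := e) hDb hDbne (eq_bot_iff.2 fun z hz => by
      obtain ⟨z, rfl⟩ := hπs z
      exact (QuotientGroup.eq_one_iff z).2 (hle hz))
    have hSJ : (S : Subgroup G) ≤ Subgroup.normalizer (J : Set G) := by
      rw [hJ, ← Subgroup.comap_normalizer_eq_of_surjective Wb hπs, ← Subgroup.map_le_iff_le_comap]
      exact sylow_le (S := S.mapSurjective hπs) (stronglyClosed_map S hD (Or.inr hTS))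
    have hdiff : ∀ b ∈ B, (n * b * n⁻¹)⁻¹ * (g * b * g⁻¹) ∈ T := fun b hb => by
      rw [← QuotientGroup.eq]
      show π (n * b * n⁻¹) = π (g * b * g⁻¹)
      have h5 := hna _ ⟨b, hb, rfl⟩
      rw [← map_mul, ← map_inv, ← map_mul, ← map_mul, ← map_inv, ← map_mul] at h5
      exact h5
    have hnB : cj n '' (B : Set G) ⊆ (S : Subgroup G) := by
      rintro _ ⟨b, hb, rfl⟩
      show cj n b ∈ (S : Subgroup G)
      have h6 := mul_mem (hgB ⟨b, hb, rfl⟩) (inv_mem (hTS (hdiff b hb)))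
      rw [cj_apply, mul_inv_rev, inv_inv, mul_inv_cancel_left] at h6
      exact h6
    obtain ⟨-, -, g', hg', hg'a⟩ := realised_of_ge (hsub _ (normalizer_ne_top_of_not_le hJp hJT)) S hD
      hSJ hnJ hBS hnB
    set B' := B.map (cj g') with hB'
    have hTB' : T ≤ B' := fun t ht =>
      mem_map_cj.2 (hTB (by simpa using Subgroup.Normal.conj_mem inferInstance t ht g'⁻¹))
    have hB'S : B' ≤ (S : Subgroup G) := by
      rintro _ ⟨b, hb, rfl⟩
      rw [cj_apply, hg'a b hb]; exact hnB ⟨b, hb, rfl⟩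
    have hdiff' : ∀ b ∈ B, (g' * b * g'⁻¹)⁻¹ * (g * b * g⁻¹) ∈ T := fun b hb => by
      rw [hg'a b hb]; exact hdiff b hb
    set x := g * g'⁻¹ with hx
    have hxB : B'.map (cj x) = B' := by
      refine Subgroup.eq_of_le_of_card_ge ?_ (card_map_cj _ _).ge
      rw [hB', map_map_cj, hx, inv_mul_cancel_right]
      rintro _ ⟨b, hb, rfl⟩
      have h1 : g' * b * g'⁻¹ ∈ B' := ⟨b, hb, rfl⟩
      have h2 := mul_mem h1 (hTB' (hdiff' b hb))
      rw [mul_inv_cancel_left] at h2
      exact h2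
    have hxT : ∀ u ∈ B', ⁅u, x⁆ ∈ T := by
      rintro _ ⟨b, hb, rfl⟩
      have h1 := inv_mem (Subgroup.Normal.conj_mem inferInstance _ (hdiff' b hb) (g' * b * g'⁻¹))
      convert h1 using 1
      simp only [cj_apply, hx, commutatorElement_def]
      group
    suffices rx : ∃ m ∈ N₀, ∀ b ∈ B', m * b * m⁻¹ = x * b * x⁻¹ by
      obtain ⟨m, hm, hma⟩ := rx
      refine ⟨hBS, by rw [cj_image_coe]; exact hgB, m * g', mul_mem hm hg', fun b hb => ?_⟩
      calc m * g' * b * (m * g')⁻¹ = m * (g' * b * g'⁻¹) * m⁻¹ := by group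
        _ = x * (g' * b * g'⁻¹) * x⁻¹ := hma _ ⟨b, hb, rfl⟩
        _ = g * b * g⁻¹ := by rw [hx]; group
    have hxN := map_cj_eq_iff.1 hxB
    by_cases hext : Extremal p (S : Subgroup G) B'
    · obtain ⟨q, hq, -, hqa⟩ := exists_sylow_of_stab S hCS hB'S hext hxN hxT
      exact ⟨q, sylow_le hD hq, hqa⟩
    · have hlt : B' < (S : Subgroup G) := lt_of_le_of_ne hB'S fun h => hext (by
        rw [h]; exact extremal_of_normal S le_rfl Subgroup.le_normalizer)
      set P := (S : Subgroup G) ⊓ Subgroup.normalizer (B' : Set G) with hP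
      have hcard : Nat.card ↥B < Nat.card ↥P := by
        rw [← card_map_cj B g', ← hB']
        exact Nat.lt_of_not_ge fun hle => (lt_inf_normalizer_of_lt S.isPGroup' hlt).ne
          (Subgroup.eq_of_le_of_card_ge (le_inf hB'S Subgroup.le_normalizer) hle)
      have hdpos : 0 < d := by
        by_contra h0
        have := Subgroup.card_le_of_le (show P ≤ (S : Subgroup G) from inf_le_left)
        omega
      obtain ⟨h, hh, hhle⟩ := exists_extremal S hB'S
      obtain ⟨-, -, h₀, hh₀, hh₀a⟩ := ihd (d - 1) (by omega) P h (by omega)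
        (hTB'.trans (le_inf hB'S Subgroup.le_normalizer)) inf_le_left hhle
      have hBP : B' ≤ P := le_inf hB'S Subgroup.le_normalizer
      obtain ⟨q, hq, hqN, hqa⟩ := exists_sylow_of_stab S hCS hh.1 hh
        (x := h * x * h⁻¹) (by rw [← map_cj_normalizer]; exact ⟨x, hxN, rfl⟩) (by
          rintro _ ⟨u, hu, rfl⟩
          have h1 := Subgroup.Normal.conj_mem inferInstance _ (hxT u hu) h
          convert h1 using 1
          simp only [cj_apply, commutatorElement_def]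
          group)
      refine ⟨h₀⁻¹ * q * h₀, mul_mem (mul_mem (inv_mem hh₀) (sylow_le hD hq)) hh₀, fun b hb => ?_⟩
      have h1 := hqa _ ⟨b, hb, rfl⟩
      rw [cj_apply] at h1
      have hxb : x * b * x⁻¹ ∈ B' := hxB.le ⟨b, hb, rfl⟩
      calc h₀⁻¹ * q * h₀ * b * (h₀⁻¹ * q * h₀)⁻¹ = h₀⁻¹ * (q * (h₀ * b * h₀⁻¹) * q⁻¹) * h₀ := by group
        _ = h₀⁻¹ * (h * (x * b * x⁻¹) * h⁻¹) * h₀ := by
            rw [hh₀a b (hBP hb), h1]; group
        _ = h₀⁻¹ * (h₀ * (x * b * x⁻¹) * h₀⁻¹) * h₀ := by rw [hh₀a _ (hBP hxb)]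
        _ = x * b * x⁻¹ := by group

/-- **`N(Z(J(D)))` controls strong fusion** when `Qd(p)` is not involved. -/
theorem ctl_of_not_involves (hp : p ≠ 2) (hqd : ¬ Involves ↥(qd p) G) : Ctl p e G := by
  suffices key : ∀ (n : ℕ) (X : Type u) [Group X] [Finite X], Nat.card X = n →
      ¬ Involves ↥(qd p) X → Ctl p e X from key _ G rfl hqd
  intro n
  induction n using Nat.strong_induction_on with
  | _ n ih =>
    intro X _ _ hn hX S D hD A g hA hgA
    have hsub : ∀ H : Subgroup X, H ≠ ⊤ → Ctl p e ↥H := fun H hH =>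
      ih _ (hn ▸ card_lt_of_ne_top hH) ↥H rfl fun h => hX (PStable.involves_of_subgroup h)
    have hquot : ∀ (N : Subgroup X) [N.Normal], N ≠ ⊥ → Ctl p e (X ⧸ N) := fun N _ hN =>
      ih _ (hn ▸ card_quotient_lt hN) (X ⧸ N) rfl
        fun h => hX (PStable.involves_of_quotient (QuotientGroup.mk' N) (QuotientGroup.mk'_surjective N) h)
    by_cases h0 : pPrimeCore p X = ⊥
    swap
    · exact ctl_pprime (PBasic.pPrimeCore_coprime p X) (hquot _ h0) S hD A g hA hgA
    by_cases hC : PConstr p X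
    · haveI := ZJClosed.zCore_normal hp (PStable.isQuad_of_not_involves hp hX) hC S hD e
      exact ⟨hA, hgA, g, by rw [Subgroup.normalizer_eq_top]; exact Subgroup.mem_top g, fun a _ => rfl⟩
    by_cases hT : pCore p X = ⊥
    · refine realised_of_local S hD (fun V hV hext A g hg hA hgA => ?_) A g hA hgA
      have hne := normalizer_ne_top_of_not_le (S.isPGroup'.to_le hext.1)
        (by rw [hT, le_bot_iff]; exact hV)
      exact ctl_subgroup (hsub _ hne) S hD hext.2 hg hA hgA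
    set C := Subgroup.centralizer ((pCore p X : Subgroup X) : Set X) with hCdef
    have hBS : Subgroup.closure A ≤ (S : Subgroup X) := (Subgroup.closure_le _).2 hA
    have hgB : (Subgroup.closure A).map (cj g) ≤ (S : Subgroup X) := by
      rw [MonoidHom.map_closure, Subgroup.closure_le]; exact hgA
    by_cases hL : C ⊔ (S : Subgroup X) = ⊤
    · have hT' : (pCore p X).map (cj g) ≤ (S : Subgroup X) := by
        rintro _ ⟨t, ht, rfl⟩
        exact PBasic.pCore_le_sylow S ((Cfsg.pCore_normal p X).conj_mem t ht g)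
      exact (isMapRel_realised _ _).mono (Subgroup.subset_closure.trans
        (SetLike.coe_subset_coe.2 le_sup_left))
        (realised_of_centralizer_sup S hD hL hsub (hquot _ hT) (B := Subgroup.closure A ⊔ pCore p X)
          le_sup_right (sup_le hBS (PBasic.pCore_le_sylow S)) (by rw [Subgroup.map_sup]; exact sup_le hgB hT'))
    · obtain ⟨M, hM, hSM, hfac⟩ := exists_factorization S h0 hC
      obtain ⟨m, hm, c, hc, rfl⟩ := hfac g
      obtain ⟨m', hm', l', hl', he, hle⟩ := conj_le_intermediate S hSM (le_sup_right (a := C)) hBS hm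
        (Subgroup.mem_sup_left hc) hgB
      rw [he] at hgB ⊢
      have r1 := realised_of_ge (hsub _ hL) S hD le_sup_right hl' hBS
        (by rw [cj_image_coe]; exact hle)
      have r2 := realised_of_ge (hsub _ hM) S hD hSM hm'
        (A := cj l' '' ((Subgroup.closure A : Subgroup X) : Set X)) (by rw [cj_image_coe]; exact hle)
        (by rw [cj_image_image, cj_image_coe]; exact hgB)
      exact (isMapRel_realised _ _).mono Subgroup.subset_closure ((isMapRel_realised _ _).trans r1 r2)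

theorem controlsStrongFusionOf {S : Sylow p G} {D : Subgroup G} (hD : IsStronglyClosed D (S : Subgroup G))
    (h : Ctl p e G) (A : Set G) (hA : A ⊆ (S : Subgroup G)) :
    ControlsStrongFusionOf (Subgroup.normalizer (ZJ.zCore p e D : Set G)) (S : Subgroup G) A := by
  refine ⟨hA, fun g hg => ?_⟩
  obtain ⟨-, -, n, hn, hna⟩ := h S D hD A g hA hg
  exact ⟨n, hn, fun a ha => (hna a ha).symm⟩

theorem centerThompsonAOf_eq_zCore (D : Subgroup G) : centerThompsonAOf D = ZJ.zCore p False D := by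
  rw [ZJ.centerThompsonAOf_eq (p := p), ZJ.zCore_eq_zJ not_false]

theorem omegaOne_eq_zCore (D : Subgroup G) :
    omegaOne p (centerThompsonOf p D) = ZJ.zCore p True D := by
  rw [ZJ.centerThompsonOf_eq, ZJ.omegaOne_zJ]

end Cfsg.Agent.ClosedZJ
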