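import Cfsg.Agent.Lib.Functors.ChiefP

/-!
Degree of nilpotency of an element on the chief factors of a `p`-group, read off a class two
characteristic subgroup.
-/

set_option autoImplicit false
set_option linter.style.haveILetI false
set_option linter.unusedSectionVars false

namespace Cfsg.Agent.ChiefAct

open Cfsg
open scoped commutatorElement

variable {G : Type*} [Group G]

/-- The identity behind the pairing: `[gwg⁻¹, [n, g]]` against `[[w, n], g]` and `[[w, g], n]`,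
modulo a normal subgroup on the quotient by which everything in sight commutes. -/
theorem pairing_step {H : Type*} [Group H] (g w n : H)
    (h1 : Commute n ⁅g * w * g⁻¹, g * n⁻¹ * g⁻¹⁆) (h2 : Commute n ⁅w, n⁆)
    (h3 : Commute w ⁅g * w⁻¹ * g⁻¹, n⁆) (h4 : Commute (g * w * g⁻¹) ⁅g * w⁻¹ * g⁻¹, n⁆)
    (h6 : Commute ⁅w, n⁆ (g * ⁅w, n⁆⁻¹ * g⁻¹))
    (h7 : Commute ⁅g * w * g⁻¹, n⁆ (g * ⁅w, n⁆⁻¹ * g⁻¹)) :
    ⁅g * w * g⁻¹, ⁅n, g⁆⁆ = ⁅⁅w, n⁆, g⁆ * ⁅⁅w, g⁆, n⁆⁻¹ := by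
  have eA : ⁅g * w * g⁻¹, ⁅n, g⁆⁆ = ⁅g * w * g⁻¹, n⁆ * (g * ⁅w, n⁆⁻¹ * g⁻¹) := by
    rw [show ⁅g * w * g⁻¹, ⁅n, g⁆⁆ =
        ⁅g * w * g⁻¹, n⁆ * (n * ⁅g * w * g⁻¹, g * n⁻¹ * g⁻¹⁆ * n⁻¹) by
      simp only [commutatorElement_def]; group]
    rw [h1.eq, mul_inv_cancel_right,
      show ⁅g * w * g⁻¹, g * n⁻¹ * g⁻¹⁆ = g * (n⁻¹ * ⁅w, n⁆⁻¹ * n) * g⁻¹ by
        simp only [commutatorElement_def]; group]
    rw [show n⁻¹ * ⁅w, n⁆⁻¹ * n = ⁅w, n⁆⁻¹ by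
      rw [mul_assoc, ← h2.inv_right.eq, inv_mul_cancel_left]]
  have eB : ⁅⁅w, n⁆, g⁆ = ⁅w, n⁆ * (g * ⁅w, n⁆⁻¹ * g⁻¹) := by
    simp only [commutatorElement_def]; group
  have eC : ⁅⁅w, g⁆, n⁆ = ⁅g * w⁻¹ * g⁻¹, n⁆ * ⁅w, n⁆ := by
    rw [show ⁅⁅w, g⁆, n⁆ = (w * ⁅g * w⁻¹ * g⁻¹, n⁆ * w⁻¹) * ⁅w, n⁆ by
      simp only [commutatorElement_def]; group]
    rw [h3.eq, mul_inv_cancel_right]
  have eD : ⁅g * w⁻¹ * g⁻¹, n⁆ = ⁅g * w * g⁻¹, n⁆⁻¹ := by
    refine eq_inv_of_mul_eq_one_left ?_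
    calc ⁅g * w⁻¹ * g⁻¹, n⁆ * ⁅g * w * g⁻¹, n⁆
        = (g * w * g⁻¹ * ⁅g * w⁻¹ * g⁻¹, n⁆ * (g * w * g⁻¹)⁻¹) * ⁅g * w * g⁻¹, n⁆ := by
          rw [h4.eq, mul_inv_cancel_right]
      _ = 1 := by simp only [commutatorElement_def]; group
  rw [eA, eB, eC, eD, mul_inv_rev, inv_inv, ← mul_assoc (⁅w, n⁆ * _), h6.eq,
    mul_inv_cancel_right, h7.eq]

variable [Finite G] {p : ℕ} [Fact p.Prime]

theorem iterCommutator_le_of_pairing {P Q : Subgroup G} [hPn : P.Normal] [hQn : Q.Normal]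
    (hP : IsPGroup p ↥P) (hQP : Q ≤ P)
    (hQ3 : ⁅P, Q⁆ ≤ Q ⊓ Subgroup.centralizer (Q : Set G))
    (hQ4 : P ⊓ Subgroup.centralizer (Q : Set G) ≤ Q)
    (g : G) (i j : ℕ) (hi : 1 ≤ i) (hj : 1 ≤ j)
    (hQi : ∀ U V : Subgroup G, IsChiefFactor U V → U ≤ Q → iterCommutator U (Subgroup.zpowers g) i ≤ V)
    (hZj : ∀ U V : Subgroup G, IsChiefFactor U V → U ≤ Q ⊓ Subgroup.centralizer (Q : Set G) →
      iterCommutator U (Subgroup.zpowers g) j ≤ V)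
    (X Y : Subgroup G) (hXY : IsChiefFactor X Y) (hXP : X ≤ P) :
    iterCommutator X (Subgroup.zpowers g) (i + j - 1) ≤ Y := by
  set Z := Q ⊓ Subgroup.centralizer (Q : Set G) with hZdef
  have hab := commutator_self_le_of_chief hP hXY hXP
  haveI := hXY.2.1; haveI := hXY.2.2.1
  have hlt := hXY.1
  rw [iterCommutator_le_iff hlt.le hab le_rfl]
  -- the factor seen inside any normal `N` supplementing `Y` in `X`
  have hfac : ∀ N : Subgroup G, N.Normal → N ≤ X → N ⊔ Y = X → IsChiefFactor N (N ⊓ Y) := by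
    intro N hN hNX hNY
    haveI := hN
    refine ⟨lt_of_le_of_ne inf_le_left fun e => hlt.ne' (by rw [← hNY, sup_eq_right.2 (inf_eq_left.1 e)]),
      hN, inferInstance, fun R hR hle hRN => ?_⟩
    haveI := hR
    rcases hXY.2.2.2 (R ⊔ Y) inferInstance le_sup_right (sup_le (hRN.trans hNX) hlt.le) with h | h
    · exact Or.inl (le_antisymm (le_inf hRN (le_sup_left.trans h.le)) hle)
    · refine Or.inr (le_antisymm hRN fun z hz => ?_)
      obtain ⟨r, hr, y, hy, rfl⟩ := Subgroup.mem_sup_of_normal_right.1 (h.ge (hNX hz))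
      have : y ∈ N := by simpa using mul_mem (inv_mem (hRN hr)) hz
      exact mul_mem hr (hle (Subgroup.mem_inf.2 ⟨this, hy⟩))
  have hred : ∀ N : Subgroup G, N.Normal → N ≤ X → N ⊔ Y = X → ∀ n : ℕ,
      (∀ u ∈ N, (dg g)^[n] u ∈ Y) → ∀ u ∈ X, (dg g)^[n] u ∈ Y := by
    intro N hN hNX hNY n h u hu
    haveI := hN
    obtain ⟨R, hYR, hRX, hR⟩ := exists_dker X Y hlt.le hab g n
    have hle : X ≤ R := hNY ▸ sup_le (fun v hv => (hR v (hNX hv)).2 (h v hv)) hYR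
    exact (hR u hu).1 (hle hu)
  by_cases hXQ : X ⊓ Q ≤ Y
  swap
  · -- the factor lives in `Q`
    have hsup : (X ⊓ Q) ⊔ Y = X := by
      rcases hXY.2.2.2 ((X ⊓ Q) ⊔ Y) inferInstance le_sup_right (sup_le inf_le_left hlt.le) with h | h
      · exact absurd (le_sup_left.trans h.le) hXQ
      · exact h
    refine hred _ inferInstance inf_le_left hsup _ fun u hu => ?_
    have h1 : ∀ n, i ≤ n → (dg g)^[n] u ∈ X ⊓ Q ⊓ Y := by
      intro n hn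
      obtain ⟨k, rfl⟩ := Nat.exists_eq_add_of_le' hn
      rw [Function.iterate_add_apply]
      exact dg_iterate_mem (hQi _ _ (hfac _ inferInstance inf_le_left hsup) inf_le_right
        (dg_iterate_mem_iterCommutator hu i)) k
    exact (Subgroup.mem_inf.1 (h1 _ (by omega))).2
  obtain ⟨N, ⟨hNn, hNX, hNY⟩, hNmin⟩ := (Set.toFinite
    {N : Subgroup G | N.Normal ∧ N ≤ X ∧ N ⊔ Y = X}).exists_minimal
    ⟨X, hXY.2.1, le_rfl, sup_eq_left.2 hlt.le⟩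
  haveI := hNn
  refine hred N hNn hNX hNY _ fun x hx => ?_
  have hNP : N ≤ P := hNX.trans hXP
  have hsmall : ∀ R : Subgroup G, R.Normal → R ≤ N → R ≠ N → R ≤ Y := by
    intro R hR hRN hne
    haveI := hR
    rcases hXY.2.2.2 (R ⊔ Y) inferInstance le_sup_right (sup_le (hRN.trans hNX) hlt.le) with h | h
    · exact le_sup_left.trans h.le
    · exact absurd (le_antisymm hRN (hNmin ⟨hR, hRN.trans hNX, h⟩ hRN)) hne
  have hQN : ⁅Q, N⁆ ≤ Z := by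
    rw [Subgroup.commutator_comm]; exact (Subgroup.commutator_mono hNP le_rfl).trans hQ3
  -- the bottom of the pairing
  obtain ⟨V₂, ⟨hV₂n, hV₂Z, hV₂ne⟩, hV₂max⟩ := (Set.toFinite
    {V : Subgroup G | V.Normal ∧ V ≤ Z ∧ ¬ ⁅Q, N⁆ ≤ V}).exists_maximal
    ⟨⊥, inferInstance, bot_le, fun h => by
      rw [le_bot_iff, Subgroup.commutator_comm, Subgroup.commutator_eq_bot_iff_le_centralizer] at h
      have hNQ : N ≤ Q := (le_inf hNP h).trans hQ4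
      exact hlt.ne' (hNY ▸ sup_eq_right.2 ((le_inf hNX hNQ).trans hXQ))⟩
  haveI := hV₂n
  obtain ⟨V₁, ⟨hV₁n, hV₂V₁, hV₁Z⟩, hV₁min⟩ := (Set.toFinite
    {V : Subgroup G | V.Normal ∧ V₂ < V ∧ V ≤ Z}).exists_minimal
    ⟨Z, inferInstance, lt_of_le_of_ne hV₂Z (fun e => hV₂ne (e ▸ hQN)), le_rfl⟩
  haveI := hV₁n
  have hVch : IsChiefFactor V₁ V₂ := ⟨hV₂V₁, hV₁n, hV₂n, fun R hR hle hRV => by
    rcases eq_or_lt_of_le hle with h | h
    · exact Or.inl h.symm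
    · exact Or.inr (le_antisymm hRV (hV₁min ⟨hR, h, hRV.trans hV₁Z⟩ hRV))⟩
  have hQV₁ : ⁅Q, N⁆ ≤ V₁ := by
    by_contra h
    exact hV₂V₁.not_ge (hV₂max ⟨hV₁n, hV₁Z, h⟩ hV₂V₁.le)
  -- the top of the pairing
  obtain ⟨U₁, ⟨hU₁n, hU₁Q, hU₁ne⟩, hU₁min⟩ := (Set.toFinite
    {U : Subgroup G | U.Normal ∧ U ≤ Q ∧ ¬ ⁅U, N⁆ ≤ V₂}).exists_minimal ⟨Q, hQn, le_rfl, hV₂ne⟩
  haveI := hU₁n
  obtain ⟨U₂, -, hU₂⟩ := exists_chiefFactor_above (G := G) (Z := ⊥) (A := U₁)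
    (bot_lt_iff_ne_bot.2 fun e => hU₁ne (by rw [e, Subgroup.commutator_bot_left]; exact bot_le))
  have hU₂N : ⁅U₂, N⁆ ≤ V₂ := by
    by_contra h
    exact hU₂.1.not_ge (hU₁min ⟨hU₂.2.2.1, hU₂.1.le.trans hU₁Q, h⟩ hU₂.1.le)
  -- elements of `N` killed by the pairing lie in `Y`
  set K : Subgroup G := N ⊓ modCent U₁ V₂ with hK
  have hKY : K ≤ Y := hsmall K inferInstance inf_le_left fun e => hU₁ne
    (Subgroup.commutator_le.2 fun u hu v hv => (Subgroup.mem_inf.1 (e.ge hv)).2 u hu)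
  refine hKY (Subgroup.mem_inf.2 ⟨dg_iterate_mem hx _, ?_⟩)
  have hVP : V₁ ≤ P := hV₁Z.trans (inf_le_left.trans hQP)
  have hVab : ⁅V₁, V₁⁆ ≤ V₂ := commutator_self_le_of_chief hP hVch hVP
  have c1 : ∀ w ∈ U₁, ∀ n ∈ N, ⁅w, n⁆ ∈ V₁ := fun w hw n hn =>
    hQV₁ (Subgroup.commutator_mem_commutator (hU₁Q hw) hn)
  have key : ∀ m a b : ℕ, i + j - 1 ≤ a + b + m → ∀ u ∈ U₁, ∀ n ∈ N,
      (dg g)^[a] ⁅(dg g)^[b] u, (dg g)^[m] n⁆ ∈ V₂ := by
    intro m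
    induction m with
    | zero =>
      intro a b hab' u hu n hn
      rw [Function.iterate_zero_apply]
      rcases Nat.lt_or_ge b i with h | h
      · obtain ⟨k, rfl⟩ := Nat.exists_eq_add_of_le' (show j ≤ a by omega)
        rw [Function.iterate_add_apply]
        exact dg_iterate_mem (hZj V₁ V₂ hVch hV₁Z
          (dg_iterate_mem_iterCommutator (c1 _ (dg_iterate_mem hu b) n hn) j)) k
      · obtain ⟨k, rfl⟩ := Nat.exists_eq_add_of_le' h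
        haveI := hU₂.2.2.1
        refine dg_iterate_mem (hU₂N (Subgroup.commutator_mem_commutator ?_ hn)) a
        rw [Function.iterate_add_apply]
        exact dg_iterate_mem (hQi U₁ U₂ hU₂ hU₁Q (dg_iterate_mem_iterCommutator hu i)) k
    | succ m ih =>
      intro a b hab' u hu n hn
      obtain ⟨u, hu', rfl⟩ : ∃ u' ∈ U₁, g * u' * g⁻¹ = u :=
        ⟨g⁻¹ * u * g, by simpa using hU₁n.conj_mem u hu g⁻¹, by group⟩
      have hx1 := ih (a + 1) b (by omega) u hu' n hn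
      have hx2 := ih a (b + 1) (by omega) u hu' n hn
      rw [Function.iterate_succ_apply] at hx1
      rw [Function.iterate_succ_apply'] at hx2
      rw [Function.iterate_succ_apply', dg_iterate_conj]
      set w := (dg g)^[b] u with hw
      set n' := (dg g)^[m] n with hn'
      have hwU : w ∈ U₁ := dg_iterate_mem hu' b
      have hnN : n' ∈ N := dg_iterate_mem hn m
      obtain ⟨R, hYR, hRX, hR⟩ := exists_dker V₁ V₂ hV₂V₁.le hVab g a
      have hcV : ⁅w, n'⁆ ∈ V₁ := c1 w hwU n' hnN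
      have hgw : g * w * g⁻¹ ∈ U₁ := hU₁n.conj_mem w hwU g
      have hgw' : g * w⁻¹ * g⁻¹ ∈ U₁ := hU₁n.conj_mem _ (inv_mem hwU) g
      have hgn : g * n'⁻¹ * g⁻¹ ∈ N := hNn.conj_mem _ (inv_mem hnN) g
      set π := QuotientGroup.mk' V₂ with hπ
      have hcomm : ∀ y ∈ P, ∀ v ∈ V₁, Commute (π y) (π v) := fun y hy v hv => by
        refine Commute.symm ?_
        rw [← commutatorElement_eq_one_iff_commute, ← map_commutatorElement]
        exact (QuotientGroup.eq_one_iff _).2 (mul_comm_mod_of_chief hP hVch hVP hv hy)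
      have e : π ⁅g * w * g⁻¹, dg g n'⁆ = π (dg g ⁅w, n'⁆ * ⁅dg g w, n'⁆⁻¹) := by
        have := pairing_step (π g) (π w) (π n')
          (by simpa using hcomm n' (hNP hnN) _ (c1 _ hgw _ hgn))
          (by simpa using hcomm n' (hNP hnN) _ hcV)
          (by simpa using hcomm w (hQP (hU₁Q hwU)) _ (c1 _ hgw' _ hnN))
          (by simpa using hcomm _ (hQP (hU₁Q hgw)) _ (c1 _ hgw' _ hnN))
          (by simpa using hcomm _ (hVP hcV) _ (hV₁n.conj_mem _ (inv_mem hcV) g))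
          (by simpa using hcomm _ (hVP (c1 _ hgw _ hnN)) _ (hV₁n.conj_mem _ (inv_mem hcV) g))
        simpa [dg] using this
      have hy1 : dg g ⁅w, n'⁆ ∈ R := (hR _ (dg_mem hcV)).2 hx1
      have hy2 : ⁅dg g w, n'⁆ ∈ R := (hR _ (c1 _ (dg_mem hwU) _ hnN)).2 hx2
      refine (hR _ (c1 _ hgw _ (dg_mem hnN))).1 ?_
      have h3 := (QuotientGroup.eq).1 (show (QuotientGroup.mk (dg g ⁅w, n'⁆ * ⁅dg g w, n'⁆⁻¹) : G ⧸ V₂)
        = QuotientGroup.mk ⁅g * w * g⁻¹, dg g n'⁆ from e.symm)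
      have h4 := mul_mem (mul_mem hy1 (inv_mem hy2)) (hYR h3)
      rwa [mul_inv_cancel_left] at h4
  exact fun u hu => by simpa using key (i + j - 1) 0 0 (by omega) u hu x hx

end Cfsg.Agent.ChiefAct
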