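import Cfsg.Agent.Lib.Functors.Cubic
import Cfsg.Agent.Lib.Functors.Critical
import Cfsg.Agent.Lib.Functors.Pairing

/-!
The consequences of a non-normal K-infinity subgroup on the chief factors of `O_p(G)`.
-/

set_option autoImplicit false
set_option linter.style.haveILetI false
set_option linter.unusedSectionVars false

namespace Cfsg.Agent.Cubic

open Cfsg Cfsg.Agent.ChiefAct Cfsg.Agent.KInf
open scoped commutatorElement

universe u

variable {G : Type u} [Group G] [Finite G] {p : ℕ} [Fact p.Prime]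

/-- A minimal normal `p`-subgroup on which an element is quadratic and nontrivial spoils `p`-stability. -/
theorem not_isNormalizerPStable_of_chief {P : Subgroup G} (hP : IsPGroup p ↥P)
    (hch : IsChiefFactor P ⊥) {g : G}
    (hq : ⁅⁅P, Subgroup.zpowers g⁆, Subgroup.zpowers g⁆ = ⊥) (hg : g ∉ Subgroup.centralizer (P : Set G)) :
    ¬ IsNormalizerPStable p G := by
  intro h
  haveI := hch.2.1
  have hN : g ∈ Subgroup.normalizer (P : Set G) := by rw [Subgroup.normalizer_eq_top]; exact Subgroup.mem_top _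
  have hmem := h P hP g hN hq
  set N := Subgroup.normalizer (P : Set G) with hNdef
  set C := (Subgroup.centralizer (P : Set G)).subgroupOf N with hCdef
  set R := ((pCore p (↥N ⧸ C)).comap (QuotientGroup.mk' C)).map N.subtype with hR
  haveI : R.Normal := by
    refine Subgroup.Normal.map ((Cfsg.pCore_normal p _).comap _) _ fun x => ⟨⟨x, ?_⟩, rfl⟩
    rw [hNdef, Subgroup.normalizer_eq_top]; exact Subgroup.mem_top _
  have hpow : ∀ x ∈ R, ∃ k : ℕ, x ^ p ^ k ∈ Subgroup.centralizer (P : Set G) := by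
    rintro _ ⟨x, hx, rfl⟩
    obtain ⟨k, hk⟩ := PBasic.pCore_isPGroup p (↥N ⧸ C) ⟨_, Subgroup.mem_comap.1 hx⟩
    refine ⟨k, ?_⟩
    have h1 : QuotientGroup.mk' C x ^ p ^ k = 1 := congrArg Subtype.val hk
    rw [← map_pow, QuotientGroup.mk'_apply, QuotientGroup.eq_one_iff] at h1
    exact h1
  exact hg (le_centralizer_of_pow hch hP hpow ⟨⟨g, hN⟩, hmem, rfl⟩)

theorem not_isNormalizerPStable_quotient {U V : Subgroup G} [hV : V.Normal] {A : Subgroup G}
    (hA : IsPGroup p ↥A) (h : IsChiefFactor U V) (hUA : U ≤ A) {g : G}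
    (hq : ⁅⁅U, Subgroup.zpowers g⁆, Subgroup.zpowers g⁆ ≤ V) (hne : ¬ ⁅U, Subgroup.zpowers g⁆ ≤ V) :
    ¬ IsNormalizerPStable p (G ⧸ V) := by
  set π := QuotientGroup.mk' V with hπ
  have hπs : Function.Surjective π := QuotientGroup.mk'_surjective V
  have hker : π.ker = V := QuotientGroup.ker_mk' V
  have hch : IsChiefFactor (U.map π) ⊥ := by
    refine ⟨bot_lt_iff_ne_bot.2 fun e => h.1.not_ge ?_, h.2.1.map π hπs, inferInstance, fun N hN _ hNU => ?_⟩
    · rwa [Subgroup.map_eq_bot_iff, hker] at e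
    · rcases h.2.2.2 (N.comap π) (hN.comap π) (le_of_eq_of_le hker.symm (Subgroup.ker_le_comap π N))
        (by
          refine (Subgroup.comap_mono hNU).trans ?_
          rw [Subgroup.comap_map_eq, hker]
          exact sup_le le_rfl h.1.le) with e | e
      · left; rw [← Subgroup.map_comap_eq_self_of_surjective hπs N, e, Subgroup.map_eq_bot_iff, hker]
      · right; rw [← Subgroup.map_comap_eq_self_of_surjective hπs N, e]
  refine not_isNormalizerPStable_of_chief ((hA.to_le hUA).map π) hch (g := π g) ?_ fun hc => hne ?_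
  · rw [← MonoidHom.map_zpowers, ← Subgroup.map_commutator, ← Subgroup.map_commutator,
      Subgroup.map_eq_bot_iff, hker]
    exact hq
  · refine commutator_zpowers_le_iff.2 fun u hu => ?_
    rw [← QuotientGroup.eq_one_iff, ← QuotientGroup.mk'_apply, map_commutatorElement,
      commutatorElement_eq_one_iff_mul_comm]
    exact Subgroup.mem_centralizer_iff.1 hc _ ⟨u, hu, rfl⟩

theorem kInf_consequences (S : Sylow p G)
    (hK : ¬ (inducedFunctor kInfLower (S : Subgroup G)).Normal ∨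
      ¬ (inducedFunctor kInfUpper (S : Subgroup G)).Normal) :
    ∃ g : G, g ∈ (S : Subgroup G) ∧ g ∉ pCore p G ∧
      (∀ U V : Subgroup G, IsChiefFactor U V → U ≤ pCore p G →
        iterCommutator U (Subgroup.zpowers g) 4 ≤ V) ∧
      ⁅⁅pCore p G ⊓ Subgroup.centralizer ((pCore p G : Subgroup G) : Set G), Subgroup.zpowers g⁆,
        Subgroup.zpowers g⁆ = ⊥ ∧
      (Subgroup.centralizer ((pCore p G : Subgroup G) : Set G) ≤ pCore p G →
        ∃ (N : Subgroup G) (_ : N.Normal), ¬ IsNormalizerPStable p (G ⧸ N)) := by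
  set T := pCore p G with hT
  haveI : T.Normal := Cfsg.pCore_normal p G
  have hTp : IsPGroup p ↥T := PBasic.pCore_isPGroup p G
  obtain ⟨H, hH⟩ := Critical.exists_critical hTp
  haveI := hH.char
  set A := H.map T.subtype with hA
  haveI : A.Normal := inferInstance
  have hAT : A ≤ T := Subgroup.map_subtype_le H
  have htop : (⊤ : Subgroup ↥T).map T.subtype = T := by
    rw [← MonoidHom.range_eq_map, Subgroup.range_subtype]
  have hA3 : ⁅T, A⁆ ≤ zc A := by
    have h : (⁅(⊤ : Subgroup ↥T), H⁆).map T.subtype ≤ (H ⊓ Subgroup.centralizer (H : Set ↥T)).map T.subtype :=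
      Subgroup.map_mono hH.comm
    rw [Subgroup.map_commutator, map_zc T.subtype_injective, htop] at h
    exact h
  have hA4 : T ⊓ Subgroup.centralizer (A : Set G) ≤ A := by
    intro x hx
    obtain ⟨hxT, hxC⟩ := Subgroup.mem_inf.1 hx
    refine ⟨⟨x, hxT⟩, hH.cent (Subgroup.mem_centralizer_iff.2 fun a ha => Subtype.ext ?_), rfl⟩
    exact Subgroup.mem_centralizer_iff.1 hxC a ⟨a, ha, rfl⟩
  have hA2 : ⁅A, A⁆ ≤ Subgroup.centralizer (A : Set G) :=
    ((Subgroup.commutator_mono hAT le_rfl).trans hA3).trans inf_le_right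
  have hA5 : ∀ φ : MulAut ↥T, (orderOf φ).Coprime p →
      (∀ a : ↥T, (a : G) ∈ A → φ a = a) → φ = 1 := fun φ hφ h =>
    hH.mulAut_eq_one' hTp hφ fun a ha => h a ⟨a, ha, rfl⟩
  obtain ⟨g, hgS, hgT, hg3, hg2, hgC⟩ := exists_good S hAT hA2 hA3 hA5 hK
  have hAp : IsPGroup p ↥A := hTp.to_le hAT
  have hg3' : ∀ u ∈ A, (dg g)^[3] u ∈ zc A := (iterCommutator_le_iff inf_le_left (ab_zc hA2) le_rfl g 3).1 hg3
  have hg2' : ∀ x ∈ zc A, ⁅⁅x, g⁆, g⁆ = 1 := (quad_zc_iff g).1 hg2
  refine ⟨g, hgS, hgT, fun U V hUV hUT => iterCommutator_le_of_pairing (Q := A) hTp hAT hA3 hA4 g 3 2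
    (by norm_num) (by norm_num) ?_ ?_ U V hUV hUT, ?_, fun hC => ?_⟩
  · intro U V hUV hUA
    haveI := hUV.2.1
    haveI := hUV.2.2.1
    have hab := commutator_self_le_of_chief hAp hUV hUA
    rw [iterCommutator_le_iff hUV.1.le hab le_rfl]
    by_cases hUZ : U ⊓ zc A ≤ V
    · exact fun u hu => hUZ (Subgroup.mem_inf.2 ⟨dg_iterate_mem hu 3, hg3' u (hUA hu)⟩)
    · obtain ⟨D, hVD, -, hD⟩ := exists_dker U V hUV.1.le hab g 3
      rcases hUV.2.2.2 ((U ⊓ zc A) ⊔ V) inferInstance le_sup_right (sup_le inf_le_left hUV.1.le) with e | e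
      · exact absurd (le_sup_left.trans e.le) hUZ
      · have hle : (U ⊓ zc A) ⊔ V ≤ D := sup_le (fun x hx => (hD x hx.1).2 (by
          show ⁅⁅⁅x, g⁆, g⁆, g⁆ ∈ V
          rw [hg2' x hx.2, commutatorElement_one_left]; exact one_mem _)) hVD
        exact fun u hu => (hD u hu).1 (hle (e.ge hu))
  · intro U V hUV hUZ
    haveI := hUV.2.1
    haveI := hUV.2.2.1
    rw [iterCommutator_le_iff hUV.1.le (commutator_self_le_of_chief hAp hUV (hUZ.trans inf_le_left)) le_rfl]
    intro u hu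
    show ⁅⁅u, g⁆, g⁆ ∈ V
    rw [hg2' u (hUZ hu)]; exact one_mem _
  · rw [eq_bot_iff, ← hg2]
    refine Subgroup.commutator_mono (Subgroup.commutator_mono ?_ le_rfl) le_rfl
    have h : T ⊓ Subgroup.centralizer (T : Set G) ≤ Subgroup.centralizer (A : Set G) :=
      inf_le_right.trans (Subgroup.centralizer_le hAT)
    exact le_inf ((le_inf inf_le_left h).trans hA4) h
  · obtain ⟨U, V, hUV, hUA, hq, hne⟩ := hgC hC
    haveI := hUV.2.2.1
    exact ⟨V, hUV.2.2.1, not_isNormalizerPStable_quotient hAp hUV hUA hq hne⟩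

end Cfsg.Agent.Cubic
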