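import Cfsg.Agent.Lib.Functors.MinTransfer
import Cfsg.Agent.Lib.Functors.KInfCubic

/-!
Control of transfer by K-infinity for `p ≥ 5`, and normal subgroups of index `p`.
-/

set_option autoImplicit false
set_option linter.style.haveILetI false
set_option linter.unusedSectionVars false

namespace Cfsg.Agent.Functors

open Cfsg
open scoped commutatorElement

universe u

variable {p : ℕ} [Fact p.Prime]

theorem isChiefFactor_map_equiv {X Y : Type u} [Group X] [Group Y] (e : X ≃* Y) {U V : Subgroup X}
    (h : IsChiefFactor U V) : IsChiefFactor (U.map e.toMonoidHom) (V.map e.toMonoidHom) := by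
  obtain ⟨hlt, hU, hV, hmin⟩ := h
  refine ⟨lt_of_le_of_ne (Subgroup.map_mono hlt.le)
      fun he => hlt.ne (Subgroup.map_injective e.injective he),
    hU.map _ e.surjective, hV.map _ e.surjective, fun N hN h1 h2 => ?_⟩
  have hNmap : (N.comap e.toMonoidHom).map e.toMonoidHom = N :=
    Subgroup.map_comap_eq_self_of_surjective e.surjective N
  have h1' : V ≤ N.comap e.toMonoidHom := Subgroup.map_le_iff_le_comap.1 h1
  have h2' : N.comap e.toMonoidHom ≤ U := by
    rw [← Subgroup.map_le_map_iff_of_injective (f := e.toMonoidHom) e.injective, hNmap]; exact h2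
  rcases hmin (N.comap e.toMonoidHom) (hN.comap _) h1' h2' with h | h
  · left; rw [← hNmap, h]
  · right; rw [← hNmap, h]

/-- The hypothesis of the transfer theorem: an element killing all factors inside `O_p`. -/
def HasKiller (p : ℕ) (W : ∀ (Q : Type u) [Group Q], Subgroup Q) (Y : Type u) [Group Y] : Prop :=
  ∀ T : Sylow p Y, ¬ (inducedFunctor (G := Y) W (T : Subgroup Y)).Normal →
    ∃ g : Y, g ∈ (T : Subgroup Y) ∧ g ∉ pCore p Y ∧ KillsFactors p (pCore p Y) g

theorem HasKiller.congr {W : ∀ (Q : Type u) [Group Q], Subgroup Q} (hW : IsCharPFunctor.{u} p W)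
    {X Y : Type u} [Group X] [Group Y] [Finite X] [Finite Y] (e : X ≃* Y) (h : HasKiller p W X) :
    HasKiller p W Y := by
  intro T hT
  set T' : Sylow p X := T.mapSurjective (f := e.symm.toMonoidHom) e.symm.surjective with hT'
  have he : (T' : Subgroup X).map e.toMonoidHom = (T : Subgroup Y) := by
    rw [show (T' : Subgroup X) = (T : Subgroup Y).map e.symm.toMonoidHom from rfl, Subgroup.map_map]
    convert Subgroup.map_id _
    ext; simp
  obtain ⟨g, hgT, hgO, hg⟩ := h T' fun hn => hT (by
    rw [← he, inducedFunctor_map_of_injective hW T'.isPGroup' e.injective]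
    exact hn.map _ e.surjective)
  refine ⟨e g, he ▸ Subgroup.mem_map_of_mem _ hgT, fun hm => hgO ?_, fun U V hUV hUT => ?_⟩
  · rw [← PBasic.map_pCore_equiv e] at hm
    obtain ⟨g', hg', hge⟩ := hm
    rwa [← e.injective hge]
  · have h1 := isChiefFactor_map_equiv e.symm hUV
    have h2 := Subgroup.map_mono (f := e.toMonoidHom) (hg _ _ h1 (by
      rw [← PBasic.map_pCore_equiv (p := p) e.symm]; exact Subgroup.map_mono hUT))
    rw [iterCommutator_map, MonoidHom.map_zpowers, Subgroup.map_map, Subgroup.map_map] at h2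
    have hid : e.toMonoidHom.comp e.symm.toMonoidHom = MonoidHom.id Y := by ext; simp
    rw [hid, Subgroup.map_id, Subgroup.map_id] at h2
    exact h2

/-- Transfer is controlled when every non-normal case has a killer. -/
theorem ctlTR_of_killer {W : ∀ (Q : Type u) [Group Q], Subgroup Q} (hW : IsCharPFunctor.{u} p W)
    (G : Type u) [Group G] [Finite G]
    (hloc : ∀ (Y : Type u) [Group Y] [Finite Y], IsSectionOf G Y → PConstr p Y → HasKiller p W Y) :
    CtlTR p {W} G := by
  have h𝓦 : ∀ V ∈ ({W} : Set (∀ (Q : Type u) [Group Q], Subgroup Q)), IsCharPFunctor.{u} p V := by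
    simpa using hW
  suffices key : ∀ (n : ℕ) (X : Type u) [Group X] [Finite X], Nat.card X = n →
      (∀ (Y : Type u) [Group Y] [Finite Y], IsSectionOf X Y → PConstr p Y → HasKiller p W Y) →
      CtlTR p {W} X from key _ G rfl hloc
  intro n
  induction n using Nat.strong_induction_on with
  | _ n ih =>
    intro X _ _ hn hloc
    by_contra hX
    have hprop : ∀ (Y : Type u) [Group Y] [Finite Y], IsSectionOf X Y → Nat.card Y < Nat.card X →
        CtlTR p {W} Y := by
      intro Y _ _ hY hlt
      refine ih _ (hn ▸ hlt) Y rfl fun Z _ _ hZ => hloc Z ?_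
      obtain ⟨K, f, hf⟩ := hY
      exact (IsSectionOf.of_surjective hf hZ).of_subgroup
    obtain ⟨S⟩ : Nonempty (Sylow p X) := inferInstance
    obtain ⟨hC, -, -, h4⟩ := counterexample_structure h𝓦 (Set.singleton_nonempty W) S hprop hX rfl rfl
    by_cases hn' : (inducedFunctor (G := X) W (S : Subgroup X)).Normal
    · refine hX ((familyTR_iff _ ⊤).2 ⟨(S : Subgroup X), isSylowIn_sylow S,
        le_antisymm ?_ (transferPart_le _ _ _)⟩)
      refine le_iSup₂_of_le (inducedFunctor (G := X) W) ⟨W, rfl, rfl⟩ ?_
      rw [Subgroup.normalizer_eq_top, inf_idem]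
    · obtain ⟨g, hgS, hgO, hg⟩ := hloc X IsSectionOf.refl hC S hn'
      obtain ⟨U, V, hUV, hUT, hne⟩ := h4 g hgS hgO
      exact hne (hg U V hUV hUT)

variable {G : Type u} [Group G] [Finite G]

theorem iterCommutator_le_of_le {U V : Subgroup G} [V.Normal] (L : Subgroup G) {m : ℕ}
    (h : iterCommutator U L m ≤ V) (k : ℕ) : iterCommutator U L (m + k) ≤ V := by
  induction k with
  | zero => exact h
  | succ k ih => exact (Subgroup.commutator_mono ih le_rfl).trans (Subgroup.commutator_le_left V L)

theorem hasKiller_kInf (hp : 5 ≤ p) (Y : Type u) [Group Y] [Finite Y] :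
    HasKiller p kInfLower Y ∧ HasKiller p kInfUpper Y := by
  have main : ∀ T : Sylow p Y, (¬ (inducedFunctor kInfLower (T : Subgroup Y)).Normal ∨
      ¬ (inducedFunctor kInfUpper (T : Subgroup Y)).Normal) →
      ∃ g : Y, g ∈ (T : Subgroup Y) ∧ g ∉ pCore p Y ∧ KillsFactors p (pCore p Y) g := by
    intro T hT
    obtain ⟨g, hgT, hgO, hg, -, -⟩ := Cubic.kInf_consequences T hT
    refine ⟨g, hgT, hgO, fun U V hUV hUT => ?_⟩
    haveI := hUV.2.2.1
    obtain ⟨k, hk⟩ := Nat.exists_eq_add_of_le (show 4 ≤ p - 1 by omega)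
    rw [hk]
    exact iterCommutator_le_of_le _ (hg U V hUV hUT) k
  exact ⟨fun T hT => main T (Or.inl hT), fun T hT => main T (Or.inr hT)⟩

theorem ctlTR_kInf (hp : 5 ≤ p) (G : Type u) [Group G] [Finite G] :
    CtlTR p {kInfLower} G ∧ CtlTR p {kInfUpper} G :=
  ⟨ctlTR_of_killer isCharPFunctor_kInfLower G fun Y _ _ _ _ => (hasKiller_kInf hp Y).1,
    ctlTR_of_killer isCharPFunctor_kInfUpper G fun Y _ _ _ _ => (hasKiller_kInf hp Y).2⟩

theorem transferPart_singleton (W : ∀ (Q : Type u) [Group Q], Subgroup Q) (S : Subgroup G) :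
    transferPart (indSet G {W}) ⊤ S =
      S ⊓ ⁅Subgroup.normalizer ((inducedFunctor W S : Subgroup G) : Set G),
        Subgroup.normalizer ((inducedFunctor W S : Subgroup G) : Set G)⁆ := by
  simp [transferPart, indSet]

theorem inf_commutator_eq_of_ctl {W : ∀ (Q : Type u) [Group Q], Subgroup Q}
    (hW : IsCharPFunctor.{u} p W) (h : CtlTR p {W} G) (S : Sylow p G) :
    (S : Subgroup G) ⊓ commutator G =
      (S : Subgroup G) ⊓ ⁅Subgroup.normalizer ((inducedFunctor W (S : Subgroup G) : Subgroup G) : Set G),
        Subgroup.normalizer ((inducedFunctor W (S : Subgroup G) : Subgroup G) : Set G)⁆ := by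
  rw [commutator_def, tr_top_of_ctl (by simpa using hW) S h, transferPart_singleton]

/-! ### normal subgroups of index `p` -/

theorem exists_index_prime_of_not_le (S : Sylow p G) (h : ¬ (S : Subgroup G) ≤ commutator G) :
    ∃ N : Subgroup G, N.Normal ∧ N.index = p := by
  set A := Abelianization G
  obtain ⟨k, m, hm, hkm⟩ := Nat.exists_eq_pow_mul_and_not_dvd
    (Nat.card_pos (α := A)).ne' p (Fact.out : p.Prime).ne_one
  set φ : G →* A := (powMonoidHom m).comp Abelianization.of with hφ
  have hB : IsPGroup p ↥φ.range := by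
    rintro ⟨_, g, rfl⟩
    refine ⟨k, Subtype.ext ?_⟩
    show ((Abelianization.of g) ^ m) ^ p ^ k = 1
    rw [← pow_mul, mul_comm, ← hkm, pow_card_eq_one']
  have hne : φ.range ≠ ⊥ := by
    intro hbot
    refine h fun s hs => ?_
    have h1 : (Abelianization.of s) ^ m = 1 := Subgroup.mem_bot.1 (hbot ▸ ⟨s, rfl⟩)
    obtain ⟨j, hj⟩ := S.isPGroup' ⟨s, hs⟩
    have h2 : (Abelianization.of s) ^ p ^ j = 1 := by
      rw [← map_pow, show s ^ p ^ j = 1 from congrArg Subtype.val hj, map_one]
    have h3 := Nat.dvd_gcd (orderOf_dvd_of_pow_eq_one h1) (orderOf_dvd_of_pow_eq_one h2)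
    rw [(Nat.Coprime.pow_right j ((Fact.out : p.Prime).coprime_iff_not_dvd.2 hm).symm).gcd_eq_one,
      Nat.dvd_one, orderOf_eq_one_iff] at h3
    exact (QuotientGroup.eq_one_iff s).1 h3
  obtain ⟨n, hn⟩ := hB.exists_card_eq
  have hn0 : n ≠ 0 := fun h0 => hne (Subgroup.eq_bot_of_card_eq _ (by rw [hn, h0, pow_zero]))
  obtain ⟨K, hK⟩ := Sylow.exists_subgroup_card_pow_prime p (n := n - 1) (G := ↥φ.range)
    (by rw [hn]; exact pow_dvd_pow p (Nat.sub_le n 1))
  haveI : K.Normal := ⟨fun a ha b => by rwa [mul_comm b a, mul_inv_cancel_right]⟩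
  refine ⟨K.comap φ.rangeRestrict, inferInstance, ?_⟩
  rw [Subgroup.index_comap_of_surjective _ φ.rangeRestrict_surjective]
  have := K.card_mul_index
  rw [hK, hn, show n = (n - 1) + 1 by omega, pow_succ] at this
  exact Nat.eq_of_mul_eq_mul_left (pow_pos (Fact.out : p.Prime).pos _) this

theorem not_le_commutator_of_index {S : Sylow p G} {N : Subgroup G} [hN : N.Normal]
    (hidx : N.index = p) : ¬ (S : Subgroup G) ≤ commutator G := by
  intro h
  have h1 : commutator G ≤ N := by
    haveI : IsCyclic (G ⧸ N) := isCyclic_of_prime_card (p := p) (by rw [← Subgroup.index_eq_card, hidx])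
    intro x hx
    refine (QuotientGroup.eq_one_iff x).1 ?_
    have hle : commutator G ≤ (QuotientGroup.mk' N).ker := by
      rw [commutator_def, Subgroup.commutator_le]
      intro a _ b _
      rw [MonoidHom.mem_ker, map_commutatorElement, commutatorElement_eq_one_iff_commute]
      exact IsCyclic.commGroup.mul_comm _ _
    exact hle hx
  exact S.not_dvd_index ((dvd_of_eq hidx.symm).trans (Subgroup.index_dvd_of_le (h.trans h1)))

/-- A nontrivial Sylow subgroup centralized by the `p'`-part of its normalizer is not inside `G'`. -/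
theorem exists_index_prime_of_ctl {W : ∀ (Q : Type u) [Group Q], Subgroup Q}
    (hW : IsCharPFunctor.{u} p W) (G : Type u) [Group G] [Finite G]
    (hctl : ∀ (Y : Type u) [Group Y] [Finite Y], IsSectionOf G Y → CtlTR p {W} Y) (S : Sylow p G)
    (hS : (S : Subgroup G) ≠ ⊥)
    (hN : ∀ g ∈ Subgroup.normalizer ((S : Subgroup G) : Set G), (orderOf g).Coprime p →
      g ∈ Subgroup.centralizer ((S : Subgroup G) : Set G)) :
    ∃ N : Subgroup G, N.Normal ∧ N.index = p := by
  suffices key : ∀ (n : ℕ) (X : Type u) [Group X] [Finite X], Nat.card X = n →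
      (∀ (Y : Type u) [Group Y] [Finite Y], IsSectionOf X Y → CtlTR p {W} Y) →
      ∀ S : Sylow p X, (S : Subgroup X) ≠ ⊥ →
      (∀ g ∈ Subgroup.normalizer ((S : Subgroup X) : Set X), (orderOf g).Coprime p →
        g ∈ Subgroup.centralizer ((S : Subgroup X) : Set X)) →
      ∃ N : Subgroup X, N.Normal ∧ N.index = p from key _ G rfl hctl S hS hN
  intro n
  induction n using Nat.strong_induction_on with
  | _ n ih =>
    intro X _ _ hn hctl S hS hN
    have heq := inf_commutator_eq_of_ctl hW (hctl X IsSectionOf.refl) S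
    set Z := inducedFunctor W (S : Subgroup X) with hZ
    set N := Subgroup.normalizer (Z : Set X) with hNdef
    have hfun := inducedFunctor_isConjugacyFunctor (G := X) hW
    have hSN : (S : Subgroup X) ≤ N := le_normalizer_conjFunctor hfun S.isPGroup'
    have hZS : Z ≤ (S : Subgroup X) := conjFunctor_le hfun S.isPGroup'
    by_cases hNtop : N = ⊤
    swap
    · set S' : Sylow p ↥N := S.subtype hSN with hS'
      have hS'eq : (S' : Subgroup ↥N) = (S : Subgroup X).subgroupOf N := S.coe_subtype hSN
      obtain ⟨M, hM, hMidx⟩ := ih _ (hn ▸ card_lt_of_ne_top hNtop) ↥N rfl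
        (fun Y _ _ hY => hctl Y hY.of_subgroup) S'
        (by
          rw [hS'eq, Ne, Subgroup.subgroupOf_eq_bot, disjoint_iff, inf_eq_left.2 hSN]
          exact hS)
        (by
          intro g hg hgc
          rw [hS'eq] at hg ⊢
          have hg' : (g : X) ∈ Subgroup.normalizer ((S : Subgroup X) : Set X) := by
            refine Subgroup.mem_normalizer_iff.2 fun s => ⟨fun hs => ?_, fun hs => ?_⟩
            · exact (Subgroup.mem_normalizer_iff.1 hg ⟨s, hSN hs⟩).1 hs
            · have hsN : s ∈ N := by
                have := mul_mem (mul_mem (inv_mem g.2) (hSN hs)) g.2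
                simpa [mul_assoc] using this
              exact (Subgroup.mem_normalizer_iff.1 hg ⟨s, hsN⟩).2 hs
          refine Subgroup.mem_centralizer_iff.2 fun s hs => Subtype.ext ?_
          exact Subgroup.mem_centralizer_iff.1 (hN g hg' (by rwa [Subgroup.orderOf_coe])) s hs)
      haveI := hM
      have hnle := not_le_commutator_of_index (S := S') hMidx
      refine exists_index_prime_of_not_le S fun hle => hnle fun x hx => ?_
      rw [hS'eq, Subgroup.mem_subgroupOf] at hx
      have h1 : (x : X) ∈ ⁅N, N⁆ := (heq.le (Subgroup.mem_inf.2 ⟨hx, hle hx⟩)).2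
      rw [← Subgroup.map_subtype_commutator] at h1
      obtain ⟨y, hy, hye⟩ := h1
      rwa [← Subtype.ext hye]
    · haveI hZn : Z.Normal := Subgroup.normalizer_eq_top_iff.1 hNtop
      by_cases hZeq : Z = (S : Subgroup X)
      · haveI hSn : (S : Subgroup X).Normal := hZeq ▸ hZn
        refine exists_index_prime_of_not_le S fun hle => hS ?_
        have hcen : ∀ s ∈ (S : Subgroup X), ∀ g : X, ⁅s, g⁆ ∈ ⁅(S : Subgroup X), (S : Subgroup X)⁆ := by
          intro s hs g
          have hle' : (⊤ : Subgroup X) ≤ ChiefAct.modCent (S : Subgroup X) ⁅(S : Subgroup X), (S : Subgroup X)⁆ := by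
            intro y _
            obtain ⟨k, hk⟩ := ChiefAct.exists_pow_mem_of_coprime_mem
              (K := (⊤ : Subgroup X)) (C := ChiefAct.modCent (S : Subgroup X) ⁅(S : Subgroup X), (S : Subgroup X)⁆)
              (fun x _ hx u hu => by
                have := hN x (by rw [Subgroup.normalizer_eq_top]; exact Subgroup.mem_top x) hx
                rw [commutatorElement_eq_one_iff_mul_comm.2 (Subgroup.mem_centralizer_iff.1 this u hu)]
                exact one_mem _)
              (Subgroup.mem_top y)
            have hab := Int.gcd_eq_gcd_ab (p ^ k : ℤ) (Nat.card (X ⧸ (S : Subgroup X)) : ℤ)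
            set a := Int.gcdA (p ^ k : ℤ) (Nat.card (X ⧸ (S : Subgroup X)) : ℤ)
            set b := Int.gcdB (p ^ k : ℤ) (Nat.card (X ⧸ (S : Subgroup X)) : ℤ)
            have hg1 : ((p ^ k : ℤ).gcd (Nat.card (X ⧸ (S : Subgroup X)) : ℤ) : ℤ) = 1 := by
              have hc : Nat.Coprime (p ^ k) (Nat.card (X ⧸ (S : Subgroup X))) :=
                Nat.Coprime.pow_left k ((Fact.out : p.Prime).coprime_iff_not_dvd.2 (by
                  rw [← Subgroup.index_eq_card]; exact S.not_dvd_index))
              exact_mod_cast hc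
            rw [hg1] at hab
            rw [show y = (y ^ p ^ k) ^ a * (y ^ Nat.card (X ⧸ (S : Subgroup X))) ^ b by
              rw [← zpow_natCast y (p ^ k), ← zpow_natCast y (Nat.card _), ← zpow_mul, ← zpow_mul,
                ← zpow_add]; push_cast; rw [← hab, zpow_one]]
            refine mul_mem (Subgroup.zpow_mem _ hk a) (Subgroup.zpow_mem _ ?_ b)
            intro u hu
            refine Subgroup.commutator_mem_commutator hu ?_
            rw [← QuotientGroup.eq_one_iff, QuotientGroup.mk_pow, pow_card_eq_one']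
          exact hle' (Subgroup.mem_top g) s hs
        have hle2 : (S : Subgroup X) ≤ ⁅(S : Subgroup X), (S : Subgroup X)⁆ := fun s hs => by
          have := mem_sup_of_central_mod S (R := ⁅(S : Subgroup X), (S : Subgroup X)⁆) hs (hle hs) (hcen s hs)
          rwa [sup_idem] at this
        haveI := S.isPGroup'.isNilpotent
        exact AxB.eq_bot_of_commutator_eq (Q := (S : Subgroup X)) le_rfl le_rfl
          (le_antisymm (Subgroup.commutator_le_self _) hle2)
      · have hZne : Z ≠ ⊥ := conjFunctor_ne_bot hfun S.isPGroup' hS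
        set π := QuotientGroup.mk' Z with hπ
        have hπs : Function.Surjective π := QuotientGroup.mk'_surjective Z
        set Sb : Sylow p (X ⧸ Z) := S.mapSurjective hπs with hSb
        have hSb' : (Sb : Subgroup (X ⧸ Z)) = (S : Subgroup X).map π := rfl
        obtain ⟨M, hM, hMidx⟩ := ih _ (hn ▸ card_quotient_lt hZne) (X ⧸ Z) rfl
          (fun Y _ _ hY => hctl Y (IsSectionOf.of_surjective hπs hY)) Sb
          (by
            rw [hSb', Ne, Subgroup.map_eq_bot_iff, hπ, QuotientGroup.ker_mk']
            exact fun h => hZeq (le_antisymm hZS h))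
          (by
            intro y hy hyc
            rw [hSb'] at hy ⊢
            obtain ⟨g, rfl⟩ := hπs y
            have hg : g ∈ Subgroup.normalizer ((S : Subgroup X) : Set X) := by
              have h1 : g ∈ (Subgroup.normalizer ((S : Subgroup X).map π : Set (X ⧸ Z))).comap π := hy
              rw [Subgroup.comap_normalizer_eq_of_surjective _ hπs, Subgroup.comap_map_eq, hπ,
                QuotientGroup.ker_mk', sup_eq_left.2 hZS] at h1
              exact h1
            obtain ⟨k, m, hm, hkm⟩ := Nat.exists_eq_pow_mul_and_not_dvd (orderOf_pos g).ne' p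
              (Fact.out : p.Prime).ne_one
            have hord : (orderOf (g ^ p ^ k)).Coprime p := by
              rw [orderOf_pow_of_dvd (pow_ne_zero _ (Fact.out : p.Prime).ne_zero) ⟨m, hkm⟩, hkm,
                Nat.mul_div_cancel_left _ (pow_pos (Fact.out : p.Prime).pos _)]
              exact ((Fact.out : p.Prime).coprime_iff_not_dvd.2 hm).symm
            have hc := hN (g ^ p ^ k) (pow_mem hg _) hord
            have hc' : π g ^ p ^ k ∈ Subgroup.centralizer ((S : Subgroup X).map π : Set (X ⧸ Z)) := by
              rw [← map_pow, Subgroup.mem_centralizer_iff]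
              rintro _ ⟨s, hs, rfl⟩
              rw [← map_mul, ← map_mul, Subgroup.mem_centralizer_iff.1 hc s hs]
            obtain ⟨i, hi⟩ := exists_pow_eq_self_of_coprime (hyc.pow_right k).symm
            rw [← hi]
            exact pow_mem hc' i)
        exact ⟨M.comap π, hM.comap π, by rw [Subgroup.index_comap_of_surjective _ hπs, hMidx]⟩

end Cfsg.Agent.Functors
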