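import Mathlib.GroupTheory.Sylow
import Mathlib.GroupTheory.Nilpotent
import Cfsg.Prelude.Def_ConjugacyFunctors
import Cfsg.Agent.Lib.OddOrder.Nilpotent

/-!
The K-infinity subgroups: monotonicity, self-centralization, invariance.
-/

set_option autoImplicit false
set_option linter.style.haveILetI false

namespace Cfsg.Agent.KInf

open Cfsg
open scoped commutatorElement

variable {P : Type*} [Group P]

/-- `Z(B)` inside the ambient group. -/
abbrev zc (B : Subgroup P) : Subgroup P := B ⊓ Subgroup.centralizer (B : Set P)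

theorem zc_conj_mem {B : Subgroup P} {g z : P} (hg : g ∈ Subgroup.normalizer (B : Set P))
    (hz : z ∈ zc B) : g * z * g⁻¹ ∈ zc B := by
  obtain ⟨hzB, hzC⟩ := Subgroup.mem_inf.1 hz
  refine Subgroup.mem_inf.2 ⟨(Subgroup.mem_normalizer_iff.1 hg z).1 hzB,
    Subgroup.mem_centralizer_iff.2 fun b hb => ?_⟩
  have hb' : g⁻¹ * b * g ∈ B := by
    rw [Subgroup.mem_normalizer_iff.1 hg, show g * (g⁻¹ * b * g) * g⁻¹ = b by group]
    exact hb
  have hc := Subgroup.mem_centralizer_iff.1 hzC _ hb'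
  calc b * (g * z * g⁻¹) = g * ((g⁻¹ * b * g) * z) * g⁻¹ := by group
    _ = g * z * g⁻¹ * b := by rw [hc]; group

theorem mem_classTwo {B : Subgroup P} :
    B ∈ classTwoSubgroups P ↔ ⁅⁅B, B⁆, B⁆ = ⊥ :=
  (Subgroup.commutator_eq_bot_iff_le_centralizer (H₁ := ⁅B, B⁆) (H₂ := B)).symm

theorem bot_mem_classTwo : (⊥ : Subgroup P) ∈ classTwoSubgroups P := by
  rw [mem_classTwo, Subgroup.commutator_bot_left, Subgroup.commutator_bot_left]

theorem bot_mem_lower (R : Subgroup P) : (⊥ : Subgroup P) ∈ kLowerStarFamily R := by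
  refine ⟨bot_mem_classTwo, fun x _ => ?_, fun A _ _ _ _ _ => ?_⟩
  · rw [Subgroup.mem_normalizer_iff]; intro y; simp [conj_eq_one_iff]
  · simp

theorem bot_mem_upper (R : Subgroup P) : (⊥ : Subgroup P) ∈ kUpperStarFamily R :=
  ⟨bot_mem_classTwo, by simp⟩

theorem upper_antitone {R R' : Subgroup P} (h : R ≤ R') :
    kUpperStarFamily R' ⊆ kUpperStarFamily R :=
  fun _ hB => ⟨hB.1, (Subgroup.commutator_mono le_rfl h).trans hB.2⟩

theorem lower_antitone {R R' : Subgroup P} (h : R ≤ R') :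
    kLowerStarFamily R' ⊆ kLowerStarFamily R :=
  fun _ hB => ⟨hB.1, h.trans hB.2.1, fun A hA hAR => hB.2.2 A hA (hAR.trans h)⟩

theorem kSeqOdd_succ (n : ℕ) :
    kSeqOdd P (n + 1) = sSup (kUpperStarFamily (kSeqEven P n)) := rfl

theorem kSeqEven_eq (n : ℕ) : kSeqEven P n = sSup (kLowerStarFamily (kSeqOdd P n)) := rfl

theorem kSeqOdd_succ_le : ∀ n : ℕ, kSeqOdd P (n + 1) ≤ kSeqOdd P n := by
  intro n
  induction n with
  | zero => exact le_top
  | succ n ih => exact sSup_le_sSup (upper_antitone (sSup_le_sSup (lower_antitone ih)))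

theorem kSeqEven_le_succ (n : ℕ) : kSeqEven P n ≤ kSeqEven P (n + 1) :=
  sSup_le_sSup (lower_antitone (kSeqOdd_succ_le n))

theorem kSeqEven_mono : Monotone (kSeqEven P) := monotone_nat_of_le_succ kSeqEven_le_succ

theorem kSeqOdd_anti : Antitone (kSeqOdd P) := antitone_nat_of_succ_le kSeqOdd_succ_le

/-- Both sequences become stationary. -/
theorem exists_stationary [Finite P] : ∃ n : ℕ, ∀ m : ℕ, n ≤ m →
    kSeqEven P m = kInfLower P ∧ kSeqOdd P m = kInfUpper P := by
  obtain ⟨-, ⟨a, rfl⟩, ha⟩ := (Set.toFinite (Set.range (kSeqEven P))).exists_maximal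
    (Set.range_nonempty _)
  obtain ⟨-, ⟨b, rfl⟩, hb⟩ := (Set.toFinite (Set.range (kSeqOdd P))).exists_minimal
    (Set.range_nonempty _)
  refine ⟨max a b, fun m hm => ⟨?_, ?_⟩⟩
  · refine le_antisymm (le_iSup _ m) (iSup_le fun k => ?_)
    have h1 : kSeqEven P (max k m) ≤ kSeqEven P a :=
      ha ⟨_, rfl⟩ (kSeqEven_mono (le_trans (le_max_left a b) (hm.trans (le_max_right k m))))
    exact ((kSeqEven_mono (le_max_left k m)).trans h1).trans
      (kSeqEven_mono ((le_max_left a b).trans hm))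
  · refine le_antisymm (le_iInf fun k => ?_) (iInf_le _ m)
    have h1 : kSeqOdd P b ≤ kSeqOdd P (max k m) :=
      hb ⟨_, rfl⟩ (kSeqOdd_anti (le_trans (le_max_right a b) (hm.trans (le_max_right k m))))
    exact ((kSeqOdd_anti ((le_max_right a b).trans hm)).trans h1).trans
      (kSeqOdd_anti (le_max_left k m))

/-! ### normal abelian subgroups -/

theorem commutator_eq_bot_of_isMulCommutative {A : Subgroup P} (hA : IsMulCommutative ↥A) :
    ⁅A, A⁆ = ⊥ :=
  Subgroup.commutator_eq_bot_iff_le_centralizer.2 fun a ha => Subgroup.mem_centralizer_iff.2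
    fun b hb => congrArg Subtype.val (hA.is_comm.comm (⟨b, hb⟩ : ↥A) ⟨a, ha⟩)

theorem normal_abelian_mem (A : Subgroup P) [hn : A.Normal] (hA : IsMulCommutative ↥A)
    (R : Subgroup P) :
    A ∈ classTwoSubgroups P ∧ A ∈ kLowerStarFamily R ∧ A ∈ kUpperStarFamily R := by
  have h2 : A ∈ classTwoSubgroups P := by
    rw [mem_classTwo, commutator_eq_bot_of_isMulCommutative hA, Subgroup.commutator_bot_left]
  have hz : A ≤ zc A := le_inf le_rfl
    (Subgroup.commutator_eq_bot_iff_le_centralizer.1 (commutator_eq_bot_of_isMulCommutative hA))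
  refine ⟨h2, ⟨h2, ?_, fun X _ _ _ _ _ => (Subgroup.commutator_le_left A X).trans hz⟩,
    h2, (Subgroup.commutator_le_left A R).trans hz⟩
  rw [Subgroup.normalizer_eq_top]
  exact le_top

/-! ### maximal members contain their centralizers -/

theorem le_normalizer_zc (B : Subgroup P) :
    Subgroup.normalizer (B : Set P) ≤ Subgroup.normalizer (zc B : Set P) := by
  intro g hg
  refine Subgroup.mem_normalizer_iff.2 fun z => ⟨fun hz => zc_conj_mem hg hz, fun hz => ?_⟩
  have h := zc_conj_mem (inv_mem hg) hz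
  rwa [show g⁻¹ * (g * z * g⁻¹) * g⁻¹⁻¹ = z by group] at h

/-- Commutators of `B ⊔ ⟨x⟩` with a fixed element, read off on generators. -/
theorem commElt_mem_of_mem_sup {B Z : Subgroup P} {x r : P}
    (hZ : B ⊔ Subgroup.zpowers x ≤ Subgroup.normalizer (Z : Set P))
    (hB : ∀ b ∈ B, ⁅b, r⁆ ∈ Z) (hx : ⁅x, r⁆ ∈ Z) : ∀ b ∈ B ⊔ Subgroup.zpowers x, ⁅b, r⁆ ∈ Z := by
  intro b hb
  have he : B ⊔ Subgroup.zpowers x = Subgroup.closure ((B : Set P) ∪ {x}) := by
    rw [Subgroup.closure_union, Subgroup.closure_eq, Subgroup.zpowers_eq_closure]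
  rw [he] at hb hZ
  induction hb using Subgroup.closure_induction with
  | mem y hy =>
    rcases hy with hy | rfl
    · exact hB y hy
    · exact hx
  | one => simp
  | mul a b ha hb iha ihb =>
    rw [show ⁅a * b, r⁆ = (a * ⁅b, r⁆ * a⁻¹) * ⁅a, r⁆ by simp only [commutatorElement_def]; group]
    exact mul_mem ((Subgroup.mem_normalizer_iff.1 (hZ ha) _).1 ihb) iha
  | inv a ha iha =>
    rw [show ⁅a⁻¹, r⁆ = a⁻¹ * ⁅a, r⁆⁻¹ * a⁻¹⁻¹ by simp only [commutatorElement_def]; group]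
    exact (Subgroup.mem_normalizer_iff.1 (hZ (inv_mem ha)) _).1 (inv_mem iha)

/-- The extension of `B` by an element of `C(B)`. -/
theorem sup_zpowers_facts {B : Subgroup P} {x : P} (hx : x ∈ Subgroup.centralizer (B : Set P))
    (hB : B ∈ classTwoSubgroups P) :
    B ⊔ Subgroup.zpowers x ∈ classTwoSubgroups P ∧
      zc B ≤ zc (B ⊔ Subgroup.zpowers x) ∧ x ∈ zc (B ⊔ Subgroup.zpowers x) := by
  set B₁ := B ⊔ Subgroup.zpowers x with hB₁
  have hxB₁ : x ∈ B₁ := le_sup_right (a := B) (Subgroup.mem_zpowers x)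
  have hxC : x ∈ Subgroup.centralizer (B₁ : Set P) := by
    have : B₁ ≤ Subgroup.centralizer ({x} : Set P) := by
      refine sup_le (fun b hb => ?_) ?_
      · rw [Subgroup.mem_centralizer_iff]; rintro y rfl
        exact (Subgroup.mem_centralizer_iff.1 hx b hb).symm
      · rw [Subgroup.zpowers_le, Subgroup.mem_centralizer_iff]; rintro y rfl; rfl
    rw [Subgroup.mem_centralizer_iff]
    intro b hb
    exact (Subgroup.mem_centralizer_iff.1 (this hb) x rfl).symm
  have hzc : zc B ≤ zc B₁ := by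
    intro z hz
    obtain ⟨hzB, hzC⟩ := Subgroup.mem_inf.1 hz
    refine Subgroup.mem_inf.2 ⟨le_sup_left (b := Subgroup.zpowers x) hzB, ?_⟩
    have : B₁ ≤ Subgroup.centralizer ({z} : Set P) := by
      refine sup_le (fun b hb => ?_) ?_
      · rw [Subgroup.mem_centralizer_iff]; rintro y rfl
        exact (Subgroup.mem_centralizer_iff.1 hzC b hb).symm
      · rw [Subgroup.zpowers_le, Subgroup.mem_centralizer_iff]; rintro y rfl
        exact Subgroup.mem_centralizer_iff.1 hx _ hzB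
    rw [Subgroup.mem_centralizer_iff]
    intro b hb
    exact (Subgroup.mem_centralizer_iff.1 (this hb) z rfl).symm
  refine ⟨?_, hzc, Subgroup.mem_inf.2 ⟨hxB₁, hxC⟩⟩
  refine Subgroup.commutator_le.2 fun u hu v hv => (Subgroup.mem_inf.1 (?_ : ⁅u, v⁆ ∈ zc B₁)).2
  have hN : B₁ ≤ Subgroup.normalizer (zc B₁ : Set P) :=
    Subgroup.le_normalizer.trans (le_normalizer_zc B₁)
  have hBB : ∀ a ∈ B, ∀ b ∈ B, ⁅a, b⁆ ∈ zc B₁ := fun a ha b hb =>
    hzc (Subgroup.mem_inf.2 ⟨Subgroup.commutator_le_self B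
      (Subgroup.commutator_mem_commutator ha hb), hB (Subgroup.commutator_mem_commutator ha hb)⟩)
  refine commElt_mem_of_mem_sup hN (fun b hb => ?_) ?_ u hu
  · rw [← commutatorElement_inv v b]
    refine inv_mem (commElt_mem_of_mem_sup hN (fun a ha => hBB a ha b hb) ?_ v hv)
    rw [commutatorElement_eq_one_iff_mul_comm.2 (Subgroup.mem_centralizer_iff.1 hx b hb).symm]
    exact one_mem _
  · rw [commutatorElement_eq_one_iff_mul_comm.2 (Subgroup.mem_centralizer_iff.1 hxC v hv).symm]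
    exact one_mem _

theorem sup_zpowers_commutator_le {B R : Subgroup P} {x : P}
    (hx : x ∈ Subgroup.centralizer (B : Set P)) (hB : B ∈ classTwoSubgroups P)
    (hBR : ⁅B, R⁆ ≤ zc B) (hxR : ∀ r ∈ R, ⁅x, r⁆ ∈ zc B) :
    ⁅B ⊔ Subgroup.zpowers x, R⁆ ≤ zc (B ⊔ Subgroup.zpowers x) := by
  obtain ⟨-, hzc, -⟩ := sup_zpowers_facts hx hB
  exact Subgroup.commutator_le.2 fun b hb r hr => commElt_mem_of_mem_sup
    (Subgroup.le_normalizer.trans (le_normalizer_zc _))
    (fun a ha => hzc (hBR (Subgroup.commutator_mem_commutator ha hr))) (hzc (hxR r hr)) b hb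

theorem le_normalizer_of_commutator_le {B R : Subgroup P} (h : ⁅B, R⁆ ≤ B) :
    R ≤ Subgroup.normalizer (B : Set P) := by
  have key : ∀ r ∈ R, ∀ b ∈ B, r * b * r⁻¹ ∈ B := by
    intro r hr b hb
    rw [show r * b * r⁻¹ = ⁅b, r⁆⁻¹ * b by simp only [commutatorElement_def]; group]
    exact mul_mem (inv_mem (h (Subgroup.commutator_mem_commutator hb hr))) hb
  intro r hr
  refine Subgroup.mem_normalizer_iff.2 fun b => ⟨key r hr b, fun hb => ?_⟩
  have h1 := key r⁻¹ (inv_mem hr) _ hb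
  rwa [show r⁻¹ * (r * b * r⁻¹) * r⁻¹⁻¹ = b by group] at h1

section pgroup

variable [Finite P] {p : ℕ} [Fact p.Prime]

/-- The element used to enlarge a subgroup that does not contain its centralizer. -/
theorem exists_extender (hP : IsPGroup p P) {B : Subgroup P}
    (h : ¬ Subgroup.centralizer (B : Set P) ≤ B) :
    ∃ x, x ∈ Subgroup.centralizer (B : Set P) ∧ x ∉ B ∧
      ∀ y ∈ Subgroup.normalizer (B : Set P), ⁅x, y⁆ ∈ zc B := by
  haveI := (hP.to_subgroup (Subgroup.normalizer (B : Set P))).isNilpotent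
  set N := Subgroup.normalizer (B : Set P) with hN
  have hBN : (B.subgroupOf N).Normal :=
    ⟨fun b hb n => (Subgroup.mem_normalizer_iff.1 n.2 _).1 hb⟩
  have hCn : ((Subgroup.centralizer (B : Set P)).subgroupOf N).Normal := by
    refine ⟨fun c hc n => ?_⟩
    rw [Subgroup.mem_subgroupOf] at hc ⊢
    rw [Subgroup.mem_centralizer_iff]
    intro b hb
    have hb' : (n : P)⁻¹ * b * n ∈ B := by
      rw [Subgroup.mem_normalizer_iff.1 n.2, show (n : P) * ((n : P)⁻¹ * b * n) * (n : P)⁻¹ = b by group]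
      exact hb
    have := Subgroup.mem_centralizer_iff.1 hc _ hb'
    push_cast
    calc b * ((n : P) * c * (n : P)⁻¹) = n * (((n : P)⁻¹ * b * n) * c) * (n : P)⁻¹ := by group
      _ = n * c * (n : P)⁻¹ * b := by rw [this]; group
  have hnot : ¬ (Subgroup.centralizer (B : Set P)).subgroupOf N ≤ B.subgroupOf N := by
    intro hle
    refine h fun c hc => ?_
    exact hle (Subgroup.mem_subgroupOf.2 hc : (⟨c, Subgroup.centralizer_le_normalizer _ hc⟩ : ↥N) ∈ _)
  obtain ⟨x, hxC, hxB, hx⟩ := OddOrder.Nilp.exists_mem_commutator_le hnot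
  refine ⟨x, hxC, hxB, fun y hy => Subgroup.mem_inf.2 ⟨hx ⟨y, hy⟩, ?_⟩⟩
  have h1 := mul_mem hxC (hCn.conj_mem _ (inv_mem hxC) ⟨y, hy⟩)
  rw [Subgroup.mem_subgroupOf] at h1
  push_cast at h1
  rw [show ⁅(x : P), y⁆ = x * (y * (x : P)⁻¹ * y⁻¹) by rw [commutatorElement_def]; group]
  exact h1

theorem centralizer_le_of_maximal (hP : IsPGroup p P) (B : Subgroup P) (𝒦 : Set (Subgroup P))
    (h𝒦 : 𝒦 = classTwoSubgroups P ∨ (∃ R, 𝒦 = kLowerStarFamily R) ∨ ∃ R, 𝒦 = kUpperStarFamily R)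
    (hB : B ∈ 𝒦) (hmax : ∀ C ∈ 𝒦, B ≤ C → C = B) : Subgroup.centralizer (B : Set P) ≤ B := by
  by_contra h
  obtain ⟨x, hxC, hxB, hx⟩ := exists_extender hP h
  suffices hmem : B ⊔ Subgroup.zpowers x ∈ 𝒦 by
    have := hmax _ hmem le_sup_left
    exact hxB (this ▸ le_sup_right (a := B) (Subgroup.mem_zpowers x))
  rcases h𝒦 with rfl | ⟨R, rfl⟩ | ⟨R, rfl⟩
  · exact (sup_zpowers_facts hxC hB).1
  · obtain ⟨h1, hzc, -⟩ := sup_zpowers_facts hxC hB.1
    refine ⟨h1, ?_, fun A hA hAR hnorm hc1 hc2 => ?_⟩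
    · refine le_normalizer_of_commutator_le ?_
      refine Subgroup.commutator_le.2 fun b hb r hr => commElt_mem_of_mem_sup Subgroup.le_normalizer
        (fun a ha => le_sup_left (b := Subgroup.zpowers x) ?_)
        ((hzc (hx r (hB.2.1 hr))).1) b hb
      rw [commutatorElement_def, mul_assoc, mul_assoc, ← mul_assoc r]
      exact mul_mem ha ((Subgroup.mem_normalizer_iff.1 (hB.2.1 hr) _).1 (inv_mem ha))
    · refine sup_zpowers_commutator_le hxC hB.1 ?_ fun a ha => hx a (hB.2.1 (hAR ha))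
      refine hB.2.2 A hA hAR (le_sup_left.trans hnorm) ?_ ?_
      · rw [eq_bot_iff, ← hc1]; exact Subgroup.commutator_mono le_sup_left le_rfl
      · rw [eq_bot_iff, ← hc2]
        exact Subgroup.commutator_mono (Subgroup.commutator_mono hzc le_rfl) le_rfl
  · obtain ⟨h1, -, -⟩ := sup_zpowers_facts hxC hB.1
    exact ⟨h1, sup_zpowers_commutator_le hxC hB.1 hB.2 fun r hr =>
      hx r (le_normalizer_of_commutator_le (hB.2.trans inf_le_left) hr)⟩

theorem centralizer_sSup_le (hP : IsPGroup p P) (𝒦 : Set (Subgroup P))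
    (h𝒦 : 𝒦 = classTwoSubgroups P ∨ (∃ R, 𝒦 = kLowerStarFamily R) ∨ ∃ R, 𝒦 = kUpperStarFamily R) :
    Subgroup.centralizer ((sSup 𝒦 : Subgroup P) : Set P) ≤ sSup 𝒦 := by
  have hne : 𝒦.Nonempty := by
    rcases h𝒦 with rfl | ⟨R, rfl⟩ | ⟨R, rfl⟩
    · exact ⟨⊥, bot_mem_classTwo⟩
    · exact ⟨⊥, bot_mem_lower R⟩
    · exact ⟨⊥, bot_mem_upper R⟩
  obtain ⟨B, hB, hmax⟩ := (Set.toFinite 𝒦).exists_maximal hne
  exact (Subgroup.centralizer_le (SetLike.coe_subset_coe.2 (le_sSup hB))).trans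
    ((centralizer_le_of_maximal hP B 𝒦 h𝒦 hB fun C hC hle => le_antisymm (hmax hC hle) hle).trans
      (le_sSup hB))

theorem centralizer_kInf_le (hP : IsPGroup p P) :
    Subgroup.centralizer (kInfLower P : Set P) ≤ kInfLower P ∧
      Subgroup.centralizer (kInfUpper P : Set P) ≤ kInfUpper P := by
  obtain ⟨n, hn⟩ := exists_stationary (P := P)
  rw [← (hn n le_rfl).1, ← (hn (n + 1) (Nat.le_succ _)).2, kSeqEven_eq, kSeqOdd_succ]
  exact ⟨centralizer_sSup_le hP _ (Or.inr (Or.inl ⟨_, rfl⟩)),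
    centralizer_sSup_le hP _ (Or.inr (Or.inr ⟨_, rfl⟩))⟩

end pgroup

/-! ### images under injective homomorphisms -/

variable {Q : Type*} [Group Q] {f : Q →* P}

theorem map_zc (hf : Function.Injective f) (B : Subgroup Q) :
    (B ⊓ Subgroup.centralizer (B : Set Q)).map f =
      B.map f ⊓ Subgroup.centralizer (B.map f : Set P) := by
  ext y
  constructor
  · rintro ⟨z, hz, rfl⟩
    refine Subgroup.mem_inf.2 ⟨⟨z, (Subgroup.mem_inf.1 hz).1, rfl⟩, ?_⟩
    rw [Subgroup.mem_centralizer_iff]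
    rintro _ ⟨b, hb, rfl⟩
    rw [← map_mul, ← map_mul, Subgroup.mem_centralizer_iff.1 (Subgroup.mem_inf.1 hz).2 b hb]
  · intro hy
    obtain ⟨⟨z, hz, rfl⟩, hc⟩ := Subgroup.mem_inf.1 hy
    refine ⟨z, Subgroup.mem_inf.2 ⟨hz, Subgroup.mem_centralizer_iff.2 fun b hb => hf ?_⟩, rfl⟩
    rw [map_mul, map_mul]
    exact Subgroup.mem_centralizer_iff.1 hc _ ⟨b, hb, rfl⟩

theorem map_le_normalizer_iff (hf : Function.Injective f) {A B : Subgroup Q} :
    A.map f ≤ Subgroup.normalizer (B.map f : Set P) ↔ A ≤ Subgroup.normalizer (B : Set Q) := by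
  constructor
  · intro h a ha
    refine Subgroup.mem_normalizer_iff.2 fun b => ?_
    have h1 := Subgroup.mem_normalizer_iff.1 (h ⟨a, ha, rfl⟩) (f b)
    rw [← map_inv, ← map_mul, ← map_mul] at h1
    simp only [Subgroup.mem_map_iff_mem hf] at h1
    exact h1
  · intro h
    exact (Subgroup.map_mono h).trans (Subgroup.le_normalizer_map f)

theorem map_mem_classTwo_iff (hf : Function.Injective f) {B : Subgroup Q} :
    B.map f ∈ classTwoSubgroups P ↔ B ∈ classTwoSubgroups Q := by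
  rw [mem_classTwo, mem_classTwo, ← Subgroup.map_commutator, ← Subgroup.map_commutator,
    Subgroup.map_eq_bot_iff_of_injective _ hf]

theorem map_mem_upper_iff (hf : Function.Injective f) {B R : Subgroup Q} :
    B.map f ∈ kUpperStarFamily (R.map f) ↔ B ∈ kUpperStarFamily R := by
  refine and_congr (map_mem_classTwo_iff hf) ?_
  rw [← Subgroup.map_commutator, ← map_zc hf, Subgroup.map_le_map_iff_of_injective hf]

theorem map_mem_lower_iff (hf : Function.Injective f) {B R : Subgroup Q} :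
    B.map f ∈ kLowerStarFamily (R.map f) ↔ B ∈ kLowerStarFamily R := by
  refine and_congr (map_mem_classTwo_iff hf) (and_congr (map_le_normalizer_iff hf) ?_)
  constructor
  · intro h A hA hAR hn h1 h2
    have := h (A.map f) ((map_mem_classTwo_iff hf).2 hA) (Subgroup.map_mono hAR)
      ((map_le_normalizer_iff hf).2 hn)
      (by rw [← Subgroup.map_commutator, ← Subgroup.map_commutator, h1, Subgroup.map_bot])
      (by rw [← map_zc hf, ← Subgroup.map_commutator, ← Subgroup.map_commutator, h2, Subgroup.map_bot])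
    rwa [← Subgroup.map_commutator, ← map_zc hf,
      Subgroup.map_le_map_iff_of_injective hf] at this
  · intro h A hA hAR hn h1 h2
    obtain ⟨A, rfl⟩ : ∃ A₀ : Subgroup Q, A₀.map f = A :=
      ⟨A.comap f, Subgroup.map_comap_eq_self (hAR.trans (Subgroup.map_le_range _ _))⟩
    rw [Subgroup.map_le_map_iff_of_injective hf] at hAR
    rw [← Subgroup.map_commutator, ← Subgroup.map_commutator,
      Subgroup.map_eq_bot_iff_of_injective _ hf] at h1
    rw [← map_zc hf, ← Subgroup.map_commutator, ← Subgroup.map_commutator,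
      Subgroup.map_eq_bot_iff_of_injective _ hf] at h2
    rw [← Subgroup.map_commutator, ← map_zc hf, Subgroup.map_le_map_iff_of_injective hf]
    exact h A ((map_mem_classTwo_iff hf).1 hA) hAR ((map_le_normalizer_iff hf).1 hn) h1 h2

theorem map_sSup_family (hf : Function.Injective f)
    (F : Subgroup Q → Set (Subgroup Q)) (F' : Subgroup P → Set (Subgroup P))
    (hF : ∀ B R, B.map f ∈ F' (R.map f) ↔ B ∈ F R) (R : Subgroup Q) :
    (sSup (F R)).map f = sSup {B ∈ F' (R.map f) | B ≤ f.range} := by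
  refine le_antisymm ?_ (sSup_le fun B hB => ?_)
  · rw [Subgroup.map_le_iff_le_comap]
    refine sSup_le fun B hB => Subgroup.map_le_iff_le_comap.1
      (le_sSup ⟨(hF B R).2 hB, Subgroup.map_le_range _ _⟩)
  · have he : (B.comap f).map f = B := Subgroup.map_comap_eq_self hB.2
    rw [← he]
    exact Subgroup.map_mono (le_sSup ((hF _ R).1 (he.symm ▸ hB.1)))

/-- Interleaving of the two K-sequences. -/
theorem interleave (hf : Function.Injective f)
    (hQ : ∀ n : ℕ, kSeqEven P n ≤ f.range ∧ kSeqOdd P (n + 1) ≤ f.range) (n : ℕ) :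
    (kSeqOdd P (n + 1) ≤ (kSeqOdd Q n).map f ∧ (kSeqOdd Q n).map f ≤ kSeqOdd P n) ∧
      (kSeqEven P n ≤ (kSeqEven Q n).map f ∧ (kSeqEven Q n).map f ≤ kSeqEven P (n + 1)) := by
  have even : ∀ n, (kSeqOdd P (n + 1) ≤ (kSeqOdd Q n).map f ∧ (kSeqOdd Q n).map f ≤ kSeqOdd P n) →
      kSeqEven P n ≤ (kSeqEven Q n).map f ∧ (kSeqEven Q n).map f ≤ kSeqEven P (n + 1) := by
    intro n ⟨h1, h2⟩
    rw [kSeqEven_eq (P := Q), map_sSup_family hf _ _ (fun B R => map_mem_lower_iff hf)]
    refine ⟨?_, sSup_le_sSup fun B hB => lower_antitone h1 hB.1⟩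
    exact sSup_le fun B hB => le_sSup ⟨lower_antitone h2 hB, (le_sSup hB).trans (hQ n).1⟩
  have odd : ∀ n, kSeqOdd P (n + 1) ≤ (kSeqOdd Q n).map f ∧ (kSeqOdd Q n).map f ≤ kSeqOdd P n := by
    intro n
    induction n with
    | zero =>
      refine ⟨?_, le_top⟩
      change kSeqOdd P 1 ≤ (⊤ : Subgroup Q).map f
      rw [← MonoidHom.range_eq_map]
      exact (hQ 0).2
    | succ n ih =>
      obtain ⟨e1, e2⟩ := even n ih
      rw [kSeqOdd_succ (P := Q), map_sSup_family hf _ _ (fun B R => map_mem_upper_iff hf)]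
      refine ⟨?_, sSup_le_sSup fun B hB => upper_antitone e1 hB.1⟩
      exact sSup_le fun B hB => le_sSup ⟨upper_antitone e2 hB, (le_sSup hB).trans (hQ (n + 1)).2⟩
  exact ⟨odd n, even n (odd n)⟩

theorem map_kInf (hf : Function.Injective f)
    (hQ : ∀ n : ℕ, kSeqEven P n ≤ f.range ∧ kSeqOdd P (n + 1) ≤ f.range) :
    (kInfLower Q).map f = kInfLower P ∧ (kInfUpper Q).map f = kInfUpper P := by
  refine ⟨le_antisymm ?_ (iSup_le fun n => ?_), le_antisymm (le_iInf fun n => ?_) ?_⟩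
  · rw [kInfLower, Subgroup.map_iSup]
    exact iSup_le fun n => (interleave hf hQ n).2.2.trans (le_iSup _ (n + 1))
  · exact (interleave hf hQ n).2.1.trans (Subgroup.map_mono (le_iSup _ n))
  · exact (Subgroup.map_mono (iInf_le _ n)).trans (interleave hf hQ n).1.2
  · rw [kInfUpper, kInfUpper, Subgroup.map_iInf _ hf]
    exact le_iInf fun n => (iInf_le _ (n + 1)).trans (interleave hf hQ n).1.1

theorem map_kInf_equiv (e : Q ≃* P) :
    (kInfLower Q).map e.toMonoidHom = kInfLower P ∧ (kInfUpper Q).map e.toMonoidHom = kInfUpper P :=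
  map_kInf e.injective fun n => by
    rw [MonoidHom.range_eq_top.2 e.surjective]; exact ⟨le_top, le_top⟩

end Cfsg.Agent.KInf
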