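import Cfsg.Agent.Lib.Functors.Conj
import Cfsg.Agent.Lib.Functors.KInfinity

/-!
The conjugacy functor induced by an isomorphism-invariant functor; the K-infinity functors.
-/

set_option autoImplicit false
set_option linter.style.haveILetI false

namespace Cfsg.Agent.Functors

open Cfsg

universe u

variable {p : ℕ}

theorem inducedFunctor_map_of_injective {G H : Type u} [Group G] [Group H] [Finite G]
    {W : ∀ (Q : Type u) [Group Q], Subgroup Q} (hW : IsCharPFunctor.{u} p W) {P : Subgroup G}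
    (hP : IsPGroup p ↥P) {f : G →* H} (hf : Function.Injective f) :
    inducedFunctor W (P.map f) = (inducedFunctor W P).map f := by
  have e := hW.2 ↥P ↥(P.map f) hP (P.equivMapOfInjective f hf)
  rw [inducedFunctor, ← e, Subgroup.map_map, inducedFunctor, Subgroup.map_map]
  rfl

theorem inducedFunctor_isConjugacyFunctor {G : Type u} [Group G] [Finite G]
    {W : ∀ (Q : Type u) [Group Q], Subgroup Q} (hW : IsCharPFunctor.{u} p W) :
    IsConjugacyFunctor p (inducedFunctor (G := G) W) := by
  intro P hP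
  refine ⟨Subgroup.map_subtype_le _, fun hne h => ?_,
    fun g => inducedFunctor_map_of_injective hW hP (MulAut.conj g).injective⟩
  rw [inducedFunctor, Subgroup.map_eq_bot_iff_of_injective _ P.subtype_injective] at h
  exact hW.1 ↥P hP ((Subgroup.nontrivial_iff_ne_bot P).2 hne) h

theorem isCharPFunctor_kInfLower [Fact p.Prime] : IsCharPFunctor.{u} p kInfLower := by
  refine ⟨fun Q _ _ hQ hn h => ?_, fun Q R _ _ _ _ φ => (KInf.map_kInf_equiv φ).1⟩
  have h1 := (KInf.centralizer_kInf_le hQ).1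
  rw [h] at h1
  obtain ⟨x, hx⟩ := exists_ne (1 : Q)
  exact hx (Subgroup.mem_bot.1 (h1 (Subgroup.mem_centralizer_iff.2 fun y hy => by
    rw [SetLike.mem_coe, Subgroup.mem_bot] at hy; simp [hy])))

theorem isCharPFunctor_kInfUpper [Fact p.Prime] : IsCharPFunctor.{u} p kInfUpper := by
  refine ⟨fun Q _ _ hQ hn h => ?_, fun Q R _ _ _ _ φ => (KInf.map_kInf_equiv φ).2⟩
  have h1 := (KInf.centralizer_kInf_le hQ).2
  rw [h] at h1
  obtain ⟨x, hx⟩ := exists_ne (1 : Q)
  exact hx (Subgroup.mem_bot.1 (h1 (Subgroup.mem_centralizer_iff.2 fun y hy => by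
    rw [SetLike.mem_coe, Subgroup.mem_bot] at hy; simp [hy])))

/-- `W P` contains the centre of `P` for the K-infinity functors. -/
theorem zc_le_inducedFunctor {G : Type u} [Group G]
    {W : ∀ (Q : Type u) [Group Q], Subgroup Q} {P : Subgroup G}
    (h : Subgroup.center ↥P ≤ W ↥P) :
    P ⊓ Subgroup.centralizer (P : Set G) ≤ inducedFunctor W P := by
  intro x hx
  obtain ⟨hxP, hxC⟩ := Subgroup.mem_inf.1 hx
  refine ⟨⟨x, hxP⟩, h (Subgroup.mem_center_iff.2 fun y => Subtype.ext ?_), rfl⟩
  exact Subgroup.mem_centralizer_iff.1 hxC y y.2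

theorem center_le_kInf {Q : Type u} [Group Q] [Finite Q] [Fact p.Prime] (hQ : IsPGroup p Q) :
    Subgroup.center Q ≤ kInfLower Q ∧ Subgroup.center Q ≤ kInfUpper Q :=
  ⟨(Subgroup.center_le_centralizer _).trans (KInf.centralizer_kInf_le hQ).1,
    (Subgroup.center_le_centralizer _).trans (KInf.centralizer_kInf_le hQ).2⟩

theorem zc_le_kInf {G : Type u} [Group G] [Finite G] [Fact p.Prime] (P : Subgroup G)
    (hP : IsPGroup p ↥P) :
    P ⊓ Subgroup.centralizer (P : Set G) ≤ inducedFunctor kInfLower P ∧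
      P ⊓ Subgroup.centralizer (P : Set G) ≤ inducedFunctor kInfUpper P :=
  ⟨zc_le_inducedFunctor (center_le_kInf hP).1, zc_le_inducedFunctor (center_le_kInf hP).2⟩

end Cfsg.Agent.Functors
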