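import Cfsg.Agent.Lib.Functors.WellPlaced
import Cfsg.Prelude.Def_Solvable

/-!
Conjugation families.
-/

set_option autoImplicit false
set_option linter.style.haveILetI false

namespace Cfsg.Agent.Functors

open Cfsg

variable {G : Type*} [Group G]

/-- `Chain 𝓕 A g`: right conjugation by `g` on `A` done step by step inside normalizers of members
of `𝓕`, with product exactly `g`. -/
inductive Chain (𝓕 : Set (Subgroup G)) : Set G → G → Prop
  | nil (A : Set G) : Chain 𝓕 A 1
  | cons {A : Set G} {T : Subgroup G} {x g : G} (hT : T ∈ 𝓕) (hA : A ⊆ T)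
      (hx : x ∈ Subgroup.normalizer (T : Set G)) (h : Chain 𝓕 (cj x⁻¹ '' A) g) : Chain 𝓕 A (x * g)

variable {𝓕 : Set (Subgroup G)} {A : Set G} {g h : G}

theorem Chain.mono (c : Chain 𝓕 A g) : ∀ {B : Set G}, B ⊆ A → Chain 𝓕 B g := by
  induction c with
  | nil => exact fun _ => .nil _
  | cons hT hA hx _ ih => exact fun hB => .cons hT (hB.trans hA) hx (ih (Set.image_mono hB))

theorem Chain.trans (c : Chain 𝓕 A g) : Chain 𝓕 (cj g⁻¹ '' A) h → Chain 𝓕 A (g * h) := by
  induction c with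
  | nil => intro c'; simpa [cj_image_one] using c'
  | @cons A T x g hT hA hx _ ih =>
    intro c'
    rw [mul_inv_rev, ← cj_image_image] at c'
    rw [mul_assoc]
    exact .cons hT hA hx (ih c')

theorem Chain.single {T : Subgroup G} (hT : T ∈ 𝓕) (hA : A ⊆ T)
    (hg : g ∈ Subgroup.normalizer (T : Set G)) : Chain 𝓕 A g := by
  simpa using Chain.cons hT hA hg (.nil _)

theorem Chain.symm (c : Chain 𝓕 A g) : Chain 𝓕 (cj g⁻¹ '' A) g⁻¹ := by
  induction c with
  | nil => simpa using Chain.nil _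
  | @cons A T x g hT hA hx _ ih =>
    rw [mul_inv_rev, ← cj_image_image]
    refine ih.trans ?_
    rw [inv_inv, cj_image_image _ g, mul_inv_cancel, cj_image_one]
    refine .single hT ?_ (inv_mem hx)
    rintro _ ⟨a, ha, rfl⟩
    rw [cj_apply]
    exact (Subgroup.mem_normalizer_iff.1 (inv_mem hx) a).1 (hA ha)

theorem Chain.exists_fin (c : Chain 𝓕 A g) :
    ∃ (n : ℕ) (T : Fin n → Subgroup G) (x : Fin n → G), (List.ofFn x).prod = g ∧
      (∀ i, T i ∈ 𝓕) ∧ (∀ i, x i ∈ Subgroup.normalizer ((T i : Subgroup G) : Set G)) ∧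
      (∀ h : 0 < n, A ⊆ T ⟨0, h⟩) ∧
      ∀ (i : Fin n) (h : i.val + 1 < n),
        (fun a => (((List.ofFn x).take (i.val + 1)).prod)⁻¹ * a * ((List.ofFn x).take (i.val + 1)).prod) '' A ⊆
          T ⟨i.val + 1, h⟩ := by
  induction c with
  | nil A => exact ⟨0, Fin.elim0, Fin.elim0, by simp, fun i => i.elim0, fun i => i.elim0,
      fun h => absurd h (lt_irrefl _), fun i => i.elim0⟩
  | @cons A T x g hT hA hx _ ih =>
    obtain ⟨n, Ts, xs, hprod, hmem, hnorm, hfirst, hstep⟩ := ih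
    refine ⟨n + 1, Fin.cons T Ts, Fin.cons x xs, by simp [List.ofFn_succ, hprod], ?_, ?_,
      fun _ => by simpa using hA, ?_⟩
    · intro i; induction i using Fin.cases <;> simp [hT, hmem]
    · intro i
      induction i using Fin.cases with
      | zero => simpa using hx
      | succ i => simpa using hnorm i
    · intro i hi
      have e : (⟨i.val + 1, hi⟩ : Fin (n + 1)) = Fin.succ ⟨i.val, by omega⟩ := rfl
      rw [e, Fin.cons_succ, List.ofFn_succ, Fin.cons_zero]
      simp only [Fin.cons_succ, List.take_succ_cons, List.prod_cons]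
      rintro _ ⟨a, ha, rfl⟩
      have ha' : x⁻¹ * a * x ∈ cj x⁻¹ '' A := ⟨a, ha, by rw [cj_apply]; group⟩
      rcases i with ⟨j, hj⟩
      cases j with
      | zero =>
        simpa [mul_assoc] using hfirst (by omega) ha'
      | succ j =>
        have := hstep ⟨j, by omega⟩ (by simpa using hi) ⟨_, ha', rfl⟩
        simpa [mul_assoc] using this

/-- Criterion for a conjugation family. -/
theorem chain_of_extremal [Finite G] {p : ℕ} [Fact p.Prime] (S : Sylow p G)
    (h𝓕 : ∀ U ∈ 𝓕, U ≤ (S : Subgroup G))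
    (h : ∀ T : Subgroup G, T ≤ (S : Subgroup G) → ∃ U ∈ 𝓕, (∃ g : G, T.map (cj g) = U) ∧
      Extremal p (S : Subgroup G) U) {A : Set G} {g : G} (hA : A ⊆ (S : Subgroup G))
    (hgA : (fun a => g⁻¹ * a * g) '' A ⊆ (S : Subgroup G)) : Chain 𝓕 A g := by
  suffices key : ∀ (d : ℕ) (X : Subgroup G) (g : G), Nat.card ↥(S : Subgroup G) ≤ d + Nat.card ↥X →
      X ≤ (S : Subgroup G) → X.map (cj g) ≤ (S : Subgroup G) → Chain 𝓕 (X : Set G) g⁻¹ by
    have h1 := key (Nat.card ↥(S : Subgroup G)) (Subgroup.closure A) g⁻¹ (Nat.le_add_right _ _)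
      ((Subgroup.closure_le _).2 hA) ?_
    · rw [inv_inv] at h1
      exact h1.mono Subgroup.subset_closure
    · rw [MonoidHom.map_closure, Subgroup.closure_le]
      rintro _ ⟨a, ha, rfl⟩
      rw [cj_apply, inv_inv]
      exact hgA ⟨a, ha, rfl⟩
  intro d
  induction d with
  | zero =>
    intro X g hd hX hXg
    have hXS : X = (S : Subgroup G) := Subgroup.eq_of_le_of_card_ge hX (by omega)
    subst hXS
    obtain ⟨U, hU, ⟨k, hk⟩, hext⟩ := h _ le_rfl
    have hUS : U = (S : Subgroup G) :=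
      Subgroup.eq_of_le_of_card_ge (h𝓕 U hU) (by rw [← hk, card_map_cj])
    rw [hUS] at hU
    refine .single hU subset_rfl (inv_mem (map_cj_eq_iff.1 ?_))
    exact Subgroup.eq_of_le_of_card_ge hXg (card_map_cj _ _).ge
  | succ d ih =>
    intro X g hd hX hXg
    by_cases hlt : Nat.card ↥(S : Subgroup G) ≤ d + Nat.card ↥X
    · exact ih X g hlt hX hXg
    obtain ⟨U, hU, ⟨h0, rfl⟩, hext⟩ := h X hX
    -- every subgroup of `S` conjugate to `X` is joined to `U` by a chain
    have side : ∀ (Y : Subgroup G) (y : G), Y ≤ (S : Subgroup G) →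
        Y.map (cj y) = X.map (cj h0) →
        ∃ k, Y.map (cj k) = X.map (cj h0) ∧ Chain 𝓕 (Y : Set G) k⁻¹ := by
      intro Y y hY hy
      have hcard : Nat.card ↥Y = Nat.card ↥X := by rw [← card_map_cj Y y, hy, card_map_cj]
      have hYlt : Y < (S : Subgroup G) := lt_of_le_of_ne hY fun e => hlt (by rw [← hcard, e]; omega)
      set P := (S : Subgroup G) ⊓ Subgroup.normalizer (Y : Set G) with hP
      have hgrow : Nat.card ↥Y < Nat.card ↥P := Nat.lt_of_not_ge fun hle =>
        (lt_inf_normalizer_of_lt S.isPGroup' hYlt).ne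
          (Subgroup.eq_of_le_of_card_ge (le_inf hY Subgroup.le_normalizer) hle)
      obtain ⟨n, hn, hnle⟩ := exists_conj_le_of_isSylowIn hext.2
        ((S.isPGroup'.to_le (inf_le_left : P ≤ _)).map (cj y))
        (by rw [← hy, ← map_cj_normalizer]; exact Subgroup.map_mono inf_le_right)
      rw [map_map_cj] at hnle
      refine ⟨n * y, by rw [← map_map_cj, hy, map_cj_eq_iff.2 hn], ?_⟩
      exact (ih P (n * y) (by omega) inf_le_left (hnle.trans inf_le_left)).mono
        (le_inf hY Subgroup.le_normalizer)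
    obtain ⟨a, ha, ca⟩ := side X h0 hX rfl
    obtain ⟨b, hb, cb⟩ := side (X.map (cj g)) (h0 * g⁻¹) hXg (by rw [map_map_cj, inv_mul_cancel_right])
    rw [map_map_cj] at hb
    have eU : cj a '' (X : Set G) = ((X.map (cj h0) : Subgroup G) : Set G) := by rw [cj_image_coe, ha]
    have hmid : a * g⁻¹ * b⁻¹ ∈ Subgroup.normalizer ((X.map (cj h0) : Subgroup G) : Set G) := by
      have h2 : (X.map (cj h0)).map (cj (b * g * a⁻¹)) = X.map (cj h0) := by
        rw [← ha, map_map_cj, inv_mul_cancel_right, hb, ha]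
      have h3 := inv_mem (map_cj_eq_iff.1 h2)
      simpa [mul_assoc] using h3
    have c2 : Chain 𝓕 (cj a⁻¹⁻¹ '' (X : Set G)) (a * g⁻¹ * b⁻¹) := by
      rw [inv_inv, eU]
      exact .single hU subset_rfl hmid
    have c3 := ca.trans c2
    have c4 : Chain 𝓕 (cj (a⁻¹ * (a * g⁻¹ * b⁻¹))⁻¹ '' (X : Set G)) b := by
      have h5 := cb.symm
      rw [inv_inv, cj_image_coe, map_map_cj] at h5
      rw [cj_image_coe, show (a⁻¹ * (a * g⁻¹ * b⁻¹))⁻¹ = b * g by group]
      exact h5
    have c5 := c3.trans c4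
    rwa [show a⁻¹ * (a * g⁻¹ * b⁻¹) * b = g⁻¹ by group] at c5

theorem isConjugationFamily_of_extremal [Finite G] {p : ℕ} [Fact p.Prime] (S : Sylow p G)
    (h𝓕 : ∀ U ∈ 𝓕, U ≤ (S : Subgroup G))
    (h : ∀ T : Subgroup G, T ≤ (S : Subgroup G) → ∃ U ∈ 𝓕, (∃ g : G, T.map (cj g) = U) ∧
      Extremal p (S : Subgroup G) U) :
    IsConjugationFamily 𝓕 (S : Subgroup G) :=
  ⟨h𝓕, fun _ _ _ hA hgA => (chain_of_extremal S h𝓕 h hA hgA).exists_fin⟩

/-- A chain either normalizes `A` or passes through a normalizer that moves it. -/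
theorem Chain.exists_moving {A : Set G} {g : G} (c : Chain 𝓕 A g) :
    cj g⁻¹ '' A = A ∨ ∃ T ∈ 𝓕, A ⊆ T ∧ ∃ x ∈ Subgroup.normalizer (T : Set G), cj x '' A ≠ A := by
  induction c with
  | nil => exact Or.inl (by simp)
  | @cons A T x g hT hA hx _ ih =>
    by_cases he : cj x⁻¹ '' A = A
    · rw [he] at ih
      refine ih.imp (fun h => ?_) id
      rw [mul_inv_rev, ← cj_image_image, he, h]
    · exact Or.inr ⟨T, hT, hA, _, inv_mem hx, he⟩

/-- The members containing `O_p(G)` still form a conjugation family. -/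
theorem isConjugationFamily_above {S : Subgroup G} {O : Subgroup G} [hO : O.Normal]
    (hOS : O ≤ S) (h : IsConjugationFamily 𝓕 S) :
    IsConjugationFamily {T : Subgroup G | T ∈ 𝓕 ∧ O ≤ T} S := by
  refine ⟨fun T hT => h.1 T hT.1, fun A g hAne hA hgA => ?_⟩
  have hconj : ∀ (c : G), ∀ a ∈ O, c⁻¹ * a * c ∈ O := fun c a ha => by
    simpa using hO.conj_mem a ha c⁻¹
  obtain ⟨n, T, x, hprod, hmem, hnorm, hfirst, hstep⟩ := h.2 (A ∪ (O : Set G)) g
    (hAne.mono Set.subset_union_left) (Set.union_subset hA hOS) (by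
      rintro _ ⟨a, ha | ha, rfl⟩
      · exact hgA ⟨a, ha, rfl⟩
      · exact hOS (hconj g a ha))
  refine ⟨n, T, x, hprod, fun i => ⟨hmem i, ?_⟩, hnorm,
    fun h => Set.subset_union_left.trans (hfirst h),
    fun i h => (Set.image_mono Set.subset_union_left).trans (hstep i h)⟩
  rcases i with ⟨j, hj⟩
  cases j with
  | zero => exact fun a ha => hfirst hj (Or.inr ha)
  | succ j =>
    intro a ha
    set P := ((List.ofFn x).take (j + 1)).prod with hP
    refine hstep ⟨j, by omega⟩ hj ⟨P * a * P⁻¹, Or.inr (hO.conj_mem a ha P), ?_⟩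
    simp only [← hP]
    group

end Cfsg.Agent.Functors
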