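import Cfsg.Agent.Lib.Functors.WeakClosureElem
import Cfsg.Agent.S1968

/-!
`p`-th powers in the centre of a Sylow subgroup: weak closure from a quadratic element.
-/

set_option autoImplicit false
set_option linter.style.haveILetI false
set_option linter.unusedSectionVars false

namespace Cfsg.Agent.Functors

open Cfsg
open scoped commutatorElement

universe u

variable {G : Type u} [Group G] [Finite G] {p : ℕ} [Fact p.Prime]

/-- The subgroup generated by the `p`-th powers of the centre of `T`. -/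
def zPow (p : ℕ) (T : Subgroup G) : Subgroup G :=
  Subgroup.closure ((fun z : G => z ^ p) '' ((T ⊓ Subgroup.centralizer (T : Set G) : Subgroup G) : Set G))

theorem zPow_le (T : Subgroup G) : zPow p T ≤ T ⊓ Subgroup.centralizer (T : Set G) :=
  (Subgroup.closure_le _).2 (by rintro _ ⟨z, hz, rfl⟩; exact pow_mem hz p)

/-- If every proper overgroup of `S` normalizes `A` and some element outside `O_p` is quadratic on
`Z(O_p)`, then `A` is normal. -/
theorem normal_of_quadratic (S : Sylow p G) {A : Subgroup G} (hA : A ≤ zPow p (S : Subgroup G))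
    (hAT : A ≤ pCore p G) {g : G} (hgS : g ∈ (S : Subgroup G)) (hgO : g ∉ pCore p G)
    (hq : ⁅⁅pCore p G ⊓ Subgroup.centralizer ((pCore p G : Subgroup G) : Set G), Subgroup.zpowers g⁆,
      Subgroup.zpowers g⁆ = ⊥)
    (hmax : ∀ K : Subgroup G, (S : Subgroup G) ≤ K → K ≠ ⊤ → K ≤ Subgroup.normalizer (A : Set G)) :
    Subgroup.normalizer (A : Set G) = ⊤ := by
  classical
  set T := pCore p G with hTdef
  haveI : T.Normal := Cfsg.pCore_normal p G
  have hTS : T ≤ (S : Subgroup G) := PBasic.pCore_le_sylow S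
  have frat : ∀ D : Subgroup G, D.Normal → D ≤ Subgroup.normalizer (A : Set G) →
      ¬ (S : Subgroup G) ⊓ D ≤ T → Subgroup.normalizer (A : Set G) = ⊤ := by
    intro D hD hDA hne
    obtain ⟨P, hP⟩ := PBasic.exists_sylow_subgroupOf S D
    have h1 := Sylow.normalizer_sup_eq_top P
    rw [hP, Subgroup.subgroupOf_map_subtype] at h1
    rw [eq_top_iff, ← h1]
    refine sup_le (hmax _ ?_ (normalizer_ne_top_of_not_le (S.isPGroup'.to_le inf_le_left) hne)) hDA
    intro s hs
    refine Subgroup.mem_normalizer_iff.2 fun z => ?_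
    have h2 := Subgroup.mem_normalizer_iff.1 (Subgroup.le_normalizer hs) z
    have h3 : z ∈ D ↔ s * z * s⁻¹ ∈ D :=
      ⟨fun h => hD.conj_mem z h s, fun h => by simpa [mul_assoc] using hD.conj_mem _ h s⁻¹⟩
    rw [Subgroup.mem_inf, Subgroup.mem_inf, h2, h3]
  set D := Subgroup.centralizer (T : Set G) with hD
  have hDn : D.Normal := inferInstance
  by_cases hZT : (S : Subgroup G) ⊓ D ≤ T
  swap
  · exact frat D hDn ((Subgroup.centralizer_le hAT).trans (Subgroup.centralizer_le_normalizer _)) hZT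
  set V := T ⊓ D with hV
  haveI : V.Normal := inferInstance
  have hZV : (S : Subgroup G) ⊓ Subgroup.centralizer ((S : Subgroup G) : Set G) ≤ V := by
    intro z hz
    have hzD : z ∈ D := Subgroup.centralizer_le hTS hz.2
    exact ⟨hZT ⟨hz.1, hzD⟩, hzD⟩
  set L := Subgroup.closure ((fun v : G => v ^ p) '' (V : Set G)) with hL
  haveI : L.Normal := by
    rw [← Subgroup.normalizer_eq_top_iff, eq_top_iff]
    intro a _
    rw [← map_cj_eq_iff, hL, MonoidHom.map_closure]
    refine congrArg Subgroup.closure (Set.ext fun y => ⟨?_, ?_⟩)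
    · rintro ⟨_, ⟨v, hv, rfl⟩, rfl⟩
      exact ⟨cj a v, (inferInstance : V.Normal).conj_mem v hv a, (map_pow (cj a) v p).symm⟩
    · rintro ⟨v, hv, rfl⟩
      refine ⟨(a⁻¹ * v * a) ^ p, ⟨_, by simpa using (inferInstance : V.Normal).conj_mem v hv a⁻¹, rfl⟩, ?_⟩
      rw [map_pow]
      congr 1
      rw [cj_apply]
      group
  have hAL : A ≤ L := hA.trans (Subgroup.closure_mono (Set.image_mono hZV))
  obtain ⟨u, huS, huT, hup, hu⟩ : ∃ u : G, u ∈ (S : Subgroup G) ∧ u ∉ T ∧ u ^ p ∈ T ∧
      u ∈ Subgroup.zpowers g := by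
    obtain ⟨k, hk⟩ := S.isPGroup' ⟨g, hgS⟩
    have hk' : g ^ p ^ k = 1 := congrArg Subtype.val hk
    have hex : ∃ j, g ^ p ^ j ∈ T := ⟨k, hk' ▸ one_mem _⟩
    obtain ⟨j, hj⟩ : ∃ j, Nat.find hex = j + 1 := ⟨Nat.find hex - 1, by
      have : Nat.find hex ≠ 0 := fun h => hgO (by simpa [h] using Nat.find_spec hex)
      omega⟩
    refine ⟨g ^ p ^ j, pow_mem hgS _, Nat.find_min hex (by omega), ?_, Subgroup.npow_mem_zpowers _ _⟩
    rw [← pow_mul, ← pow_succ, ← hj]
    exact Nat.find_spec hex
  have huC : u ∈ Subgroup.centralizer (L : Set G) := by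
    rw [hL, Subgroup.centralizer_closure, Subgroup.mem_centralizer_iff]
    rintro _ ⟨v, hv, rfl⟩
    set c := ⁅v, u⁆ with hc
    have hcV : c ∈ V := Subgroup.commutator_le_left V ⊤ (Subgroup.commutator_mem_commutator hv (Subgroup.mem_top u))
    have hcu : Commute c u := by
      rw [← commutatorElement_eq_one_iff_commute, ← Subgroup.mem_bot, ← hq]
      exact Subgroup.commutator_mem_commutator (Subgroup.commutator_mem_commutator hv hu) hu
    have hVab : ∀ a ∈ V, ∀ b ∈ V, Commute a b := fun a ha b hb =>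
      Subgroup.mem_centralizer_iff.1 hb.2 a ha.1
    -- powers of `u` move `v` by powers of `c`
    have hstep : ∀ i : ℕ, u ^ i * v * (u ^ i)⁻¹ = (c ^ i)⁻¹ * v := by
      intro i
      induction i with
      | zero => simp
      | succ i ih =>
        have e1 : u * v * u⁻¹ = c⁻¹ * v := by
          rw [hc]; simp only [commutatorElement_def]; group
        have e2 : u * (c ^ i)⁻¹ * u⁻¹ = (c ^ i)⁻¹ :=
          commute_iff_conj.2 (hcu.symm.pow_right i).inv_right
        calc u ^ (i + 1) * v * (u ^ (i + 1))⁻¹ = u * (u ^ i * v * (u ^ i)⁻¹) * u⁻¹ := by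
              rw [pow_succ']; group
          _ = (u * (c ^ i)⁻¹ * u⁻¹) * (u * v * u⁻¹) := by rw [ih]; group
          _ = (c ^ (i + 1))⁻¹ * v := by rw [e1, e2, pow_succ', mul_inv_rev, mul_assoc]
    have hcp : c ^ p = 1 := by
      have h := hstep p
      rw [commute_iff_conj.2 (show Commute (u ^ p) v from Subgroup.mem_centralizer_iff.1 hv.2 _ hup)] at h
      simpa using h
    have e1 : u * v * u⁻¹ = c⁻¹ * v := by simpa using hstep 1
    have e3 : u * v ^ p * u⁻¹ = v ^ p := by
      rw [← conj_pow, e1, (hVab _ (inv_mem hcV) _ hv).mul_pow, inv_pow, hcp, inv_one, one_mul]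
    exact (mul_inv_eq_iff_eq_mul.1 e3).symm
  refine frat _ inferInstance ((Subgroup.centralizer_le hAL).trans (Subgroup.centralizer_le_normalizer _)) ?_
  exact fun hle => huT (hle ⟨huS, huC⟩)

variable {W : Subgroup G → Subgroup G}

/-- The hypothesis: a quadratic element on `Z(O_p H)` whenever `W T` is not normal in `H`. -/
def LocQuad (p : ℕ) (W : Subgroup G → Subgroup G) : Prop :=
  ∀ H T : Subgroup G, IsSylowIn p T H → ¬ H ≤ Subgroup.normalizer ((W T : Subgroup G) : Set G) →
    ∃ g : ↥H, (g : G) ∈ T ∧ g ∉ pCore p ↥H ∧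
      ⁅⁅pCore p ↥H ⊓ Subgroup.centralizer ((pCore p ↥H : Subgroup ↥H) : Set ↥H), Subgroup.zpowers g⁆,
        Subgroup.zpowers g⁆ = ⊥

theorem zPow_subgroupOf_le {H T : Subgroup G} (hTH : T ≤ H) :
    zPow p T ≤ (zPow p (T.subgroupOf H)).map H.subtype := by
  rw [zPow, Subgroup.closure_le]
  rintro _ ⟨z, hz, rfl⟩
  obtain ⟨hzT, hzC⟩ := Subgroup.mem_inf.1 hz
  refine ⟨(⟨z, hTH hzT⟩ : ↥H) ^ p, Subgroup.subset_closure ⟨_, Subgroup.mem_inf.2 ⟨hzT, ?_⟩, rfl⟩, rfl⟩
  exact Subgroup.mem_centralizer_iff.2 fun a ha => Subtype.ext (Subgroup.mem_centralizer_iff.1 hzC a ha)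

theorem weakClosure_zPow (hW : IsConjugacyFunctor p W)
    (hWZ : ∀ P : Subgroup G, IsPGroup p ↥P → P ⊓ Subgroup.centralizer (P : Set G) ≤ W P)
    (hloc : LocQuad p W) :
    ∀ H T : Subgroup G, IsSylowIn p T H → ∀ A : Subgroup G, A ≤ zPow p T →
      H ⊓ Subgroup.normalizer ((W T : Subgroup G) : Set G) ≤ Subgroup.normalizer (A : Set G) →
      ∀ h ∈ H, A.map (cj h) ≤ T → A.map (cj h) = A := by
  intro H
  induction hc : Nat.card ↥H using Nat.strong_induction_on generalizing H with
  | _ n ih =>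
    intro T hT A hA hAN h hh hhT
    subst hc
    by_contra hne
    obtain ⟨S, hS⟩ := hT.exists_sylow
    have hSmap : (S : Subgroup ↥H).map H.subtype = T := by
      rw [hS, Subgroup.map_subgroupOf_eq_of_le hT.le]
    have hW' := resFun_isConjugacyFunctor hW H
    have hW'S : (resFun W H (S : Subgroup ↥H)) = (W T).subgroupOf H := by rw [resFun, hSmap]
    have hWT : W T ≤ H := (conjFunctor_le hW hT.isPGroup).trans hT.le
    have hAZ : A ≤ T ⊓ Subgroup.centralizer (T : Set G) := hA.trans (zPow_le T)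
    have hAH : A ≤ H := (hAZ.trans inf_le_left).trans hT.le
    set A' := A.subgroupOf H with hA'def
    have hA'map : A'.map H.subtype = A := Subgroup.map_subgroupOf_eq_of_le hAH
    have hnorm : ∀ a : ↥H, a ∈ Subgroup.normalizer (A' : Set ↥H) ↔
        (a : G) ∈ Subgroup.normalizer (A : Set G) := by
      intro a
      rw [hA'def, ← Subgroup.subgroupOf_normalizer_eq hAH]
      exact Iff.rfl
    have hA'pow : A' ≤ zPow p (S : Subgroup ↥H) := by
      rw [← Subgroup.map_subtype_le_map_subtype, hA'map, hS]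
      exact hA.trans (zPow_subgroupOf_le hT.le)
    have hA'Z := hA'pow.trans (zPow_le (S : Subgroup ↥H))
    have hxN' : Subgroup.normalizer ((resFun W H (S : Subgroup ↥H) : Subgroup ↥H) : Set ↥H) ≤
        Subgroup.normalizer (A' : Set ↥H) := by
      rw [hW'S, ← Subgroup.subgroupOf_normalizer_eq hWT]
      exact fun a ha => (hnorm a).2 (hAN ⟨a.2, ha⟩)
    have hmapcj : ∀ (a : ↥H) (Q : Subgroup ↥H), (Q.map (cj a)).map H.subtype =
        (Q.map H.subtype).map (cj (a : G)) := by
      intro a Q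
      rw [Subgroup.map_map, Subgroup.map_map]
      rfl
    have hnwc : ¬ IsWeaklyClosed A' (S : Subgroup ↥H) := by
      intro hwc
      refine hne ?_
      have h1 := hwc.2 ⟨h, hh⟩ (by
        rw [← Subgroup.map_subtype_le_map_subtype, hmapcj, hA'map, hSmap]
        exact hhT)
      have h2 := congrArg (Subgroup.map H.subtype) h1
      rwa [hmapcj, hA'map] at h2
    obtain ⟨R, hRwp, hAR, hPN, hPsyl, hAP, a, ha, haP, hane⟩ :=
      Cfsg.Agent.S1968.result S (resFun W H) hW' (resFun_center hW hWZ H) A' hA'Z hxN' hnwc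
    by_cases hRn : Subgroup.normalizer (R : Set ↥H) = ⊤
    swap
    · set P := (S : Subgroup ↥H) ⊓ Subgroup.normalizer (R : Set ↥H) with hPdef
      set K := (Subgroup.normalizer (R : Set ↥H)).map H.subtype with hK
      have hPp : IsPGroup p ↥P := S.isPGroup'.to_le inf_le_left
      have hPK : IsSylowIn p (P.map H.subtype) K := ⟨Subgroup.map_mono inf_le_right, hPp.map _, by
        rw [hK, Subgroup.relIndex_map_map_of_injective _ _ H.subtype_injective]; exact hPsyl⟩
      have hlt : Nat.card ↥K < Nat.card ↥H := by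
        rw [hK, Subgroup.card_map_of_injective H.subtype_injective]
        exact card_lt_of_ne_top hRn
      refine hane (Subgroup.map_injective H.subtype_injective ?_)
      have key := ih _ hlt K rfl _ hPK A ?_ ?_ a ⟨a, ha, rfl⟩ ?_
      · change (A'.map (cj a)).map H.subtype = _
        rw [hmapcj, hA'map]
        exact key
      · refine hA.trans ?_
        rw [zPow, zPow, Subgroup.closure_le]
        rintro _ ⟨z, hz, rfl⟩
        obtain ⟨hzT, hzC⟩ := Subgroup.mem_inf.1 hz
        have hzP : (⟨z, hT.le hzT⟩ : ↥H) ∈ P := by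
          refine Subgroup.mem_inf.2 ⟨by rw [hS]; exact hzT, Subgroup.centralizer_le_normalizer _
            (Subgroup.mem_centralizer_iff.2 fun r hr => Subtype.ext ?_)⟩
          refine Subgroup.mem_centralizer_iff.1 hzC r ?_
          have := hRwp.1 hr
          rw [hS] at this
          exact this
        refine Subgroup.subset_closure ⟨z, Subgroup.mem_inf.2 ⟨⟨_, hzP, rfl⟩, ?_⟩, rfl⟩
        refine Subgroup.centralizer_le ?_ hzC
        rw [← hSmap]
        exact Subgroup.map_mono inf_le_left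
      · rintro b ⟨⟨b', -, rfl⟩, hbN⟩
        refine (hnorm b').1 (hPN ?_)
        rw [resFun, ← Subgroup.subgroupOf_normalizer_eq
          ((conjFunctor_le hW (hPp.map _)).trans (Subgroup.map_subtype_le _))]
        exact hbN
      · rw [← hA'map, ← hmapcj]
        exact Subgroup.map_mono haP
    · haveI : R.Normal := Subgroup.normalizer_eq_top_iff.1 hRn
      haveI : (pCore p ↥H).Normal := Cfsg.pCore_normal p _
      have hAO : A' ≤ pCore p ↥H :=
        hAR.trans (PBasic.le_pCore inferInstance (S.isPGroup'.to_le hRwp.1))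
      have hns : ¬ H ≤ Subgroup.normalizer ((W T : Subgroup G) : Set G) := fun hle =>
        hne (map_cj_eq_iff.2 (hAN ⟨hh, hle hh⟩))
      obtain ⟨g, hgT, hgO, hq⟩ := hloc H T hT hns
      have htop := normal_of_quadratic S hA'pow hAO (g := g) (by rw [hS]; exact hgT) hgO hq ?_
      · exact hane (map_cj_eq_iff.2 (htop ▸ Subgroup.mem_top a))
      intro K hSK hKtop b hb
      refine (hnorm b).2 (map_cj_eq_iff.1 ?_)
      have hlt : Nat.card ↥(K.map H.subtype) < Nat.card ↥H := by
        rw [Subgroup.card_map_of_injective H.subtype_injective]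
        exact card_lt_of_ne_top hKtop
      refine ih _ hlt (K.map H.subtype) rfl T (hT.of_le ?_ (Subgroup.map_subtype_le _)) A hA
        ((inf_le_inf_right _ (Subgroup.map_subtype_le _)).trans hAN) b ⟨b, hb, rfl⟩ ?_
      · rw [← hSmap]; exact Subgroup.map_mono hSK
      · rw [← hA'map, ← hmapcj, ← hSmap]
        refine Subgroup.map_mono ((Subgroup.map_mono hAO).trans ?_)
        rw [map_cj_eq_iff.2 (Subgroup.normalizer_eq_top (H := pCore p ↥H) ▸ Subgroup.mem_top b)]
        exact PBasic.pCore_le_sylow S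

/-- Both conclusions at a Sylow subgroup of `G`. -/
theorem zPow_conclusions (hW : IsConjugacyFunctor p W)
    (hWZ : ∀ P : Subgroup G, IsPGroup p ↥P → P ⊓ Subgroup.centralizer (P : Set G) ≤ W P)
    (hloc : LocQuad p W) (S : Sylow p G) :
    (∀ x ∈ zPow p (S : Subgroup G) ⊓ Subgroup.centralizer
        ((Subgroup.normalizer ((W (S : Subgroup G) : Subgroup G) : Set G) : Subgroup G) : Set G),
      ∀ g : G, g * x * g⁻¹ ∈ (S : Subgroup G) → g * x * g⁻¹ = x) ∧
    ∀ A : Subgroup G, A ≤ zPow p (S : Subgroup G) →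
      Subgroup.normalizer ((W (S : Subgroup G) : Subgroup G) : Set G) ≤ Subgroup.normalizer (A : Set G) →
      IsWeaklyClosed A (S : Subgroup G) := by
  have key : ∀ A : Subgroup G, A ≤ zPow p (S : Subgroup G) →
      Subgroup.normalizer ((W (S : Subgroup G) : Subgroup G) : Set G) ≤ Subgroup.normalizer (A : Set G) →
      IsWeaklyClosed A (S : Subgroup G) := fun A hA hAN =>
    ⟨(hA.trans (zPow_le _)).trans inf_le_left, fun g hg =>
      weakClosure_zPow hW hWZ hloc ⊤ (S : Subgroup G) (isSylowIn_sylow S) A hA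
        (inf_le_right.trans hAN) g (Subgroup.mem_top g) hg⟩
  refine ⟨fun x hx g hg => ?_, key⟩
  obtain ⟨hxZ, hxC⟩ := Subgroup.mem_inf.1 hx
  set N := Subgroup.normalizer ((W (S : Subgroup G) : Subgroup G) : Set G) with hN
  set A := Subgroup.zpowers x with hA
  have hNx : N ≤ Subgroup.centralizer ({x} : Set G) := fun a ha =>
    mem_centralizer_singleton.2 (mul_inv_eq_iff_eq_mul.2 (Subgroup.mem_centralizer_iff.1 hxC a ha))
  have hcA : ∀ a : G, a ∈ Subgroup.centralizer ({x} : Set G) → ∀ y ∈ A, a * y * a⁻¹ = y := by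
    rintro a ha _ ⟨i, rfl⟩
    rw [← conj_zpow, mem_centralizer_singleton.1 ha]
  have hCN : Subgroup.centralizer ({x} : Set G) ≤ Subgroup.normalizer (A : Set G) := by
    refine le_trans (fun a ha => ?_) (Subgroup.centralizer_le_normalizer _)
    exact Subgroup.mem_centralizer_iff.2 fun y hy => (mul_inv_eq_iff_eq_mul.1 (hcA a ha y hy)).symm
  obtain ⟨-, hwc⟩ := key A (Subgroup.zpowers_le.2 hxZ) (hNx.trans hCN)
  have hgN : g ∈ Subgroup.normalizer (A : Set G) := by
    refine map_cj_eq_iff.1 (hwc g ?_)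
    rw [hA, MonoidHom.map_zpowers, Subgroup.zpowers_le]
    exact hg
  -- `N(A) = C(x) N(S)`
  set L := Subgroup.normalizer (A : Set G) with hL
  set C := (Subgroup.centralizer ({x} : Set G)).subgroupOf L with hC
  haveI : C.Normal := by
    refine ⟨fun a ha b => ?_⟩
    rw [hC, Subgroup.mem_subgroupOf, mem_centralizer_singleton] at ha ⊢
    have hy : (b : G)⁻¹ * x * b ∈ A :=
      (Subgroup.mem_normalizer_iff.1 b.2 _).2 (by simp [mul_assoc, hA])
    have := hcA a (mem_centralizer_singleton.2 ha) _ hy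
    simp only [Subgroup.coe_mul, InvMemClass.coe_inv]
    calc (b : G) * a * (b : G)⁻¹ * x * ((b : G) * a * (b : G)⁻¹)⁻¹
        = b * ((a : G) * ((b : G)⁻¹ * x * b) * (a : G)⁻¹) * (b : G)⁻¹ := by group
      _ = x := by rw [this]; group
  have hSC : (S : Subgroup G) ≤ Subgroup.centralizer ({x} : Set G) :=
    (le_normalizer_conjFunctor hW S.isPGroup').trans hNx
  obtain ⟨P, hP⟩ := PBasic.exists_sylow_subgroupOf (S.subtype (hSC.trans hCN)) C
  have h1 := Sylow.normalizer_sup_eq_top P
  rw [hP, Subgroup.subgroupOf_map_subtype, S.coe_subtype,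
    inf_eq_left.2 (show (S : Subgroup G).subgroupOf L ≤ C from fun y hy => hSC hy)] at h1
  obtain ⟨m, hm, c, hc, hmc⟩ := Subgroup.mem_sup_of_normal_right.1 (h1.ge (Subgroup.mem_top ⟨g, hgN⟩))
  have hm' : (m : G) ∈ N := by
    rw [← Subgroup.subgroupOf_normalizer_eq (hSC.trans hCN)] at hm
    exact normalizer_le_normalizer_conjFunctor hW S.isPGroup' hm
  have hg' : g = (m : G) * c := (congrArg Subtype.val hmc).symm
  refine mem_centralizer_singleton.1 (hg' ▸ mul_mem (hNx hm') ?_)
  exact hc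

end Cfsg.Agent.Functors
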