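import Cfsg.Agent.Lib.Functors.OrbitFix
import Cfsg.Agent.Lib.Functors.Families
import Cfsg.Prelude.Def_Amalgam

/-!
Weak closure of elements controlled by a functor containing the centre.
-/

set_option autoImplicit false
set_option linter.style.haveILetI false
set_option linter.unusedSectionVars false

namespace Cfsg.Agent.Functors

open Cfsg
open scoped commutatorElement

universe u

variable {G : Type u} [Group G] [Finite G] {p : ℕ} [Fact p.Prime]

theorem commute_iff_conj {g x : G} : g * x * g⁻¹ = x ↔ Commute g x :=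
  mul_inv_eq_iff_eq_mul

theorem mem_centralizer_singleton {g x : G} :
    g ∈ Subgroup.centralizer ({x} : Set G) ↔ g * x * g⁻¹ = x := by
  rw [Subgroup.mem_centralizer_singleton_iff, mul_inv_eq_iff_eq_mul]
  try exact eq_comm

/-- An element of an abelian normal subgroup whose centralizer contains every proper overgroup of
`S` is central, when some element outside `O_p` kills the factors below that subgroup. -/
theorem central_of_killers (S : Sylow p G) {V₀ : Subgroup G} [hV₀ : V₀.Normal]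
    (hV₀p : IsPGroup p ↥V₀) (hab : ⁅V₀, V₀⁆ = ⊥) {g : G} (hgS : g ∈ (S : Subgroup G))
    (hgO : g ∉ pCore p G) (hkill : KillsFactors p V₀ g) {x : G} (hx : x ∈ V₀)
    (hxS : (S : Subgroup G) ≤ Subgroup.centralizer ({x} : Set G))
    (hmax : ∀ K : Subgroup G, (S : Subgroup G) ≤ K → K ≠ ⊤ → K ≤ Subgroup.centralizer ({x} : Set G)) :
    Subgroup.centralizer ({x} : Set G) = ⊤ := by
  by_contra hMtop
  set M := Subgroup.centralizer ({x} : Set G) with hM
  set Δ := {v : G | v ∈ (S : Subgroup G) ∧ KillsFactors p V₀ v} with hΔ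
  set E := Subgroup.closure Δ with hE
  have hES : E ≤ (S : Subgroup G) := (Subgroup.closure_le _).2 fun v hv => hv.1
  have hEp : IsPGroup p ↥E := S.isPGroup'.to_le hES
  have hEN : (S : Subgroup G) ≤ Subgroup.normalizer (E : Set G) := by
    intro s hs
    rw [← map_cj_eq_iff]
    refine Subgroup.eq_of_le_of_card_ge ?_ (card_map_cj _ _).ge
    rw [hE, MonoidHom.map_closure, Subgroup.closure_le]
    rintro _ ⟨v, hv, rfl⟩
    exact Subgroup.subset_closure ⟨mul_mem (mul_mem hs hv.1) (inv_mem hs), hv.2.conj s⟩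
  have hENM : Subgroup.normalizer (E : Set G) ≤ M := hmax _ hEN
    (normalizer_ne_top_of_not_le hEp fun h => hgO (h (Subgroup.subset_closure ⟨hgS, hkill⟩)))
  have hmove : ∀ a : G, (∀ e ∈ E, a⁻¹ * e * a ∈ M) → a ∈ M := by
    intro a ha
    have hle : E.map (cj a⁻¹) ≤ M := by
      rintro _ ⟨e, he, rfl⟩
      rw [cj_apply, inv_inv]
      exact ha e he
    obtain ⟨n, hn, hnE⟩ := exists_conj_le_of_isSylowIn ((isSylowIn_sylow S).of_le hxS le_top)
      (hEp.map _) hle
    rw [map_map_cj] at hnE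
    have heq : E.map (cj (n * a⁻¹)) = E := by
      refine Subgroup.eq_of_le_of_card_ge ?_ (card_map_cj _ _).ge
      conv_lhs => rw [hE]
      rw [MonoidHom.map_closure, Subgroup.closure_le]
      rintro _ ⟨v, hv, rfl⟩
      exact Subgroup.subset_closure ⟨hnE ⟨v, Subgroup.subset_closure hv, rfl⟩, hv.2.conj _⟩
    have h1 := hENM (map_cj_eq_iff.1 heq)
    have h2 := inv_mem (mul_mem (inv_mem hn) h1)
    simpa using h2
  suffices key : ∀ U : Subgroup G, U.Normal → U ≤ V₀ → ∀ y ∈ U,
      Subgroup.centralizer ({y} : Set G) = M → False from key V₀ hV₀ le_rfl x hx rfl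
  intro U
  induction hc : Nat.card ↥U using Nat.strong_induction_on generalizing U with
  | _ n ih =>
    intro hUn hUV y hy hyM
    subst hc
    haveI := hUn
    by_cases hbot : U = ⊥
    · rw [hbot, Subgroup.mem_bot] at hy
      subst hy
      refine hMtop (eq_top_iff.2 fun a _ => ?_)
      rw [← hyM, mem_centralizer_singleton]
      simp
    obtain ⟨V, -, hUV'⟩ := ChiefAct.exists_chiefFactor_above (Z := ⊥) (bot_lt_iff_ne_bot.2 hbot : ⊥ < U)
    haveI := hUV'.2.2.1
    have habU : ⁅U, U⁆ = ⊥ := le_bot_iff.1 ((Subgroup.commutator_mono hUV hUV).trans hab.le)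
    obtain ⟨z, hzU, hz, hzV⟩ := OrbitFix.exists_central_congr (p := p) (V := V) habU
      (fun a ha => OrbitFix.pow_mem_of_chief hUV' habU (hV₀p.to_le hUV) ha) hEp hE
      (fun v hv a ha => hv.2 U V hUV' hUV (ChiefAct.dg_iterate_mem_iterCommutator ha _))
      (hES.trans hxS) hmove hy (fun m hm => mem_centralizer_singleton.1 (hyM.ge hm))
    refine ih _ ?_ V rfl hUV'.2.2.1 (hUV'.1.le.trans hUV) _ hzV ?_
    · exact lt_of_le_of_ne (Subgroup.card_le_of_le hUV'.1.le) fun e =>
        hUV'.1.ne (Subgroup.eq_of_le_of_card_ge hUV'.1.le e.ge)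
    · rw [← hyM]
      ext a
      rw [mem_centralizer_singleton, mem_centralizer_singleton,
        show a * (y⁻¹ * z) * a⁻¹ = (a * y * a⁻¹)⁻¹ * (a * z * a⁻¹) by group, hz a,
        mul_left_inj, inv_inj]

variable {W : Subgroup G → Subgroup G}

/-- Element form of the well-placed witness. -/
theorem exists_moving_extremal (S : Sylow p G) (hW : IsConjugacyFunctor p W)
    (hWZ : ∀ P : Subgroup G, IsPGroup p ↥P → P ⊓ Subgroup.centralizer (P : Set G) ≤ W P) {x : G}
    (hxS : x ∈ (S : Subgroup G))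
    (hxN : Subgroup.normalizer ((W (S : Subgroup G) : Subgroup G) : Set G) ≤ Subgroup.centralizer ({x} : Set G))
    {g : G} (hg : g * x * g⁻¹ ∈ (S : Subgroup G)) (hne : g * x * g⁻¹ ≠ x) :
    ∃ T : Subgroup G, T ≤ (S : Subgroup G) ∧ x ∈ T ∧
      IsSylowIn p ((S : Subgroup G) ⊓ Subgroup.normalizer (T : Set G)) (Subgroup.normalizer (T : Set G)) ∧
      Subgroup.normalizer ((W ((S : Subgroup G) ⊓ Subgroup.normalizer (T : Set G)) : Subgroup G) : Set G) ≤
        Subgroup.centralizer ({x} : Set G) ∧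
      ¬ Subgroup.normalizer (T : Set G) ≤ Subgroup.centralizer ({x} : Set G) := by
  classical
  have hP : ∀ T : Subgroup G, IsPGroup p ↥((S : Subgroup G) ⊓ Subgroup.normalizer (T : Set G)) :=
    fun T => S.isPGroup'.to_le inf_le_left
  set 𝒯 := {T : Subgroup G | IsWellPlaced p W (S : Subgroup G) T ∧ x ∈ T ∧
    ¬ Subgroup.normalizer (T : Set G) ≤ Subgroup.centralizer ({x} : Set G)} with h𝒯
  have hne' : 𝒯.Nonempty := by
    have hch := chain_of_extremal
      (𝓕 := {T : Subgroup G | IsWellPlaced p W (S : Subgroup G) T}) S (fun U hU => hU.1)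
      (fun T hT => by
        obtain ⟨k, hk, -⟩ := exists_wellPlaced S hW hT
        exact ⟨_, hk, ⟨k, rfl⟩, IsWellPlaced.extremal S.isPGroup' hk⟩)
      (A := ({x} : Set G)) (g := g⁻¹) (Set.singleton_subset_iff.2 hxS)
      (by rintro _ ⟨a, rfl, rfl⟩; rw [SetLike.mem_coe]; simpa using hg)
    rcases hch.exists_moving with h | ⟨T, hT, hAT, a, ha, haA⟩
    · rw [inv_inv, Set.image_singleton, Set.singleton_eq_singleton_iff, cj_apply] at h
      exact absurd h hne
    · refine ⟨T, hT, hAT rfl, fun hle => haA ?_⟩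
      rw [Set.image_singleton, cj_apply, mem_centralizer_singleton.1 (hle ha)]
  obtain ⟨T, ⟨hTwp, hxT, hTmove⟩, hmax⟩ := (Set.toFinite 𝒯).exists_maximalFor
    (fun T : Subgroup G => Nat.card ↥((S : Subgroup G) ⊓ Subgroup.normalizer (T : Set G))) 𝒯 hne'
  refine ⟨T, hTwp.1, hxT, ⟨inf_le_right, hP T, hTwp.2 0⟩, ?_, hTmove⟩
  by_contra hbad
  have hwp1 : IsWellPlaced p W (S : Subgroup G)
      (W ((S : Subgroup G) ⊓ Subgroup.normalizer (T : Set G))) :=
    IsWellPlaced.shift hW S.isPGroup' hTwp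
  have hxC : x ∈ Subgroup.centralizer (((S : Subgroup G) ⊓ Subgroup.normalizer (T : Set G) : Subgroup G) : Set G) :=
    Subgroup.mem_centralizer_iff.2 fun s hs => by
      have := mem_centralizer_singleton.1
        (hxN (le_normalizer_conjFunctor hW S.isPGroup' (Subgroup.mem_inf.1 hs).1))
      exact mul_inv_eq_iff_eq_mul.1 this
  have hx1 : x ∈ W ((S : Subgroup G) ⊓ Subgroup.normalizer (T : Set G)) :=
    hWZ _ (hP T) ⟨⟨hxS, Subgroup.le_normalizer hxT⟩, hxC⟩
  have hmono := towerNorm_mono hW S.isPGroup' T 0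
  have heq : towerNorm W (S : Subgroup G) T (0 + 1) = towerNorm W (S : Subgroup G) T 0 :=
    (Subgroup.eq_of_le_of_card_ge hmono (hmax ⟨hwp1, hx1, hbad⟩ (Subgroup.card_le_of_le hmono))).symm
  have hS : (S : Subgroup G) ⊓ Subgroup.normalizer (T : Set G) = (S : Subgroup G) :=
    towerNorm_eq_of_stationary hW S.isPGroup' heq
  rw [hS] at hbad
  exact hbad hxN

/-! ### restriction of a functor to a subgroup -/

/-- The functor seen inside the subgroup `H`. -/
def resFun (W : Subgroup G → Subgroup G) (H : Subgroup G) : Subgroup ↥H → Subgroup ↥H :=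
  fun P => (W (P.map H.subtype)).subgroupOf H

theorem resFun_map (hW : IsConjugacyFunctor p W) (H : Subgroup G) {P : Subgroup ↥H}
    (hP : IsPGroup p ↥P) : (resFun W H P).map H.subtype = W (P.map H.subtype) :=
  Subgroup.map_subgroupOf_eq_of_le ((conjFunctor_le hW (hP.map _)).trans (Subgroup.map_subtype_le P))

theorem resFun_isConjugacyFunctor (hW : IsConjugacyFunctor p W) (H : Subgroup G) :
    IsConjugacyFunctor p (resFun W H) := by
  intro P hP
  have hinj : Function.Injective (Subgroup.map H.subtype) := Subgroup.map_injective H.subtype_injective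
  refine ⟨?_, fun hne he => ?_, fun g => hinj ?_⟩
  · rw [← Subgroup.map_subtype_le_map_subtype, resFun_map hW H hP]
    exact conjFunctor_le hW (hP.map _)
  · refine conjFunctor_ne_bot hW (hP.map H.subtype) ?_ ?_
    · rwa [Ne, Subgroup.map_eq_bot_iff_of_injective _ H.subtype_injective]
    · rw [← resFun_map hW H hP, he, Subgroup.map_bot]
  · have hmap : ∀ Q : Subgroup ↥H, (Q.map (MulAut.conj g).toMonoidHom).map H.subtype =
        (Q.map H.subtype).map (cj (g : G)) := by
      intro Q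
      rw [Subgroup.map_map, Subgroup.map_map]
      rfl
    rw [resFun_map hW H (hP.map _), hmap, hmap, resFun_map hW H hP, conjFunctor_map hW (hP.map _)]

theorem resFun_center (hW : IsConjugacyFunctor p W)
    (hWZ : ∀ P : Subgroup G, IsPGroup p ↥P → P ⊓ Subgroup.centralizer (P : Set G) ≤ W P)
    (H : Subgroup G) (P : Subgroup ↥H) (hP : IsPGroup p ↥P) :
    P ⊓ Subgroup.centralizer (P : Set ↥H) ≤ resFun W H P := by
  intro y hy
  obtain ⟨hyP, hyC⟩ := Subgroup.mem_inf.1 hy
  refine hWZ _ (hP.map _) (Subgroup.mem_inf.2 ⟨⟨y, hyP, rfl⟩, Subgroup.mem_centralizer_iff.2 ?_⟩)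
  rintro _ ⟨z, hz, rfl⟩
  exact congrArg Subtype.val (Subgroup.mem_centralizer_iff.1 hyC z hz)

/-- The hypothesis: whenever `W T` is not normal in `H`, some element of `T` outside `O_p H` kills
the chief factors below `Z(O_p H)`. -/
def LocKill (p : ℕ) (W : Subgroup G → Subgroup G) : Prop :=
  ∀ H T : Subgroup G, T ≤ H → IsPGroup p ↥T → ¬ p ∣ T.relIndex H →
    ¬ H ≤ Subgroup.normalizer ((W T : Subgroup G) : Set G) →
    ∃ g : G, g ∈ T ∧ g ∉ pCoreOf p H ∧ ∀ U V : Subgroup ↥H, IsChiefFactor U V →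
      U.map H.subtype ≤ pCoreOf p H ⊓ Subgroup.centralizer ((pCoreOf p H : Subgroup G) : Set G) →
      iterCommutator (U.map H.subtype) (Subgroup.zpowers g) (p - 1) ≤ V.map H.subtype

/-- The hypothesis: an element of `Z(O_p H)` fixed by `T` is central once every proper overgroup
of `T` fixes it, whenever `W T` is not normal in `H`. -/
def LocCentral (p : ℕ) (W : Subgroup G → Subgroup G) : Prop :=
  ∀ H T : Subgroup G, IsSylowIn p T H → ¬ H ≤ Subgroup.normalizer ((W T : Subgroup G) : Set G) →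
    ∀ S : Sylow p ↥H, (S : Subgroup ↥H) = T.subgroupOf H →
      ∀ x ∈ pCore p ↥H ⊓ Subgroup.centralizer ((pCore p ↥H : Subgroup ↥H) : Set ↥H),
        (S : Subgroup ↥H) ≤ Subgroup.centralizer ({x} : Set ↥H) →
        (∀ K : Subgroup ↥H, (S : Subgroup ↥H) ≤ K → K ≠ ⊤ → K ≤ Subgroup.centralizer ({x} : Set ↥H)) →
        Subgroup.centralizer ({x} : Set ↥H) = ⊤

theorem weakClosureElem_of_central (hW : IsConjugacyFunctor p W)
    (hWZ : ∀ P : Subgroup G, IsPGroup p ↥P → P ⊓ Subgroup.centralizer (P : Set G) ≤ W P)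
    (hloc : LocCentral p W) :
    ∀ H T : Subgroup G, IsSylowIn p T H → ∀ x ∈ T,
      H ⊓ Subgroup.normalizer ((W T : Subgroup G) : Set G) ≤ Subgroup.centralizer ({x} : Set G) →
      ∀ h ∈ H, h * x * h⁻¹ ∈ T → h * x * h⁻¹ = x := by
  intro H
  induction hc : Nat.card ↥H using Nat.strong_induction_on generalizing H with
  | _ n ih =>
    intro T hT x hxT hxN h hh hhT
    subst hc
    by_contra hne
    obtain ⟨S, hS⟩ := hT.exists_sylow
    have hSmap : (S : Subgroup ↥H).map H.subtype = T := by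
      rw [hS, Subgroup.map_subgroupOf_eq_of_le hT.le]
    have hW' := resFun_isConjugacyFunctor hW H
    have hW'S : (resFun W H (S : Subgroup ↥H)) = (W T).subgroupOf H := by rw [resFun, hSmap]
    have hWT : W T ≤ H := (conjFunctor_le hW hT.isPGroup).trans hT.le
    have hcomm : ∀ a : ↥H, a ∈ Subgroup.centralizer ({(⟨x, hT.le hxT⟩ : ↥H)} : Set ↥H) ↔
        (a : G) ∈ Subgroup.centralizer ({x} : Set G) := by
      intro a
      rw [mem_centralizer_singleton, mem_centralizer_singleton, Subtype.ext_iff]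
      rfl
    set x' : ↥H := ⟨x, hT.le hxT⟩ with hx'
    have hxS : x' ∈ (S : Subgroup ↥H) := by rw [hS]; exact hxT
    have hxN' : Subgroup.normalizer ((resFun W H (S : Subgroup ↥H) : Subgroup ↥H) : Set ↥H) ≤
        Subgroup.centralizer ({x'} : Set ↥H) := by
      rw [hW'S, ← Subgroup.subgroupOf_normalizer_eq hWT]
      exact fun a ha => (hcomm a).2 (hxN ⟨a.2, ha⟩)
    have hTN : T ≤ H ⊓ Subgroup.normalizer ((W T : Subgroup G) : Set G) :=
      le_inf hT.le (le_normalizer_conjFunctor hW hT.isPGroup)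
    obtain ⟨R, hRS, hxR, hP, hPN, hmove⟩ := exists_moving_extremal S hW' (resFun_center hW hWZ H)
      hxS hxN' (g := ⟨h, hh⟩) (by rw [hS]; exact hhT) (fun e => hne (congrArg Subtype.val e))
    by_cases hRn : Subgroup.normalizer (R : Set ↥H) = ⊤
    swap
    · set P := (S : Subgroup ↥H) ⊓ Subgroup.normalizer (R : Set ↥H) with hPdef
      set K := (Subgroup.normalizer (R : Set ↥H)).map H.subtype with hK
      have hPp : IsPGroup p ↥P := hP.isPGroup
      have hKH : K ≤ H := Subgroup.map_subtype_le _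
      have hPK : IsSylowIn p (P.map H.subtype) K := ⟨Subgroup.map_mono inf_le_right, hPp.map _, by
        rw [hK, Subgroup.relIndex_map_map_of_injective _ _ H.subtype_injective]; exact hP.2.2⟩
      refine hmove fun a ha => (hcomm a).2 (mem_centralizer_singleton.2 ?_)
      have hlt : Nat.card ↥K < Nat.card ↥H := by
        rw [hK, Subgroup.card_map_of_injective H.subtype_injective]
        exact card_lt_of_ne_top hRn
      refine ih _ hlt K rfl _ hPK x ⟨x', Subgroup.mem_inf.2 ⟨hxS, Subgroup.le_normalizer hxR⟩, rfl⟩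
        ?_ a ⟨a, ha, rfl⟩ ⟨a * x' * a⁻¹, Subgroup.mem_inf.2
          ⟨hRS ((Subgroup.mem_normalizer_iff.1 ha x').1 hxR),
            Subgroup.le_normalizer ((Subgroup.mem_normalizer_iff.1 ha x').1 hxR)⟩, rfl⟩
      rintro b ⟨hbK, hbN⟩
      obtain ⟨b', -, rfl⟩ := hbK
      refine (hcomm b').1 (hPN ?_)
      rw [resFun, ← Subgroup.subgroupOf_normalizer_eq
        ((conjFunctor_le hW (hPp.map _)).trans (Subgroup.map_subtype_le _))]
      exact hbN
    · haveI : R.Normal := Subgroup.normalizer_eq_top_iff.1 hRn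
      set O := pCore p ↥H with hO
      haveI : O.Normal := Cfsg.pCore_normal p _
      have hRO : R ≤ O := PBasic.le_pCore inferInstance (S.isPGroup'.to_le hRS)
      have hOS : O ≤ (S : Subgroup ↥H) := PBasic.pCore_le_sylow S
      have hSC : (S : Subgroup ↥H) ≤ Subgroup.centralizer ({x'} : Set ↥H) := fun a ha =>
        hxN' (le_normalizer_conjFunctor hW' S.isPGroup' ha)
      have hns : ¬ H ≤ Subgroup.normalizer ((W T : Subgroup G) : Set G) := fun hle =>
        hne (mem_centralizer_singleton.1 (hxN ⟨hh, hle hh⟩))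
      have hxV : x' ∈ O ⊓ Subgroup.centralizer (O : Set ↥H) :=
        Subgroup.mem_inf.2 ⟨hRO hxR, Subgroup.mem_centralizer_iff.2 fun o ho =>
          mul_inv_eq_iff_eq_mul.1 (mem_centralizer_singleton.1 (hSC (hOS ho)))⟩
      have htop := hloc H T hT hns S hS x' hxV hSC ?_
      · exact hmove (htop ▸ le_top)
      intro K hSK hKtop a ha
      refine (hcomm a).2 (mem_centralizer_singleton.2 ?_)
      have hlt : Nat.card ↥(K.map H.subtype) < Nat.card ↥H := by
        rw [Subgroup.card_map_of_injective H.subtype_injective]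
        exact card_lt_of_ne_top hKtop
      refine ih _ hlt (K.map H.subtype) rfl T (hT.of_le ?_ (Subgroup.map_subtype_le _)) x hxT
        ((inf_le_inf_right _ (Subgroup.map_subtype_le _)).trans hxN) a ⟨a, ha, rfl⟩ ?_
      · rw [← hSmap]; exact Subgroup.map_mono hSK
      · rw [← hSmap]
        exact ⟨a * x' * a⁻¹, hOS ((inferInstance : O.Normal).conj_mem _ (hRO hxR) a), rfl⟩

theorem locCentral_of_locKill (hloc : LocKill p W) : LocCentral p W := by
  intro H T hT hns S hS x hxV hSC hmax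
  obtain ⟨g, hgT, hgO, hgk⟩ := hloc H T hT.le hT.isPGroup hT.2.2 hns
  haveI : (pCore p ↥H).Normal := Cfsg.pCore_normal p _
  have hkill : KillsFactors p (pCore p ↥H ⊓ Subgroup.centralizer ((pCore p ↥H : Subgroup ↥H) : Set ↥H))
      (⟨g, hT.le hgT⟩ : ↥H) := by
    intro U V hUV hUV₀
    rw [← Subgroup.map_subtype_le_map_subtype, iterCommutator_map, MonoidHom.map_zpowers]
    refine hgk U V hUV (le_inf ?_ ?_)
    · exact Subgroup.map_mono (hUV₀.trans inf_le_left)
    · rintro _ ⟨u, hu, rfl⟩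
      refine Subgroup.mem_centralizer_iff.2 ?_
      rintro _ ⟨o, ho, rfl⟩
      exact congrArg Subtype.val (Subgroup.mem_centralizer_iff.1 (hUV₀ hu).2 o ho)
  haveI : (pCore p ↥H ⊓ Subgroup.centralizer ((pCore p ↥H : Subgroup ↥H) : Set ↥H)).Normal :=
    Subgroup.normal_inf_normal _ _
  exact central_of_killers S
    ((PBasic.pCore_isPGroup p _).to_le inf_le_left)
    (Subgroup.commutator_eq_bot_iff_le_centralizer.2
      (inf_le_right.trans (Subgroup.centralizer_le inf_le_left)))
    (g := (⟨g, hT.le hgT⟩ : ↥H)) (by rw [hS]; exact hgT) (fun hm => hgO ⟨_, hm, rfl⟩) hkill hxV hSC hmax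

theorem weakClosureElem_of_killers (hW : IsConjugacyFunctor p W)
    (hWZ : ∀ P : Subgroup G, IsPGroup p ↥P → P ⊓ Subgroup.centralizer (P : Set G) ≤ W P)
    (hloc : LocKill p W) :
    ∀ H T : Subgroup G, IsSylowIn p T H → ∀ x ∈ T,
      H ⊓ Subgroup.normalizer ((W T : Subgroup G) : Set G) ≤ Subgroup.centralizer ({x} : Set G) →
      ∀ h ∈ H, h * x * h⁻¹ ∈ T → h * x * h⁻¹ = x :=
  weakClosureElem_of_central hW hWZ (locCentral_of_locKill hloc)

theorem controlsWeakClosureOfElementsIn_of_killers (hW : IsConjugacyFunctor p W)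
    (hWZ : ∀ P : Subgroup G, IsPGroup p ↥P → P ⊓ Subgroup.centralizer (P : Set G) ≤ W P)
    (hloc : LocKill p W) (H : Subgroup G) : ControlsWeakClosureOfElementsIn p W H := by
  refine ⟨hWZ, ?_⟩
  obtain ⟨T, hT, -⟩ := exists_isSylowIn_ge (p := p) (A := (⊥ : Subgroup G)) IsPGroup.of_bot
    (bot_le : ⊥ ≤ H)
  refine ⟨T, hT.le, hT.isPGroup, hT.2.2, fun x hx h hh hhT => ?_⟩
  refine weakClosureElem_of_killers hW hWZ hloc H T hT x hx.1 ?_ h hh hhT
  intro a ha
  exact mem_centralizer_singleton.2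
    (mul_inv_eq_iff_eq_mul.2 (Subgroup.mem_centralizer_iff.1 hx.2 a ha))

end Cfsg.Agent.Functors
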