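/-
`J(S)` (abelian subgroups of largest order): a non-normal `J(S)` gives a quadratic element on
`Z(O_p(G))`, for every prime.
-/
import Cfsg.Agent.Lib.PLocal.ZJ
import Cfsg.Agent.Lib.Functors.WeakClosureElem
import Cfsg.Agent.Lib.Functors.PowWeakClosure

set_option autoImplicit false
set_option linter.style.haveILetI false
set_option linter.unusedSectionVars false

namespace Cfsg.Agent.JQuad

open Cfsg
open Cfsg.Agent.ZJ (Sml IsMaxIn jSub)

universe u

variable {G : Type u} [Group G] [Finite G] {p : ℕ} [Fact p.Prime]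

theorem thompsonSubgroupAOf_eq (P : Subgroup G) : thompsonSubgroupAOf P = jSub p False P := by
  rw [thompsonSubgroupAOf, thompsonSubgroupA, sSup_eq_iSup', Subgroup.map_iSup]
  refine le_antisymm (iSup_le fun A => le_sSup ⟨Subgroup.map_subtype_le _,
    Sml.map (e := False) (p := p) ⟨A.2.1, False.elim⟩ _, fun B hB hBs => ?_⟩)
    (sSup_le fun A hA => ?_)
  · rw [← Subgroup.map_subgroupOf_eq_of_le hB, Subgroup.card_map_of_injective Subtype.coe_injective,
      Subgroup.card_map_of_injective Subtype.coe_injective]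
    refine A.2.2 _ (ZJ.sml_of_map (p := p) (e := False) (f := P.subtype) Subtype.coe_injective.injOn ?_).1
    rwa [Subgroup.map_subgroupOf_eq_of_le hB]
  · have h : (A.subgroupOf P).map P.subtype = A := Subgroup.map_subgroupOf_eq_of_le hA.1
    have hm : A.subgroupOf P ∈ maxAbelianSubgroups P := by
      refine ⟨(ZJ.sml_of_map (p := p) (e := False) (f := P.subtype) Subtype.coe_injective.injOn
        (by rw [h]; exact hA.2.1)).1, fun B hB => ?_⟩
      have := hA.2.2 _ (Subgroup.map_subtype_le B)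
        (Sml.map (p := p) (e := False) ⟨hB, False.elim⟩ _)
      rwa [Subgroup.card_map_of_injective Subtype.coe_injective, ← h,
        Subgroup.card_map_of_injective Subtype.coe_injective] at this
    exact h.ge.trans (le_iSup (fun B : ↥(maxAbelianSubgroups P) =>
      (B : Subgroup P).map P.subtype) ⟨_, hm⟩)

theorem isConjugacyFunctor_J : IsConjugacyFunctor p (fun P : Subgroup G => jSub p False P) := by
  intro P hP
  refine ⟨ZJ.jSub_le P, fun hne h0 => ?_, fun g => ?_⟩
  · exact ZJ.zCore_ne_bot (e := False) hP hne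
      (eq_bot_iff.2 (((ZJ.zCore_le_zJ P).trans inf_le_left).trans h0.le))
  · exact (ZJ.jSub_map _ (MulAut.conj g).injective.injOn).symm

theorem center_le_J (P : Subgroup G) : P ⊓ Subgroup.centralizer (P : Set G) ≤ jSub p False P := by
  intro x hx
  obtain ⟨hxP, hxC⟩ := Subgroup.mem_inf.1 hx
  obtain ⟨A, hA⟩ := ZJ.exists_isMaxIn p False P
  exact ZJ.le_jSub hA (ZJ.mem_of_centralizes hA hxP
    (fun a ha => Subgroup.mem_centralizer_iff.1 hxC a (hA.1 ha)) False.elim)

/-- The replacement step for an abelian normal subgroup, any prime. -/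
theorem exists_better {S A V : Subgroup G} (hS : IsPGroup p S) [V.Normal]
    (hab : ∀ x ∈ V, ∀ y ∈ V, x * y = y * x) (hVS : V ≤ S) (hA : IsMaxIn p False S A)
    (hnot : ¬ V ≤ Subgroup.normalizer (A : Set G)) :
    ∃ A' : Subgroup G, IsMaxIn p False S A' ∧
      Nat.card ↥(A ⊓ V) < Nat.card ↥(A' ⊓ V) ∧ ¬ V ≤ A' := by
  set A0 := A.subgroupOf S with hA0
  set V0 := V.subgroupOf S with hV0
  have hmA : A0.map S.subtype = A := Subgroup.map_subgroupOf_eq_of_le hA.1
  have hmV : V0.map S.subtype = V := Subgroup.map_subgroupOf_eq_of_le hVS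
  have hA0s : Sml p False A0 := ZJ.sml_of_map Subtype.coe_injective.injOn (by rw [hmA]; exact hA.2.1)
  haveI : V0.Normal := Subgroup.normal_subgroupOf
  have hcV : IsMulCommutative V0 :=
    .of_setLike_mul_comm fun x hx y hy => Subtype.ext (hab _ hx _ hy)
  have hBA : ⁅V0, V0⁆ ≤ A0 := by
    rw [(Subgroup.commutator_eq_bot_iff_le_centralizer).2 fun x hx y hy => Subtype.ext (hab _ hy _ hx)]
    exact bot_le
  have hnot0 : ¬ V0 ≤ Subgroup.normalizer (A0 : Set S) := fun h => hnot fun v hv =>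
    (ZJ.comap_normalizer_eq hA.1 ⟨v, hVS hv⟩).1 (h (show (⟨v, hVS hv⟩ : S) ∈ V0 from hv))
  set N := Subgroup.normalizer (A0 : Set S) with hN
  have hlt : N < V0 ⊔ N := lt_of_le_of_ne le_sup_right fun h => hnot0 (h ▸ le_sup_left)
  obtain ⟨x, hx, hxN⟩ := SetLike.exists_of_lt
    (Fusion.lt_inf_normalizer (hS.to_subgroup _).isNilpotent hlt)
  obtain ⟨hxP, hxn⟩ := Subgroup.mem_inf.1 hx
  rw [← SetLike.mem_coe, Subgroup.normal_mul] at hxP
  obtain ⟨b, hb, n, hn, rfl⟩ := Set.mem_mul.1 hxP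
  have hbN : b ∈ Subgroup.normalizer (N : Set S) := by
    have := mul_mem hxn (Subgroup.inv_mem _ (Subgroup.le_normalizer hn))
    rwa [mul_inv_cancel_right] at this
  have h : GReplacement.Setup A0 V0 b p :=
    ⟨hS, inferInstance, fun _ => hcV, hA0s.1, hBA, hb, hbN, fun hbA => hxN (N.mul_mem hbA hn)⟩
  refine ⟨(GReplacement.star A0 b).map S.subtype,
    ⟨Subgroup.map_subtype_le _, Sml.map ⟨h.star_comm, False.elim⟩ _, fun B hB hBs => ?_⟩,
    ?_, ?_⟩
  · rw [Subgroup.card_map_of_injective Subtype.coe_injective, h.star_card,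
      ← Subgroup.card_map_of_injective (K := A0) S.subtype_injective, hmA]
    exact hA.2.2 B hB hBs
  · rw [← hmA, ← hmV, ← Subgroup.map_inf _ _ _ S.subtype_injective,
      ← Subgroup.map_inf _ _ _ S.subtype_injective,
      Subgroup.card_map_of_injective S.subtype_injective,
      Subgroup.card_map_of_injective S.subtype_injective]
    exact Set.ncard_lt_ncard (SetLike.coe_ssubset_coe.2 h.inf_lt) (Set.toFinite _)
  · intro hle
    refine h.inf_lt_B.ne (inf_eq_right.2 ?_)
    rw [← Subgroup.map_le_map_iff_of_injective S.subtype_injective, hmV]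
    exact hle

/-- A maximal abelian subgroup outside `O_p` normalized by `Z(O_p)`. -/
theorem exists_abelian (S : Sylow p G) (hJ : ¬ (jSub p False (S : Subgroup G)).Normal) :
    ∃ A : Subgroup G, IsMaxIn p False (S : Subgroup G) A ∧ ¬ A ≤ pCore p G ∧
      pCore p G ⊓ Subgroup.centralizer ((pCore p G : Subgroup G) : Set G) ≤
        Subgroup.normalizer (A : Set G) := by
  set O := pCore p G with hO
  haveI : O.Normal := Cfsg.pCore_normal p G
  have hOS : O ≤ (S : Subgroup G) := PBasic.pCore_le_sylow S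
  set V := O ⊓ Subgroup.centralizer (O : Set G) with hV
  haveI : V.Normal := Subgroup.normal_inf_normal _ _
  by_cases hall : ∀ A, IsMaxIn p False (S : Subgroup G) A → A ≤ O
  · refine absurd ?_ hJ
    have hJO : jSub p False O = jSub p False (S : Subgroup G) := by
      rw [ZJ.jSub, ZJ.jSub]
      congr 1
      ext A
      obtain ⟨A₀, hA₀⟩ := ZJ.exists_isMaxIn p False (S : Subgroup G)
      exact ⟨fun hA => ⟨hA.1.trans hOS, hA.2.1,
          fun C hC hCs => (hA₀.2.2 C hC hCs).trans (hA.2.2 A₀ (hall A₀ hA₀) hA₀.2.1)⟩,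
        fun hA => ⟨hall A hA, hA.2.1, fun C hC hCs => hA.2.2 C (hC.trans hOS) hCs⟩⟩
    rw [← Subgroup.normalizer_eq_top_iff, eq_top_iff, ← hJO]
    refine le_trans ?_ (ZJ.normalizer_le_normalizer_jSub O)
    rw [Subgroup.normalizer_eq_top]
  push Not at hall
  obtain ⟨A, ⟨hA, hAO⟩, hmax⟩ := Set.exists_max_image
    {A | IsMaxIn p False (S : Subgroup G) A ∧ ¬ A ≤ O} (fun A => Nat.card ↥(A ⊓ V))
    (Set.toFinite _) hall
  refine ⟨A, hA, hAO, ?_⟩
  by_contra hVA
  obtain ⟨A', hA', hlt, hnle⟩ := exists_better (V := V) S.isPGroup'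
    (fun x hx y hy => Subgroup.mem_centralizer_iff.1 (Subgroup.mem_inf.1 hy).2 x (Subgroup.mem_inf.1 hx).1)
    (inf_le_left.trans hOS) hA hVA
  have hA'O : A' ≤ O := by
    by_contra h
    exact absurd (hmax A' ⟨hA', h⟩) (not_le.2 hlt)
  exact hnle fun v hv => ZJ.mem_of_centralizes hA' (hOS hv.1)
    (fun a ha => Subgroup.mem_centralizer_iff.1 hv.2 a (hA'O ha)) False.elim

theorem exists_quadratic (S : Sylow p G) (hJ : ¬ (jSub p False (S : Subgroup G)).Normal) :
    ∃ g ∈ (S : Subgroup G), g ∉ pCore p G ∧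
      ⁅⁅pCore p G ⊓ Subgroup.centralizer ((pCore p G : Subgroup G) : Set G), Subgroup.zpowers g⁆,
        Subgroup.zpowers g⁆ = ⊥ := by
  obtain ⟨A, hA, hAO, hVA⟩ := exists_abelian S hJ
  obtain ⟨g, hgA, hgO⟩ := SetLike.not_le_iff_exists.1 hAO
  exact ⟨g, hA.1 hgA, hgO,
    ZJ.quadratic_of_le_normalizer (fun x hx y hy => hA.2.1.comm hx hy) hVA hgA⟩

/-- Normality of `J` seen inside a subgroup. -/
theorem not_normal_subgroupOf {H T : Subgroup G} (hT : T ≤ H)
    (hns : ¬ H ≤ Subgroup.normalizer ((jSub p False T : Subgroup G) : Set G)) :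
    ¬ (jSub p False (T.subgroupOf H)).Normal := by
  intro hn
  refine hns fun h hh => ?_
  have h1 := Subgroup.le_normalizer_map H.subtype
    (Subgroup.mem_map_of_mem H.subtype (x := (⟨h, hh⟩ : ↥H))
      (by rw [Subgroup.normalizer_eq_top]; exact Subgroup.mem_top _ :
        (⟨h, hh⟩ : ↥H) ∈ Subgroup.normalizer (jSub p False (T.subgroupOf H) : Set ↥H)))
  rwa [ZJ.jSub_map H.subtype H.subtype_injective.injOn, Subgroup.map_subgroupOf_eq_of_le hT] at h1

theorem locQuad_J : Functors.LocQuad p (fun P : Subgroup G => jSub p False P) := by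
  intro H T hT hns
  obtain ⟨S, hS⟩ := hT.exists_sylow
  obtain ⟨g, hg, hgO, hq⟩ := exists_quadratic S (by
    rw [hS]; exact not_normal_subgroupOf hT.le hns)
  rw [hS, Subgroup.mem_subgroupOf] at hg
  exact ⟨g, hg, hgO, hq⟩

theorem locKill_J (hp : p ≠ 2) : Functors.LocKill p (fun P : Subgroup G => jSub p False P) := by
  intro H T hTH hTp hidx hns
  obtain ⟨g, hgT, hgO, hq⟩ := locQuad_J H T ⟨hTH, hTp, hidx⟩ hns
  refine ⟨g, hgT, fun hm => hgO ?_, fun U V hUV hle => ?_⟩
  · rw [pCoreOf] at hm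
    obtain ⟨y, hy, hye⟩ := hm
    rwa [← Subtype.ext hye]
  have h2 : 2 ≤ p - 1 := by
    have := (Fact.out : p.Prime).two_le
    omega
  have hmono : ∀ i j, i ≤ j → iterCommutator U (Subgroup.zpowers g) i = ⊥ →
      iterCommutator U (Subgroup.zpowers g) j = ⊥ := by
    intro i j hij h
    induction j, hij using Nat.le_induction with
    | base => exact h
    | succ j _ ih => rw [iterCommutator, ih, Subgroup.commutator_bot_left]
  have hUV' : U ≤ pCore p ↥H ⊓ Subgroup.centralizer ((pCore p ↥H : Subgroup ↥H) : Set ↥H) := by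
    intro x hx
    obtain ⟨h1, h2⟩ := Subgroup.mem_inf.1 (hle ⟨x, hx, rfl⟩)
    rw [pCoreOf] at h1
    obtain ⟨y, hy, hye⟩ := h1
    refine Subgroup.mem_inf.2 ⟨by rwa [← Subtype.ext hye], Subgroup.mem_centralizer_iff.2 fun o ho =>
      Subtype.ext (Subgroup.mem_centralizer_iff.1 h2 o ?_)⟩
    rw [pCoreOf]
    exact ⟨o, ho, rfl⟩
  have hbot : iterCommutator U (Subgroup.zpowers g) (p - 1) = ⊥ := hmono 2 _ h2 (eq_bot_iff.2 (by
    rw [← hq]
    exact Subgroup.commutator_mono (Subgroup.commutator_mono hUV' le_rfl) le_rfl))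
  rw [show Subgroup.zpowers (g : G) = (Subgroup.zpowers g).map H.subtype from
      (MonoidHom.map_zpowers H.subtype g).symm,
    ← Functors.iterCommutator_map, hbot, Subgroup.map_bot]
  exact bot_le

end Cfsg.Agent.JQuad
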