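import Mathlib.GroupTheory.Sylow
import Mathlib.GroupTheory.Nilpotent
import Mathlib.GroupTheory.Commutator.Basic
import Cfsg.Prelude.Def_ConjugacyFunctors

/-!
Conjugates of subgroups, Sylow subgroups of subgroups, conjugacy functors and towers.
-/

set_option autoImplicit false
set_option linter.style.haveILetI false

namespace Cfsg.Agent.Functors

open Cfsg

variable {G : Type*} [Group G] {p : ℕ}

/-- conjugation by `g` as a homomorphism -/
abbrev cj (g : G) : G →* G := (MulAut.conj g).toMonoidHom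

theorem cj_apply (g x : G) : cj g x = g * x * g⁻¹ := rfl

theorem cj_injective (g : G) : Function.Injective (cj g) := (MulAut.conj g).injective

theorem mem_map_cj {H : Subgroup G} {g x : G} : x ∈ H.map (cj g) ↔ g⁻¹ * x * g ∈ H := by
  constructor
  · rintro ⟨y, hy, rfl⟩
    rw [cj_apply, show g⁻¹ * (g * y * g⁻¹) * g = y by group]
    exact hy
  · intro hx
    exact ⟨_, hx, by rw [cj_apply]; group⟩

theorem map_cj_one (H : Subgroup G) : H.map (cj 1) = H := by
  ext x
  rw [mem_map_cj]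
  simp

theorem map_map_cj (H : Subgroup G) (a b : G) : (H.map (cj b)).map (cj a) = H.map (cj (a * b)) := by
  ext x
  simp only [mem_map_cj]
  rw [show b⁻¹ * (a⁻¹ * x * a) * b = (a * b)⁻¹ * x * (a * b) by group]

theorem map_cj_inv_map (H : Subgroup G) (g : G) : (H.map (cj g)).map (cj g⁻¹) = H := by
  rw [map_map_cj, inv_mul_cancel, map_cj_one]

theorem map_map_cj_inv (H : Subgroup G) (g : G) : (H.map (cj g⁻¹)).map (cj g) = H := by
  rw [map_map_cj, mul_inv_cancel, map_cj_one]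

theorem card_map_cj (H : Subgroup G) (g : G) : Nat.card ↥(H.map (cj g)) = Nat.card ↥H :=
  Subgroup.card_map_of_injective (cj_injective g)

theorem map_cj_ne_bot {H : Subgroup G} (h : H ≠ ⊥) (g : G) : H.map (cj g) ≠ ⊥ := by
  rwa [Ne, Subgroup.map_eq_bot_iff_of_injective _ (cj_injective g)]

theorem map_cj_eq_iff {H : Subgroup G} {g : G} :
    H.map (cj g) = H ↔ g ∈ Subgroup.normalizer (H : Set G) := by
  constructor
  · intro h
    rw [Subgroup.mem_normalizer_iff]
    intro x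
    conv_rhs => rw [← h, mem_map_cj, show g⁻¹ * (g * x * g⁻¹) * g = x by group]
  · intro hg
    ext x
    rw [mem_map_cj, Subgroup.mem_normalizer_iff.1 hg]
    rw [show g * (g⁻¹ * x * g) * g⁻¹ = x by group]

theorem map_cj_normalizer (H : Subgroup G) (g : G) :
    (Subgroup.normalizer (H : Set G)).map (cj g) = Subgroup.normalizer (H.map (cj g) : Set G) := by
  ext x
  rw [mem_map_cj, ← map_cj_eq_iff, ← map_cj_eq_iff, map_map_cj]
  constructor
  · intro h
    calc H.map (cj (x * g)) = H.map (cj (g * (g⁻¹ * x * g))) := by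
          rw [show g * (g⁻¹ * x * g) = x * g by group]
      _ = (H.map (cj (g⁻¹ * x * g))).map (cj g) := (map_map_cj H g _).symm
      _ = H.map (cj g) := by rw [h]
  · intro h
    calc H.map (cj (g⁻¹ * x * g)) = H.map (cj (g⁻¹ * (x * g))) := by rw [mul_assoc]
      _ = (H.map (cj (x * g))).map (cj g⁻¹) := (map_map_cj H _ _).symm
      _ = H := by rw [h, map_cj_inv_map]

theorem le_map_cj_normalizer {T : Subgroup G} {g : G} (hg : g ∈ Subgroup.normalizer (T : Set G))
    {K : Subgroup G} (hK : K ≤ Subgroup.normalizer (T : Set G)) :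
    K.map (cj g) ≤ Subgroup.normalizer (T : Set G) := by
  rintro _ ⟨k, hk, rfl⟩
  exact mul_mem (mul_mem hg (hK hk)) (inv_mem hg)

/-! ### Sylow subgroups of subgroups -/

/-- `T` is a Sylow `p`-subgroup of the subgroup `H`. -/
def IsSylowIn (p : ℕ) (T H : Subgroup G) : Prop :=
  T ≤ H ∧ IsPGroup p ↥T ∧ ¬ p ∣ T.relIndex H

theorem IsSylowIn.le {T H : Subgroup G} (h : IsSylowIn p T H) : T ≤ H := h.1
theorem IsSylowIn.isPGroup {T H : Subgroup G} (h : IsSylowIn p T H) : IsPGroup p ↥T := h.2.1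

theorem isSylowIn_top {T : Subgroup G} (hT : IsPGroup p ↥T) (h : ¬ p ∣ T.index) :
    IsSylowIn p T ⊤ := ⟨le_top, hT, by rwa [Subgroup.relIndex_top_right]⟩

variable [Finite G] [hp : Fact p.Prime]

theorem isSylowIn_sylow (S : Sylow p G) : IsSylowIn p (S : Subgroup G) ⊤ :=
  isSylowIn_top S.isPGroup' S.not_dvd_index

theorem isSylowIn_map_subtype {H : Subgroup G} (Q : Sylow p ↥H) :
    IsSylowIn p ((Q : Subgroup ↥H).map H.subtype) H := by
  refine ⟨Subgroup.map_subtype_le _, Q.isPGroup'.map _, ?_⟩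
  rw [Subgroup.relIndex, Subgroup.subgroupOf,
    Subgroup.comap_map_eq_self_of_injective H.subtype_injective]
  exact Q.not_dvd_index

theorem IsSylowIn.exists_sylow {T H : Subgroup G} (h : IsSylowIn p T H) :
    ∃ Q : Sylow p ↥H, (Q : Subgroup ↥H) = T.subgroupOf H :=
  ⟨(h.isPGroup.comap_subtype : IsPGroup p ↥(T.subgroupOf H)).toSylow h.2.2, rfl⟩

omit hp in
theorem IsSylowIn.map_cj {T H : Subgroup G} (h : IsSylowIn p T H) (g : G) :
    IsSylowIn p (T.map (cj g)) (H.map (cj g)) :=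
  ⟨Subgroup.map_mono h.le, h.isPGroup.map _, by
    rw [Subgroup.relIndex_map_map_of_injective _ _ (cj_injective g)]; exact h.2.2⟩

omit hp in
theorem IsSylowIn.of_le {T H K : Subgroup G} (h : IsSylowIn p T H) (hTK : T ≤ K) (hKH : K ≤ H) :
    IsSylowIn p T K :=
  ⟨hTK, h.isPGroup, fun hd => h.2.2 (hd.trans ⟨_, (Subgroup.relIndex_mul_relIndex T K H hTK hKH).symm⟩)⟩

theorem IsSylowIn.eq_of_le {T H R : Subgroup G} (h : IsSylowIn p T H) (hR : IsPGroup p ↥R)
    (hTR : T ≤ R) (hRH : R ≤ H) : T = R := by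
  refine le_antisymm hTR ?_
  obtain ⟨Q, hQ⟩ := h.exists_sylow
  have h1 := Q.is_maximal' (hR.comap_subtype : IsPGroup p ↥(R.subgroupOf H))
    (by rw [hQ]; exact Subgroup.comap_mono hTR)
  intro x hx
  have : (⟨x, hRH hx⟩ : ↥H) ∈ R.subgroupOf H := hx
  have h2 : R.subgroupOf H = T.subgroupOf H := h1.trans hQ
  rw [h2] at this
  exact this

omit hp in
theorem IsSylowIn.conj_mem {T H : Subgroup G} (h : IsSylowIn p T H) {n : G} (hn : n ∈ H) :
    IsSylowIn p (T.map (cj n)) H := by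
  have := h.map_cj n
  rwa [map_cj_eq_iff.2 (Subgroup.le_normalizer hn)] at this

theorem exists_conj_le_of_isSylowIn {T H A : Subgroup G} (h : IsSylowIn p T H)
    (hA : IsPGroup p ↥A) (hAH : A ≤ H) : ∃ n ∈ H, A.map (cj n) ≤ T := by
  obtain ⟨Q, hQ⟩ := h.exists_sylow
  obtain ⟨R, hR⟩ := (hA.comap_subtype : IsPGroup p ↥(A.subgroupOf H)).exists_le_sylow
  obtain ⟨n, hn⟩ := MulAction.exists_smul_eq ↥H R Q
  refine ⟨n, n.2, ?_⟩
  rintro _ ⟨a, ha, rfl⟩
  have h1 : n * ⟨a, hAH ha⟩ * n⁻¹ ∈ (Q : Subgroup ↥H) := by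
    rw [← hn]
    exact Subgroup.smul_mem_pointwise_smul _ (MulAut.conj n) _ (hR ha)
  rw [hQ] at h1
  exact h1

theorem exists_conj_eq_of_isSylowIn {T T' H : Subgroup G} (h : IsSylowIn p T H)
    (h' : IsSylowIn p T' H) : ∃ n ∈ H, T'.map (cj n) = T := by
  obtain ⟨n, hn, hle⟩ := exists_conj_le_of_isSylowIn h h'.isPGroup h'.le
  exact ⟨n, hn, (h'.conj_mem hn).eq_of_le h.isPGroup hle h.le⟩

theorem exists_isSylowIn_ge {A H : Subgroup G} (hA : IsPGroup p ↥A) (hAH : A ≤ H) :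
    ∃ T, IsSylowIn p T H ∧ A ≤ T := by
  obtain ⟨R, hR⟩ := (hA.comap_subtype : IsPGroup p ↥(A.subgroupOf H)).exists_le_sylow
  exact ⟨_, isSylowIn_map_subtype R, fun a ha => ⟨⟨a, hAH ha⟩, hR ha, rfl⟩⟩

/-- Normalizers grow. -/
theorem lt_inf_normalizer_of_lt {P D : Subgroup G} (hP : IsPGroup p ↥P) (hD : D < P) :
    D < P ⊓ Subgroup.normalizer (D : Set G) := by
  haveI := IsPGroup.isNilpotent hP
  refine lt_of_le_of_ne (le_inf hD.le Subgroup.le_normalizer) fun heq => ?_
  have hlt : D.subgroupOf P < ⊤ := by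
    rw [lt_top_iff_ne_top, Ne, Subgroup.subgroupOf_eq_top]
    exact hD.not_ge
  obtain ⟨⟨x, hxP⟩, hxN, hxD⟩ :=
    SetLike.exists_of_lt (Group.normalizerCondition_of_isNilpotent (G := ↥P) _ hlt)
  apply hxD
  rw [Subgroup.mem_subgroupOf]
  rw [heq]
  refine Subgroup.mem_inf.2 ⟨hxP, Subgroup.mem_normalizer_iff.2 fun z => ⟨fun hz => ?_, fun hz => ?_⟩⟩
  · exact (Subgroup.mem_normalizer_iff.1 hxN ⟨z, hD.le hz⟩).1 hz
  · have hzP : z ∈ P := by
      have := mul_mem (mul_mem (inv_mem hxP) (hD.le hz)) hxP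
      simpa [mul_assoc] using this
    exact (Subgroup.mem_normalizer_iff.1 hxN ⟨z, hzP⟩).2 hz

/-! ### conjugacy functors -/

omit [Finite G] hp

variable {W : Subgroup G → Subgroup G}

theorem conjFunctor_le (hW : IsConjugacyFunctor p W) {P : Subgroup G} (hP : IsPGroup p ↥P) :
    W P ≤ P := (hW P hP).1

theorem conjFunctor_ne_bot (hW : IsConjugacyFunctor p W) {P : Subgroup G} (hP : IsPGroup p ↥P)
    (h : P ≠ ⊥) : W P ≠ ⊥ := (hW P hP).2.1 h

theorem conjFunctor_map (hW : IsConjugacyFunctor p W) {P : Subgroup G} (hP : IsPGroup p ↥P)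
    (g : G) : W (P.map (cj g)) = (W P).map (cj g) := (hW P hP).2.2 g

theorem normalizer_le_normalizer_conjFunctor (hW : IsConjugacyFunctor p W) {P : Subgroup G}
    (hP : IsPGroup p ↥P) :
    Subgroup.normalizer (P : Set G) ≤ Subgroup.normalizer (W P : Set G) := by
  intro g hg
  rw [← map_cj_eq_iff, ← conjFunctor_map hW hP, map_cj_eq_iff.2 hg]

theorem le_normalizer_conjFunctor (hW : IsConjugacyFunctor p W) {P : Subgroup G}
    (hP : IsPGroup p ↥P) : P ≤ Subgroup.normalizer (W P : Set G) :=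
  Subgroup.le_normalizer.trans (normalizer_le_normalizer_conjFunctor hW hP)

end Cfsg.Agent.Functors
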