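/-
An element acting as a transvection on a normal abelian 2-subgroup gives a section `S₄`.
-/
import Cfsg.Agent.Lib.Solvable.SFourFree
import Cfsg.Agent.Lib.Involutions.BaerSuzuki
import Cfsg.Agent.Lib.Transfer.Basic
import Cfsg.Agent.Lib.Functors.Conj

set_option autoImplicit false
set_option linter.style.haveILetI false
set_option linter.unusedSectionVars false

namespace Cfsg.Agent.Transvection2

open Cfsg
open scoped commutatorElement

universe u

variable {G : Type u} [Group G] [Finite G]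

/-- Two elements of order at most two whose product has order dividing four generate a 2-group. -/
theorem isPGroup_pair {H : Type*} [Group H] [Finite H] {x y : H} (hx : x ^ 2 = 1) (hy : y ^ 2 = 1)
    (h : (x * y) ^ 4 = 1) : IsPGroup 2 ↥(Subgroup.zpowers x ⊔ Subgroup.zpowers y) := by
  haveI : Fact (Nat.Prime 2) := ⟨Nat.prime_two⟩
  set P := Subgroup.zpowers (x * y) with hP
  have hxi : x⁻¹ = x := inv_eq_of_mul_eq_one_right (by rw [← pow_two]; exact hx)
  have hyi : y⁻¹ = y := inv_eq_of_mul_eq_one_right (by rw [← pow_two]; exact hy)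
  have key : Subgroup.zpowers x ≤ Subgroup.normalizer (P : Set H) := by
    rw [Subgroup.zpowers_le]
    refine Functors.map_cj_eq_iff.1 ?_
    have e : x * (x * y) * x⁻¹ = (x * y)⁻¹ := by
      rw [hxi, mul_inv_rev, hxi, hyi]
      calc x * (x * y) * x = x ^ 2 * (y * x) := by simp [pow_two, mul_assoc]
        _ = y * x := by rw [hx, one_mul]
    rw [hP, MonoidHom.map_zpowers, Functors.cj_apply, e, Subgroup.zpowers_inv]
  have h' : (x * y) ^ (2 ^ 2) = 1 := by simpa using h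
  have hPp : IsPGroup 2 ↥P :=
    IsPGroup.of_card (n := ((Nat.dvd_prime_pow Nat.prime_two).1
      (orderOf_dvd_of_pow_eq_one h')).choose)
      (by rw [Nat.card_zpowers]
          exact ((Nat.dvd_prime_pow Nat.prime_two).1 (orderOf_dvd_of_pow_eq_one h')).choose_spec.2)
  have hXp : IsPGroup 2 ↥(Subgroup.zpowers x) := by
    rcases (Nat.dvd_prime Nat.prime_two).1 (orderOf_dvd_of_pow_eq_one hx) with h1 | h1
    · exact IsPGroup.of_card (n := 0) (by rw [Nat.card_zpowers, h1, pow_zero])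
    · exact IsPGroup.of_card (n := 1) (by rw [Nat.card_zpowers, h1, pow_one])
  refine (IsPGroup.to_sup_of_normal_right' hXp hPp key).to_le (sup_le le_sup_left ?_)
  rw [Subgroup.zpowers_le]
  have h1 : x⁻¹ * (x * y) ∈ Subgroup.zpowers x ⊔ P :=
    mul_mem (Subgroup.mem_sup_left (inv_mem (Subgroup.mem_zpowers x)))
      (Subgroup.mem_sup_right (Subgroup.mem_zpowers _))
  rwa [inv_mul_cancel_left] at h1

/-- A transvection on `V` outside `O₂(G/C(V))` produces `S₄`. -/
theorem involves_of_transvection {V : Subgroup G} [V.Normal]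
    (hab : ∀ x ∈ V, ∀ y ∈ V, x * y = y * x) {a : G}
    (haC : a ∉ Subgroup.centralizer (V : Set G)) (ha2 : a ^ 2 ∈ Subgroup.centralizer (V : Set G))
    (hyper : ∀ v ∈ V, ∀ w ∈ V, a * v ≠ v * a → a * w ≠ w * a → a * (v * w) = (v * w) * a)
    (hO : pCore 2 (G ⧸ Subgroup.centralizer (V : Set G)) = ⊥) :
    Involves (Equiv.Perm (Fin 4)) G := by
  haveI : Fact (Nat.Prime 2) := ⟨Nat.prime_two⟩
  set C := Subgroup.centralizer (V : Set G) with hC
  haveI : C.Normal := inferInstance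
  have hconjV : ∀ (g x : G), x ∈ V → g * x * g⁻¹ ∈ V := fun g x hx =>
    Subgroup.Normal.conj_mem inferInstance x hx g
  obtain ⟨v₀, hv₀, hv₀a⟩ : ∃ v ∈ V, a * v ≠ v * a := by
    by_contra hcon
    push Not at hcon
    exact haC (Subgroup.mem_centralizer_iff.2 fun v hv => (hcon v hv).symm)
  set u₁ := v₀⁻¹ * (a * v₀ * a⁻¹) with hu₁
  have hu₁V : u₁ ∈ V := mul_mem (inv_mem hv₀) (hconjV a v₀ hv₀)
  have hfixC : ∀ c ∈ C, ∀ v ∈ V, c * v * c⁻¹ = v := fun c hc v hv =>
    mul_inv_eq_iff_eq_mul.2 (Subgroup.mem_centralizer_iff.1 hc v hv).symm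
  -- `a` moves every element it moves by `u₁`
  have hu1ne : u₁ ≠ 1 := fun h => hv₀a (mul_inv_eq_iff_eq_mul.1 (inv_mul_eq_one.1 h).symm)
  have hu1sq : u₁ * u₁ = 1 := by
    have h1 := mul_inv_eq_iff_eq_mul.2 (hyper v₀ hv₀ v₀ hv₀ hv₀a hv₀a)
    rw [← conj_mul, show a * v₀ * a⁻¹ = v₀ * u₁ by rw [hu₁]; group] at h1
    calc u₁ * u₁ = v₀⁻¹ * v₀⁻¹ * (v₀ * u₁ * (v₀ * u₁)) := by
          rw [show v₀ * u₁ * (v₀ * u₁) = v₀ * v₀ * (u₁ * u₁) by
            rw [mul_assoc v₀ u₁, ← mul_assoc u₁ v₀, hab u₁ hu₁V v₀ hv₀]; group]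
          group
      _ = 1 := by rw [h1]; group
  have hu1i : u₁⁻¹ = u₁ := inv_eq_of_mul_eq_one_right hu1sq
  have hact : ∀ v ∈ V, a * v * a⁻¹ = v ∨ a * v * a⁻¹ = v * u₁ := by
    intro v hv
    by_cases h : a * v = v * a
    · exact Or.inl (mul_inv_eq_iff_eq_mul.2 h)
    refine Or.inr ?_
    have hvi : a * v⁻¹ ≠ v⁻¹ * a := fun h' => h (Commute.inv_right_iff.1 h')
    have h1 := mul_inv_eq_iff_eq_mul.2 (hyper v⁻¹ (inv_mem hv) v₀ hv₀ hvi hv₀a)
    rw [← conj_mul, ← conj_inv, show a * v₀ * a⁻¹ = v₀ * u₁ by rw [hu₁]; group] at h1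
    calc a * v * a⁻¹ = v₀ * u₁ * ((a * v * a⁻¹)⁻¹ * (v₀ * u₁))⁻¹ := by group
      _ = v₀ * u₁ * (v⁻¹ * v₀)⁻¹ := by rw [h1]
      _ = v * u₁ := by
          rw [mul_inv_rev, inv_inv, show v₀ * u₁ * (v₀⁻¹ * v) = v₀ * (u₁ * v₀⁻¹) * v by group,
            hab u₁ hu₁V v₀⁻¹ (inv_mem hv₀), mul_inv_cancel_left]
          exact hab u₁ hu₁V v hv
  have hfix1 : a * u₁ * a⁻¹ = u₁ := by
    rcases hact u₁ hu₁V with h | h
    · exact h
    · rw [hu1sq] at h; exact absurd (conj_eq_one_iff.1 h) hu1ne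
  -- a conjugate generating with `a` no 2-group modulo `C`
  set π := QuotientGroup.mk' C with hπ
  have hπC : ∀ x : G, x ∈ C → π x = 1 := fun x hx => (QuotientGroup.eq_one_iff x).2 hx
  have hpa : π a ^ 2 = 1 := by rw [← map_pow]; exact hπC _ ha2
  have hXp : IsPGroup 2 ↥(Subgroup.zpowers (π a)) := by
    have h := isPGroup_pair (x := π a) (y := 1) hpa (one_pow 2) (by
      rw [mul_one, show (4 : ℕ) = 2 * 2 from rfl, pow_mul, hpa, one_pow])
    exact h.to_le le_sup_left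
  obtain ⟨g, hg⟩ : ∃ g : G,
      ¬ IsPGroup 2 ↥(Subgroup.zpowers (π a) ⊔ Subgroup.zpowers (π (g * a * g⁻¹))) := by
    by_contra hcon
    push Not at hcon
    obtain ⟨N, hN, hNp, haN⟩ := BaerSuzuki.baerSuzuki (Subgroup.zpowers (π a)) hXp fun q => by
      obtain ⟨g, rfl⟩ := QuotientGroup.mk'_surjective C q
      rw [MonoidHom.map_zpowers]
      have e : (MulAut.conj (QuotientGroup.mk' C g)).toMonoidHom (π a) = π (g * a * g⁻¹) := by simp [hπ]
      rw [e]
      exact hcon g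
    have h1 := PBasic.le_pCore hN hNp (haN (Subgroup.mem_zpowers _))
    rw [hO, Subgroup.mem_bot] at h1
    exact haC ((QuotientGroup.eq_one_iff a).1 h1)
  set b := g * a * g⁻¹ with hb
  set u₂ := g * u₁ * g⁻¹ with hu₂
  have hu₂V : u₂ ∈ V := hconjV g u₁ hu₁V
  have hu2sq : u₂ * u₂ = 1 := by rw [hu₂, conj_mul, hu1sq]; group
  have hu2i : u₂⁻¹ = u₂ := inv_eq_of_mul_eq_one_right hu2sq
  have hactb : ∀ v ∈ V, b * v * b⁻¹ = v ∨ b * v * b⁻¹ = v * u₂ := by
    intro v hv
    rcases hact (g⁻¹ * v * g) (by simpa using hconjV g⁻¹ v hv) with h | h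
    · refine Or.inl ?_
      calc b * v * b⁻¹ = g * (a * (g⁻¹ * v * g) * a⁻¹) * g⁻¹ := by rw [hb]; group
        _ = v := by rw [h]; group
    · refine Or.inr ?_
      calc b * v * b⁻¹ = g * (a * (g⁻¹ * v * g) * a⁻¹) * g⁻¹ := by rw [hb]; group
        _ = v * u₂ := by rw [h, hu₂]; group
  have hfix2 : b * u₂ * b⁻¹ = u₂ := by
    calc b * u₂ * b⁻¹ = g * (a * u₁ * a⁻¹) * g⁻¹ := by rw [hb, hu₂]; group
      _ = u₂ := by rw [hfix1]
  have hb2 : b ^ 2 ∈ C := by
    rw [hb, conj_pow]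
    exact Subgroup.Normal.conj_mem inferInstance _ ha2 g
  set y := a * b with hy
  have hyv : ∀ v : G, y * v * y⁻¹ = a * (b * v * b⁻¹) * a⁻¹ := fun v => by rw [hy]; group
  -- the four-group
  have h12 : u₁ * u₂ = u₂ * u₁ := hab u₁ hu₁V u₂ hu₂V
  let U : Subgroup G :=
    { carrier := {x | x = 1 ∨ x = u₁ ∨ x = u₂ ∨ x = u₁ * u₂}
      one_mem' := Or.inl rfl
      mul_mem' := fun {x z} hx hz => by
        rcases hx with rfl | rfl | rfl | rfl <;> rcases hz with rfl | rfl | rfl | rfl <;>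
          simp only [Set.mem_ofPred_eq]
        all_goals first
          | (left; simp [hu1sq, hu2sq]; done)
          | (right; left; simp [hu1sq, hu2sq]; done)
          | (right; right; left; simp [hu1sq, hu2sq]; done)
          | (right; right; right; simp [hu1sq, hu2sq]; done)
          | (right; right; right; exact h12.symm)
          | (right; right; left; rw [← mul_assoc, hu1sq, one_mul])
          | (right; left; rw [mul_assoc, hu2sq, mul_one])
          | (right; left; rw [h12, ← mul_assoc, hu2sq, one_mul])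
          | (right; right; left; rw [h12, mul_assoc, hu1sq, mul_one])
          | (left; rw [mul_assoc, ← mul_assoc u₂, ← h12, mul_assoc u₁, hu2sq, mul_one, hu1sq])
      inv_mem' := fun {x} hx => by
        rcases hx with rfl | rfl | rfl | rfl <;> simp only [Set.mem_ofPred_eq]
        · left; simp
        · right; left; exact hu1i
        · right; right; left; exact hu2i
        · right; right; right; rw [mul_inv_rev, hu1i, hu2i, h12] }
  have hUV : U ≤ V := by
    rintro x (rfl | rfl | rfl | rfl)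
    exacts [one_mem _, hu₁V, hu₂V, mul_mem hu₁V hu₂V]
  have hUsq : ∀ x ∈ U, x * x = 1 := by
    rintro x (rfl | rfl | rfl | rfl)
    · simp
    · exact hu1sq
    · exact hu2sq
    · rw [mul_assoc, ← mul_assoc u₂, ← h12, mul_assoc u₁, hu2sq, mul_one, hu1sq]
  have hu1U : u₁ ∈ U := Or.inr (Or.inl rfl)
  have hu2U : u₂ ∈ U := Or.inr (Or.inr (Or.inl rfl))
  by_cases hcase : y ^ 2 * u₁ * (y ^ 2)⁻¹ = u₁ ∧ y ^ 2 * u₂ * (y ^ 2)⁻¹ = u₂
  · -- a 2-group: impossible
    exfalso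
    refine hg (isPGroup_pair hpa (by rw [← map_pow]; exact hπC _ hb2) ?_)
    rw [← map_mul, ← map_pow]
    refine hπC _ (Subgroup.mem_centralizer_iff.2 fun v hv => (mul_inv_eq_iff_eq_mul.1 ?_).symm)
    have hU2 : ∀ x ∈ U, y ^ 2 * x * (y ^ 2)⁻¹ = x := by
      rintro x (rfl | rfl | rfl | rfl)
      · group
      · exact hcase.1
      · exact hcase.2
      · rw [← conj_mul, hcase.1, hcase.2]
    have hau₂ : a * u₂ * a⁻¹ ∈ U := by
      rcases hact u₂ hu₂V with h | h <;> rw [h]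
      · exact hu2U
      · rw [← h12]; exact Or.inr (Or.inr (Or.inr rfl))
    have hbu₁ : b * u₁ * b⁻¹ ∈ U := by
      rcases hactb u₁ hu₁V with h | h <;> rw [h]
      · exact hu1U
      · exact Or.inr (Or.inr (Or.inr rfl))
    have haU : ∀ x ∈ U, a * x * a⁻¹ ∈ U := by
      rintro x (rfl | rfl | rfl | rfl)
      · simp
      · rw [hfix1]; exact hu1U
      · exact hau₂
      · rw [← conj_mul, hfix1]; exact mul_mem hu1U hau₂
    have hbU : ∀ x ∈ U, b * x * b⁻¹ ∈ U := by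
      rintro x (rfl | rfl | rfl | rfl)
      · simp
      · exact hbu₁
      · rw [hfix2]; exact hu2U
      · rw [← conj_mul, hfix2]; exact mul_mem hbu₁ hu2U
    obtain ⟨w, hw, hyw⟩ : ∃ w ∈ U, y * v * y⁻¹ = v * w := by
      rw [hyv]
      rcases hactb v hv with h | h <;> rw [h]
      · rcases hact v hv with k | k
        · exact ⟨1, one_mem _, by rw [k, mul_one]⟩
        · exact ⟨u₁, hu1U, k⟩
      · rcases hact v hv with k | k <;> rw [← conj_mul, k]
        · exact ⟨_, hau₂, rfl⟩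
        · exact ⟨u₁ * (a * u₂ * a⁻¹), mul_mem hu1U hau₂, mul_assoc _ _ _⟩
    have hyU : y * w * y⁻¹ ∈ U := by rw [hyv]; exact haU _ (hbU w hw)
    set z := w * (y * w * y⁻¹) with hz
    have hy2 : y ^ 2 * v * (y ^ 2)⁻¹ = v * z := by
      calc y ^ 2 * v * (y ^ 2)⁻¹ = y * (y * v * y⁻¹) * y⁻¹ := by rw [pow_two]; group
        _ = (y * v * y⁻¹) * (y * w * y⁻¹) := by rw [conj_mul, hyw]
        _ = v * z := by rw [hyw, hz, mul_assoc]
    calc y ^ 4 * v * (y ^ 4)⁻¹ = y ^ 2 * (y ^ 2 * v * (y ^ 2)⁻¹) * (y ^ 2)⁻¹ := by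
          rw [show (4 : ℕ) = 2 + 2 from rfl, pow_add]; group
      _ = (y ^ 2 * v * (y ^ 2)⁻¹) * (y ^ 2 * z * (y ^ 2)⁻¹) := by rw [conj_mul, hy2]
      _ = v * (z * z) := by rw [hy2, hU2 z (mul_mem hw hyU), mul_assoc]
      _ = v := by rw [hUsq z (mul_mem hw hyU), mul_one]
  · -- `a` and `b` induce `S₃` on `U`
    have h2move : a * u₂ * a⁻¹ = u₂ * u₁ := by
      refine (hact u₂ hu₂V).resolve_left fun h => hcase ?_
      have e2 : y * u₂ * y⁻¹ = u₂ := by rw [hyv, hfix2, h]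
      have e22 : y ^ 2 * u₂ * (y ^ 2)⁻¹ = u₂ := by
        calc y ^ 2 * u₂ * (y ^ 2)⁻¹ = y * (y * u₂ * y⁻¹) * y⁻¹ := by rw [pow_two]; group
          _ = u₂ := by rw [e2, e2]
      refine ⟨?_, e22⟩
      rcases hactb u₁ hu₁V with k | k
      · have e1 : y * u₁ * y⁻¹ = u₁ := by rw [hyv, k, hfix1]
        calc y ^ 2 * u₁ * (y ^ 2)⁻¹ = y * (y * u₁ * y⁻¹) * y⁻¹ := by rw [pow_two]; group
          _ = u₁ := by rw [e1, e1]
      · have e1 : y * u₁ * y⁻¹ = u₁ * u₂ := by rw [hyv, k, ← conj_mul, hfix1, h]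
        calc y ^ 2 * u₁ * (y ^ 2)⁻¹ = y * (y * u₁ * y⁻¹) * y⁻¹ := by rw [pow_two]; group
          _ = (y * u₁ * y⁻¹) * (y * u₂ * y⁻¹) := by rw [conj_mul, e1]
          _ = u₁ := by rw [e1, e2, mul_assoc, hu2sq, mul_one]
    have h1move : b * u₁ * b⁻¹ = u₁ * u₂ := by
      refine (hactb u₁ hu₁V).resolve_left fun h => hcase ?_
      have e1 : y * u₁ * y⁻¹ = u₁ := by rw [hyv, h, hfix1]
      have e2 : y * u₂ * y⁻¹ = u₂ * u₁ := by rw [hyv, hfix2, h2move]
      refine ⟨?_, ?_⟩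
      · calc y ^ 2 * u₁ * (y ^ 2)⁻¹ = y * (y * u₁ * y⁻¹) * y⁻¹ := by rw [pow_two]; group
          _ = u₁ := by rw [e1, e1]
      · calc y ^ 2 * u₂ * (y ^ 2)⁻¹ = y * (y * u₂ * y⁻¹) * y⁻¹ := by rw [pow_two]; group
          _ = (y * u₂ * y⁻¹) * (y * u₁ * y⁻¹) := by rw [conj_mul, e2]
          _ = u₂ := by rw [e1, e2, mul_assoc, hu1sq, mul_one]
    have h21 : u₂ ≠ u₁ := fun h => hu1ne (by
      rw [h, hfix1, hu1sq] at h2move
      exact h2move)
    have h12ne : u₁ * u₂ ≠ 1 := fun h => h21 (by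
      rw [← hu1i]
      exact (inv_eq_of_mul_eq_one_right h).symm)
    have hu2ne : u₂ ≠ 1 := fun h => hu1ne (conj_eq_one_iff.1 h)
    have hcard : Nat.card U = 4 := by
      rw [show Nat.card U = Set.ncard ({1, u₁, u₂, u₁ * u₂} : Set G) from ?_]
      · rw [Set.ncard_insert_of_notMem (by
            simp only [Set.mem_insert_iff, Set.mem_singleton_iff, not_or]
            exact ⟨Ne.symm hu1ne, Ne.symm hu2ne, Ne.symm h12ne⟩) (Set.toFinite _),
          Set.ncard_insert_of_notMem (by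
            simp only [Set.mem_insert_iff, Set.mem_singleton_iff, not_or]
            exact ⟨Ne.symm h21, fun h => hu2ne (left_eq_mul.1 h)⟩) (Set.toFinite _),
          Set.ncard_pair (fun h => hu1ne (right_eq_mul.1 h))]
      · rw [← Nat.card_coe_set_eq]
        refine Nat.card_congr (Equiv.setCongr (Set.ext fun x => ?_))
        simp only [Set.mem_insert_iff, Set.mem_singleton_iff]
        exact Iff.rfl
    have norm_of : ∀ c : G, (∀ x ∈ U, c * x * c⁻¹ ∈ U) → c ∈ Subgroup.normalizer (U : Set G) := by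
      intro c hc
      refine Functors.map_cj_eq_iff.1 (Subgroup.eq_of_le_of_card_ge ?_ (Functors.card_map_cj _ _).ge)
      rintro _ ⟨x, hx, rfl⟩
      exact hc x hx
    have y1 : y * u₁ * y⁻¹ = u₂ := by
      rw [hyv, h1move, ← conj_mul, hfix1, h2move, ← mul_assoc, h12, mul_assoc, hu1sq, mul_one]
    have y2 : y * u₂ * y⁻¹ = u₂ * u₁ := by rw [hyv, hfix2, h2move]
    have y3 : y * (u₂ * u₁) * y⁻¹ = u₁ := by
      rw [← conj_mul, y1, y2, ← h12, mul_assoc, hu2sq, mul_one]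
    have haN : a ∈ Subgroup.normalizer (U : Set G) := by
      refine norm_of a ?_
      rintro x (rfl | rfl | rfl | rfl)
      · simp
      · rw [hfix1]; exact hu1U
      · rw [h2move, ← h12]; exact Or.inr (Or.inr (Or.inr rfl))
      · rw [← conj_mul, hfix1, h2move]; exact mul_mem hu1U (mul_mem hu2U hu1U)
    have hbN : b ∈ Subgroup.normalizer (U : Set G) := by
      refine norm_of b ?_
      rintro x (rfl | rfl | rfl | rfl)
      · simp
      · rw [h1move]; exact mul_mem hu1U hu2U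
      · rw [hfix2]; exact hu2U
      · rw [← conj_mul, h1move, hfix2]; exact mul_mem (mul_mem hu1U hu2U) hu2U
    have hCU : C ≤ Subgroup.centralizer (U : Set G) := Subgroup.centralizer_le hUV
    refine SFourFree.involves_of_four hcard (fun u hu => by rw [pow_two]; exact hUsq u hu) haN
      (y := y) (mul_mem haN hbN) (fun hyC => h21 ?_)
      (Subgroup.mem_centralizer_iff.2 ?_) (hCU ha2) (hCU ?_)
    · rw [← y1]; exact mul_inv_eq_iff_eq_mul.2 (Subgroup.mem_centralizer_iff.1 hyC u₁ hu1U).symm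
    · have e : ∀ x : G, y ^ 3 * x * (y ^ 3)⁻¹ = y * (y * (y * x * y⁻¹) * y⁻¹) * y⁻¹ := fun x => by
        rw [show (3 : ℕ) = 2 + 1 from rfl, pow_succ, pow_two]; group
      intro x hx
      refine (mul_inv_eq_iff_eq_mul.1 ?_).symm
      rcases hx with rfl | rfl | rfl | rfl
      · group
      · rw [e, y1, y2, y3]
      · rw [e, y2, y3, y1]
      · rw [e, h12, y3, y1, y2]
    · have e : a * y * a⁻¹ * y = a ^ 2 * b ^ 2 := by rw [hy, pow_two, pow_two]; group
      rw [e]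
      exact mul_mem ha2 hb2

end Cfsg.Agent.Transvection2
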