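/-
Quadratic offenders for `p = 2` in `S₄`-free groups: central elements of `Z(O₂)`.
-/
import Cfsg.Agent.Lib.Functors.JQuad
import Cfsg.Agent.Lib.Functors.Transvection2

set_option autoImplicit false
set_option linter.style.haveILetI false
set_option linter.unusedSectionVars false

namespace Cfsg.Agent.Offender2

open Cfsg
open Cfsg.Agent.ZJ (IsMaxIn jSub)
open scoped commutatorElement

universe u

variable {G : Type u} [Group G] [Finite G]

instance factTwo : Fact (Nat.Prime 2) := ⟨Nat.prime_two⟩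

/-- A quadratic offender on `V`. -/
def IsOff (V B : Subgroup G) : Prop :=
  IsPGroup 2 B ∧ (∀ x ∈ B, ∀ y ∈ B, x * y = y * x) ∧ ¬ B ≤ Subgroup.centralizer (V : Set G) ∧
    ⁅⁅V, B⁆, B⁆ = ⊥ ∧
    Nat.card V * Nat.card ↥(B ⊓ Subgroup.centralizer (V : Set G)) ≤
      Nat.card B * Nat.card ↥(V ⊓ Subgroup.centralizer (B : Set G))

theorem IsOff.conj {V B : Subgroup G} [V.Normal] (h : IsOff V B) (g : G) :
    IsOff V (B.map (Functors.cj g)) := by
  have hinj : Function.Injective (Functors.cj g : G →* G) := fun x y hxy => by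
    simpa [Functors.cj_apply] using hxy
  have hV : V.map (Functors.cj g) = V :=
    Functors.map_cj_eq_iff.2 (by rw [Subgroup.normalizer_eq_top]; exact Subgroup.mem_top g)
  have hC : ∀ X : Subgroup G, (Subgroup.centralizer (X : Set G)).map (Functors.cj g) =
      Subgroup.centralizer ((X.map (Functors.cj g) : Subgroup G) : Set G) := by
    intro X
    refine le_antisymm ?_ fun y hy => ⟨g⁻¹ * y * g, Subgroup.mem_centralizer_iff.2 fun x hx => ?_,
      by simp [Functors.cj_apply, mul_assoc]⟩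
    · rintro _ ⟨y, hy, rfl⟩
      refine Subgroup.mem_centralizer_iff.2 ?_
      rintro _ ⟨x, hx, rfl⟩
      rw [← map_mul, ← map_mul, Subgroup.mem_centralizer_iff.1 hy x hx]
    · have := Subgroup.mem_centralizer_iff.1 hy _ ⟨x, hx, rfl⟩
      simp only [Functors.cj_apply] at this
      calc x * (g⁻¹ * y * g) = g⁻¹ * (g * x * g⁻¹ * y) * g := by group
        _ = g⁻¹ * (y * (g * x * g⁻¹)) * g := by rw [this]
        _ = g⁻¹ * y * g * x := by group
  obtain ⟨h1, h2, h3, h4, h5⟩ := h
  refine ⟨h1.map _, ?_, fun hle => h3 ?_, ?_, ?_⟩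
  · rintro _ ⟨x, hx, rfl⟩ _ ⟨y, hy, rfl⟩
    rw [← map_mul, ← map_mul, h2 x hx y hy]
  · rw [← hV, ← hC, Subgroup.map_le_map_iff_of_injective hinj] at hle
    exact hle
  · rw [← hV, ← Subgroup.map_commutator, ← Subgroup.map_commutator, h4, Subgroup.map_bot]
  · rw [← hV, ← hC, ← hC, ← Subgroup.map_inf _ _ _ hinj, ← Subgroup.map_inf _ _ _ hinj,
      Subgroup.card_map_of_injective hinj, Subgroup.card_map_of_injective hinj,
      Subgroup.card_map_of_injective hinj, Subgroup.card_map_of_injective hinj]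
    exact h5

/-- A maximal abelian subgroup normalized by `V` and not centralizing it is an offender. -/
theorem isOff_of_max {S A V : Subgroup G} [V.Normal] (hS : IsPGroup 2 S)
    (hab : ∀ x ∈ V, ∀ y ∈ V, x * y = y * x) (hVS : V ≤ S) (hA : IsMaxIn 2 False S A)
    (hVA : V ≤ Subgroup.normalizer (A : Set G)) (hAC : ¬ A ≤ Subgroup.centralizer (V : Set G)) :
    IsOff V A := by
  refine ⟨hS.to_le hA.1, fun x hx y hy => hA.2.1.comm hx hy, hAC, ?_, ?_⟩
  · have h1 : ⁅V, A⁆ ≤ A := by
      rw [Subgroup.commutator_le]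
      intro v hv a ha
      rw [commutatorElement_def]
      exact A.mul_mem ((Subgroup.mem_normalizer_iff.1 (hVA hv) a).1 ha) (A.inv_mem ha)
    rw [Subgroup.commutator_eq_bot_iff_le_centralizer]
    exact fun x hx y hy => hA.2.1.comm hy (h1 hx)
  · set A₀ := A ⊓ Subgroup.centralizer (V : Set G) with hA₀
    have h1 : A₀ ≤ Subgroup.normalizer (V : Set G) := by rw [Subgroup.normalizer_eq_top]; exact le_top
    have hle : V ⊔ A₀ ≤ Subgroup.centralizer ((V ⊔ A₀ : Subgroup G) : Set G) := by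
      have hVV : V ≤ Subgroup.centralizer (V : Set G) := fun x hx y hy => hab y hy x hx
      have hAA : A₀ ≤ Subgroup.centralizer (A₀ : Set G) := fun x hx y hy => hA.2.1.comm hy.1 hx.1
      have hVA0 : V ≤ Subgroup.centralizer (A₀ : Set G) := fun x hx y hy =>
        (Subgroup.mem_centralizer_iff.1 hy.2 x hx).symm
      rw [Subgroup.sup_eq_closure, Subgroup.centralizer_closure, ← Subgroup.sup_eq_closure]
      refine sup_le (fun x hx => ?_) (fun x hx => ?_) <;>
        refine Subgroup.mem_centralizer_iff.2 fun y hy => ?_ <;> rcases hy with hy | hy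
      · exact hVV hx y hy
      · exact hVA0 hx y hy
      · exact Subgroup.mem_centralizer_iff.1 hx.2 y hy
      · exact hAA hx y hy
    have h2 := hA.2.2 _ (sup_le hVS (inf_le_left.trans hA.1))
      (ZJ.sml_of_comm (fun x hx y hy => Subgroup.mem_centralizer_iff.1 (hle hy) x hx) False.elim)
    have h3 := SolvBasic.card_sup_mul_card_inf (N := V) (H := A₀) h1
    have h5 : Nat.card ↥(V ⊓ A₀) ≤ Nat.card ↥(V ⊓ Subgroup.centralizer (A : Set G)) :=
      Subgroup.card_le_of_le fun x hx => Subgroup.mem_inf.2 ⟨hx.1,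
        Subgroup.mem_centralizer_iff.2 fun a ha => hA.2.1.comm ha hx.2.1⟩
    calc Nat.card V * Nat.card A₀ = Nat.card ↥(V ⊔ A₀) * Nat.card ↥(V ⊓ A₀) := h3.symm
      _ ≤ _ := Nat.mul_le_mul h2 h5

theorem two_mul_card_le {X Y : Subgroup G} (h : X < Y) : 2 * Nat.card X ≤ Nat.card Y := by
  obtain ⟨k, hk⟩ := Subgroup.card_dvd_of_le h.le
  have hlt : Nat.card X < Nat.card Y :=
    Set.ncard_lt_ncard (SetLike.coe_ssubset_coe.2 h) (Set.toFinite _)
  rw [hk] at hlt ⊢
  rw [mul_comm 2]
  refine Nat.mul_le_mul_left _ ?_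
  rcases k with _ | _ | k
  · simp at hlt
  · simp at hlt
  · omega

/-- In an `S₄`-free group a minimal offender and a maximal subgroup of it fix the same. -/
theorem fixed_of_minimal (hS4 : ¬ Involves (Equiv.Perm (Fin 4)) G) {V : Subgroup G} [V.Normal]
    (hab : ∀ x ∈ V, ∀ y ∈ V, x * y = y * x)
    (hO : pCore 2 (G ⧸ Subgroup.centralizer (V : Set G)) = ⊥) {A : Subgroup G} (hA : IsOff V A)
    (hmin : ∀ B < A, ¬ IsOff V B) {B : Subgroup G} (hBA : B ≤ A) (hidx : B.relIndex A = 2)
    (hCB : A ⊓ Subgroup.centralizer (V : Set G) ≤ B) {x : G} (hx : x ∈ V)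
    (hxB : x ∈ Subgroup.centralizer (B : Set G)) : x ∈ Subgroup.centralizer (A : Set G) := by
  set C := Subgroup.centralizer (V : Set G) with hC
  obtain ⟨hAp, hAab, hAC, hAq, hAle⟩ := hA
  by_contra hxA
  have hidx' : (B.subgroupOf A).index = 2 := hidx
  have hcard : Nat.card A = Nat.card B * 2 := by
    rw [← hidx', ← Nat.card_congr (Subgroup.subgroupOfEquivOfLe hBA).toEquiv, Subgroup.card_mul_index]
  have hlt : V ⊓ Subgroup.centralizer (A : Set G) < V ⊓ Subgroup.centralizer (B : Set G) :=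
    lt_of_le_of_ne (inf_le_inf_left _ (Subgroup.centralizer_le (SetLike.coe_subset_coe.2 hBA)))
      fun he => hxA (he.ge (Subgroup.mem_inf.2 ⟨hx, hxB⟩)).2
  have h2le := two_mul_card_le hlt
  have hBne : B ≠ A := fun h => by rw [h, Subgroup.relIndex_self] at hidx; omega
  have hBlt : B < A := lt_of_le_of_ne hBA hBne
  have hBC' : B ⊓ C = A ⊓ C := le_antisymm (inf_le_inf_right _ hBA) (le_inf hCB inf_le_right)
  by_cases hBC : B ≤ C
  · -- a transvection
    have hBeq : A ⊓ C = B := le_antisymm hCB (le_inf hBA hBC)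
    rw [hBeq, hcard, mul_assoc, mul_comm (Nat.card V)] at hAle
    have hV2 : Nat.card V ≤ 2 * Nat.card ↥(V ⊓ Subgroup.centralizer (A : Set G)) :=
      Nat.le_of_mul_le_mul_left hAle Nat.card_pos
    obtain ⟨a, haA, haB⟩ := SetLike.exists_of_lt hBlt
    have hmem : ∀ b ∈ A, b ∉ B → a⁻¹ * b ∈ B := by
      intro b hb hbB
      have := (Subgroup.mul_mem_iff_of_index_two hidx' (a := (⟨a, haA⟩ : ↥A)⁻¹) (b := ⟨b, hb⟩)).2
        (by simp only [Subgroup.mem_subgroupOf, Subgroup.coe_inv, inv_mem_iff]; exact iff_of_false haB hbB)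
      simpa [Subgroup.mem_subgroupOf] using this
    have haC : a ∉ C := fun h => haB (hCB (Subgroup.mem_inf.2 ⟨haA, h⟩))
    have ha2 : a ^ 2 ∈ C := by
      refine hBC ?_
      have := (Subgroup.mul_mem_iff_of_index_two hidx' (a := (⟨a, haA⟩ : ↥A)) (b := ⟨a, haA⟩)).2 Iff.rfl
      rw [pow_two]
      simpa [Subgroup.mem_subgroupOf] using this
    set K := V ⊓ Subgroup.centralizer (A : Set G) with hK
    have hKa : ∀ v ∈ V, v ∈ K ↔ a * v = v * a := by
      intro v hv
      refine ⟨fun h => Subgroup.mem_centralizer_iff.1 h.2 a haA, fun h => Subgroup.mem_inf.2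
        ⟨hv, Subgroup.mem_centralizer_iff.2 fun b hb => ?_⟩⟩
      by_cases hbB : b ∈ B
      · exact (Subgroup.mem_centralizer_iff.1 (hBC hbB) v hv).symm
      · have h1 : Commute (a⁻¹ * b) v := (Subgroup.mem_centralizer_iff.1 (hBC (hmem b hb hbB)) v hv).symm
        have h2 : Commute (a * (a⁻¹ * b)) v := (show Commute a v from h).mul_left h1
        rw [mul_inv_cancel_left] at h2
        exact h2
    refine hS4 (Transvection2.involves_of_transvection hab haC ha2 (fun v hv w hw hva hwa => ?_) hO)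
    have hidxK : (K.subgroupOf V).index = 2 := by
      have h1 : Nat.card K * (K.subgroupOf V).index = Nat.card V := by
        rw [← Nat.card_congr (Subgroup.subgroupOfEquivOfLe (inf_le_left : K ≤ V)).toEquiv,
          Subgroup.card_mul_index]
      have h2 : (K.subgroupOf V).index ≤ 2 := by
        refine Nat.le_of_mul_le_mul_left ?_ (Nat.card_pos (α := K))
        rw [h1, mul_comm]
        exact hV2
      have h3 : (K.subgroupOf V).index ≠ 1 := fun h => hva (by
        rw [Subgroup.index_eq_one, Subgroup.subgroupOf_eq_top] at h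
        exact (hKa v hv).1 (h hv))
      have h4 : 0 < (K.subgroupOf V).index := Nat.pos_of_ne_zero Subgroup.index_ne_zero_of_finite
      omega
    refine (hKa _ (mul_mem hv hw)).1 ?_
    have := (Subgroup.mul_mem_iff_of_index_two hidxK (a := (⟨v, hv⟩ : ↥V)) (b := ⟨w, hw⟩)).2
      (iff_of_false (fun h => hva ((hKa v hv).1 h)) (fun h => hwa ((hKa w hw).1 h)))
    exact this
  · refine hmin B hBlt ⟨hAp.to_le hBA, fun u hu v hv => hAab u (hBA hu) v (hBA hv), hBC, ?_, ?_⟩
    · exact eq_bot_iff.2 ((Subgroup.commutator_mono (Subgroup.commutator_mono le_rfl hBA) hBA).trans hAq.le)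
    · rw [hBC']
      refine hAle.trans ?_
      rw [hcard, mul_assoc]
      exact Nat.mul_le_mul_left _ h2le

/-! ### Sums over orbits -/

/-- A sum over an abelian 2-group acting quadratically vanishes. -/
theorem sum_group_eq_zero {Q W : Type*} [Group Q] [Fintype Q] [AddCommGroup W]
    (hW : ∀ w : W, w + w = 0) (hcomm : ∀ a b : Q, a * b = b * a) (hQ : IsPGroup 2 Q) [Nontrivial Q]
    (g : Q → W) (hq : ∀ q a b : Q, g (a * (b * q)) + g (a * q) + g (b * q) + g q = 0)
    (h2 : Nat.card Q = 2 → ∀ q a : Q, g (a * q) = g q) : ∑ q, g q = 0 := by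
  classical
  haveI : Finite Q := Finite.of_fintype Q
  have hdvd : 2 ∣ Nat.card Q := by
    obtain ⟨n, hn, h⟩ := (IsPGroup.nontrivial_iff_card hQ).1 inferInstance
    exact h ▸ dvd_pow_self 2 hn.ne'
  obtain ⟨β, hβ⟩ := exists_prime_orderOf_dvd_card' (G := Q) 2 hdvd
  have hββ : β * β = 1 := by rw [← pow_two, ← hβ, pow_orderOf_eq_one]
  have hβ1 : β ≠ 1 := fun h => by simp [h] at hβ
  by_cases hall : ∀ q : Q, q = 1 ∨ q = β
  · have hu : (Finset.univ : Finset Q) = {1, β} := by
      ext q; simp [hall q]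
    have hc : Nat.card Q = 2 := by
      rw [Nat.card_eq_fintype_card, ← Finset.card_univ, hu, Finset.card_pair (Ne.symm hβ1)]
    rw [hu, Finset.sum_pair (Ne.symm hβ1)]
    have := h2 hc 1 β
    rw [mul_one] at this
    rw [this]
    exact hW _
  push Not at hall
  obtain ⟨r, hr1, hrβ⟩ := hall
  -- an element outside `⟨β⟩` whose square lies in it
  let K₀ : Subgroup Q :=
    { carrier := {q | q = 1 ∨ q = β}
      one_mem' := Or.inl rfl
      mul_mem' := fun {x y} hx hy => by
        rcases hx with rfl | rfl <;> rcases hy with rfl | rfl <;> simp [hββ]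
      inv_mem' := fun {x} hx => by
        rcases hx with rfl | rfl
        · simp
        · exact Or.inr (inv_eq_of_mul_eq_one_right hββ) }
  obtain ⟨α, hα, hαα⟩ : ∃ α, α ∉ K₀ ∧ α * α ∈ K₀ := by
    have hex : ∃ n : ℕ, r ^ 2 ^ n ∈ K₀ := by
      obtain ⟨n, hn⟩ := hQ r
      exact ⟨n, by rw [hn]; exact one_mem _⟩
    have h0 : Nat.find hex ≠ 0 := fun h => by
      have := Nat.find_spec hex
      rw [h, pow_zero, pow_one] at this
      rcases this with h' | h'
      · exact hr1 h'
      · exact hrβ h'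
    obtain ⟨j, hj⟩ := Nat.exists_eq_succ_of_ne_zero h0
    refine ⟨r ^ 2 ^ j, Nat.find_min hex (by omega), ?_⟩
    rw [← pow_add, ← two_mul, ← pow_succ', show j + 1 = Nat.find hex from hj.symm]
    exact Nat.find_spec hex
  have hα1 : α ≠ 1 := fun h => hα (Or.inl h)
  have hαβ : α ≠ β := fun h => hα (Or.inr h)
  let K : Subgroup Q :=
    { carrier := {q | q ∈ K₀ ∨ α * q ∈ K₀}
      one_mem' := Or.inl (one_mem _)
      mul_mem' := fun {x y} hx hy => by
        rcases hx with hx | hx <;> rcases hy with hy | hy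
        · exact Or.inl (mul_mem hx hy)
        · exact Or.inr (by rw [← mul_assoc, hcomm α x, mul_assoc]; exact mul_mem hx hy)
        · exact Or.inr (by rw [← mul_assoc]; exact mul_mem hx hy)
        · refine Or.inl ?_
          have h := mul_mem (mul_mem hx hy) (inv_mem hαα)
          rwa [show α * x * (α * y) * (α * α)⁻¹ = x * y by
            rw [show α * x * (α * y) = x * y * (α * α) by
              rw [hcomm α x, mul_assoc x α, ← mul_assoc α α, hcomm (α * α) y, ← mul_assoc],
              mul_inv_cancel_right]] at h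
      inv_mem' := fun {x} hx => by
        rcases hx with hx | hx
        · exact Or.inl (inv_mem hx)
        · refine Or.inr ?_
          have h := mul_mem (inv_mem hx) hαα
          rwa [show (α * x)⁻¹ * (α * α) = α * x⁻¹ by
            rw [mul_inv_rev, mul_assoc, inv_mul_cancel_left, hcomm]] at h }
  have hKn : K.Normal := ⟨fun x hx y => by rw [hcomm y x, mul_inv_cancel_right]; exact hx⟩
  rw [← Finset.sum_fiberwise Finset.univ (QuotientGroup.mk : Q → Q ⧸ K) g]
  refine Finset.sum_eq_zero fun c _ => ?_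
  obtain ⟨q, rfl⟩ := QuotientGroup.mk_surjective c
  have hfib : Finset.univ.filter (fun x : Q => (x : Q ⧸ K) = (q : Q ⧸ K)) =
      {α * (β * q), α * q, β * q, q} := by
    ext x
    simp only [Finset.mem_filter, Finset.mem_univ, true_and, Finset.mem_insert, Finset.mem_singleton,
      QuotientGroup.eq]
    have hβi : β⁻¹ = β := inv_eq_of_mul_eq_one_right hββ
    constructor
    · intro h
      have hz : q * x⁻¹ ∈ K := by rw [hcomm]; exact h
      rcases hz with (hz | hz) | (hz | hz)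
      · right; right; right; exact (mul_inv_eq_one.1 hz).symm
      · right; right; left
        rw [mul_inv_eq_iff_eq_mul] at hz
        rw [hz, ← mul_assoc, hββ, one_mul]
      · right; left
        rw [← mul_assoc, mul_inv_eq_one] at hz
        exact hz.symm
      · left
        rw [← mul_assoc, mul_inv_eq_iff_eq_mul] at hz
        rw [show α * (β * q) = β * (α * q) by rw [← mul_assoc, hcomm α β, mul_assoc], hz, ← mul_assoc,
          hββ, one_mul]
    · intro h
      have key : ∀ z, z ∈ K → x = z * q → x⁻¹ * q ∈ K := by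
        rintro z hz rfl
        have := inv_mem hz
        rwa [show (z * q)⁻¹ * q = z⁻¹ by rw [mul_inv_rev, hcomm q⁻¹, inv_mul_cancel_right]]
      rcases h with h | h | h | h
      · exact key (α * β) (Or.inr (by rw [← mul_assoc]; exact mul_mem hαα (Or.inr rfl)))
          (by rw [h, mul_assoc])
      · exact key α (Or.inr hαα) h
      · exact key β (Or.inl (Or.inr rfl)) h
      · exact key 1 (one_mem _) (by rw [h, one_mul])
  rw [hfib, Finset.sum_insert (by
      simp only [Finset.mem_insert, Finset.mem_singleton, not_or]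
      refine ⟨fun h => hβ1 ?_, fun h => hα1 ?_, fun h => ?_⟩
      · have h' := mul_left_cancel h; exact mul_eq_right.1 h'
      · rw [mul_eq_right] at h; exact h
      · rw [← mul_assoc, mul_eq_right] at h
        exact hαβ (by rw [eq_inv_of_mul_eq_one_left h]; exact inv_eq_of_mul_eq_one_right hββ)),
    Finset.sum_insert (by
      simp only [Finset.mem_insert, Finset.mem_singleton, not_or]
      exact ⟨fun h => hαβ (mul_right_cancel h), fun h => hα1 (mul_eq_right.1 h)⟩),
    Finset.sum_pair (fun h => hβ1 (mul_eq_right.1 h)), ← add_assoc, ← add_assoc]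
  exact hq q α β

section orbit

variable {W : Type*} [AddCommGroup W]

/-- The sum over all cosets of `M` is the value at the base coset. -/
theorem sum_eq_base (hW : ∀ w : W, w + w = 0) (ρ : G → W →+ W)
    (hρ : ∀ (g h : G) (w : W), ρ (g * h) w = ρ g (ρ h w)) {M E : Subgroup G} (hE : IsPGroup 2 ↥E)
    {Δ : Set (Subgroup G)} (hΔE : E = sSup Δ) (hab : ∀ A ∈ Δ, ∀ x ∈ A, ∀ y ∈ A, x * y = y * x)
    (hq : ∀ A ∈ Δ, ∀ a ∈ A, ∀ b ∈ A, ∀ w : W, ρ a (ρ b w) + ρ a w + ρ b w + w = 0) (hEM : E ≤ M)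
    (hmove : ∀ g : G, (∀ e ∈ E, g⁻¹ * e * g ∈ M) → g ∈ M) [Fintype (G ⧸ M)]
    (f : G ⧸ M → W) (hf : ∀ (g : G) (c : G ⧸ M), f (g • c) = ρ g (f c))
    (h2 : ∀ A ∈ Δ, ∀ c : G ⧸ M, (MulAction.stabilizer ↥A c).index = 2 →
      ∀ a ∈ A, ρ a (f c) = f c) :
    ∑ c, f c = f ((1 : G) : G ⧸ M) := by
  classical
  have hc0 : ∀ m ∈ M, m • ((1 : G) : G ⧸ M) = ((1 : G) : G ⧸ M) := by
    intro m hm
    rw [MulAction.Quotient.smul_mk, smul_eq_mul, mul_one, QuotientGroup.eq]
    simpa using hm
  suffices hzero : ∑ c ∈ Finset.univ.erase ((1 : G) : G ⧸ M), f c = 0 by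
    rw [← Finset.add_sum_erase _ _ (Finset.mem_univ ((1 : G) : G ⧸ M)), hzero, add_zero]
  haveI : Fintype (Quotient (MulAction.orbitRel ↥E (G ⧸ M))) := Fintype.ofFinite _
  rw [← Finset.sum_fiberwise (Finset.univ.erase ((1 : G) : G ⧸ M))
    (Quotient.mk (MulAction.orbitRel ↥E (G ⧸ M))) f]
  refine Finset.sum_eq_zero fun q _ => ?_
  set s := Finset.filter (fun c => Quotient.mk (MulAction.orbitRel ↥E (G ⧸ M)) c = q)
    (Finset.univ.erase ((1 : G) : G ⧸ M)) with hs
  rcases s.eq_empty_or_nonempty with h | ⟨c₀, hc₀⟩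
  · rw [h, Finset.sum_empty]
  obtain ⟨hne₀, hq₀⟩ := Finset.mem_filter.1 hc₀
  have hne₀' := (Finset.mem_erase.1 hne₀).1
  have hstab : MulAction.stabilizer ↥E c₀ ≠ ⊤ := by
    intro htop
    obtain ⟨g, rfl⟩ := QuotientGroup.mk_surjective c₀
    refine hne₀' ?_
    rw [QuotientGroup.eq, mul_one]
    refine inv_mem (hmove g fun e he => ?_)
    have h1 : (⟨e, he⟩ : ↥E) • (QuotientGroup.mk g : G ⧸ M) = QuotientGroup.mk g :=
      MulAction.mem_stabilizer_iff.1 (htop ▸ Subgroup.mem_top _)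
    replace h1 : e • (QuotientGroup.mk g : G ⧸ M) = QuotientGroup.mk g := h1
    rw [MulAction.Quotient.smul_mk, smul_eq_mul, QuotientGroup.eq] at h1
    simpa [mul_assoc] using inv_mem h1
  obtain ⟨E₂, hE₂, hle₂⟩ := (eq_top_or_exists_le_coatom (MulAction.stabilizer ↥E c₀)).resolve_left hstab
  haveI := hE.isNilpotent
  haveI : E₂.Normal := Subgroup.NormalizerCondition.normal_of_coatom E₂
    (Group.normalizerCondition_of_isNilpotent (G := ↥E)) hE₂
  obtain ⟨A, hA, hAE₂⟩ : ∃ A ∈ Δ, ¬ A.subgroupOf E ≤ E₂ := by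
    by_contra hc
    push Not at hc
    refine hE₂.1 (eq_top_iff.2 fun z _ => ?_)
    have hle : E ≤ E₂.map E.subtype := by
      conv_lhs => rw [hΔE]
      refine sSup_le fun B hB v hv => ⟨⟨v, hΔE ▸ le_sSup hB hv⟩, hc B hB hv, rfl⟩
    obtain ⟨w, hw, hwz⟩ := hle z.2
    rwa [show w = z from Subtype.ext hwz] at hw
  have hAE : A ≤ E := hΔE ▸ le_sSup hA
  -- split into `A`-orbits
  haveI : Fintype (Quotient (MulAction.orbitRel ↥A (G ⧸ M))) := Fintype.ofFinite _
  rw [← Finset.sum_fiberwise s (Quotient.mk (MulAction.orbitRel ↥A (G ⧸ M))) f]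
  refine Finset.sum_eq_zero fun r _ => ?_
  rcases (Finset.filter (fun c => Quotient.mk (MulAction.orbitRel ↥A (G ⧸ M)) c = r) s).eq_empty_or_nonempty
    with h | ⟨c, hc⟩
  · rw [h, Finset.sum_empty]
  obtain ⟨hcs, hcr⟩ := Finset.mem_filter.1 hc
  obtain ⟨hcne, hcq⟩ := Finset.mem_filter.1 hcs
  set B := MulAction.stabilizer ↥A c with hB
  have hBtop : B ≠ ⊤ := by
    intro htop
    refine hAE₂ fun u hu => ?_
    obtain ⟨e, he⟩ : ∃ e : ↥E, e • c₀ = c := Quotient.exact (hcq.trans hq₀.symm)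
    have hfix : u • c = c := by
      have h1 : (⟨(u : G), hu⟩ : ↥A) ∈ B := htop ▸ Subgroup.mem_top _
      exact MulAction.mem_stabilizer_iff.1 h1
    rw [← he] at hfix
    have hmem : e⁻¹ * (u * e) ∈ E₂ := hle₂ (MulAction.mem_stabilizer_iff.2 (by
      rw [mul_smul, mul_smul, hfix, inv_smul_smul]))
    have h3 := (inferInstance : E₂.Normal).conj_mem _ hmem e
    simpa [mul_assoc] using h3
  haveI hBn : B.Normal := ⟨fun x hx y => by
    have : y * x * y⁻¹ = x :=
      Subtype.ext (by push_cast; rw [hab A hA _ y.2 _ x.2]; group)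
    rwa [this]⟩
  haveI : Fintype (↥A ⧸ B) := Fintype.ofFinite _
  -- the orbit is `A ⧸ B`
  let φ : ↥A ⧸ B → G ⧸ M := MulAction.ofQuotientStabilizer ↥A c
  have hφ : ∀ a : ↥A, φ (a : ↥A ⧸ B) = (a : G) • c := fun a => rfl
  have hsum : ∑ d ∈ Finset.filter (fun d => Quotient.mk (MulAction.orbitRel ↥A (G ⧸ M)) d = r) s, f d =
      ∑ t : ↥A ⧸ B, f (φ t) := by
    refine (Finset.sum_bij' (fun t _ => φ t) (fun d hd => ((Quotient.exact
      ((Finset.mem_filter.1 hd).2.trans hcr.symm) : ∃ a : ↥A, a • c = d).choose : ↥A ⧸ B))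
      (fun t _ => ?_) (fun d hd => Finset.mem_univ _) (fun t _ => ?_) (fun d hd => ?_)
      (fun t _ => rfl)).symm
    · induction t using QuotientGroup.induction_on with
      | _ a =>
        rw [hφ]
        refine Finset.mem_filter.2 ⟨Finset.mem_filter.2 ⟨Finset.mem_erase.2 ⟨fun h => ?_,
          Finset.mem_univ _⟩, hcq ▸ Quotient.sound ⟨⟨a, hAE a.2⟩, rfl⟩⟩, hcr ▸ Quotient.sound ⟨a, rfl⟩⟩
        refine (Finset.mem_erase.1 hcne).1 ?_
        have h' : (a : G)⁻¹ • ((a : G) • c) = (a : G)⁻¹ • ((1 : G) : G ⧸ M) := congrArg _ h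
        rwa [inv_smul_smul, hc0 _ (inv_mem (hEM (hAE a.2)))] at h'
    · apply MulAction.injective_ofQuotientStabilizer ↥A c
      exact Exists.choose_spec (p := fun a : ↥A => a • c = φ t) _
    · exact (Quotient.exact ((Finset.mem_filter.1 hd).2.trans hcr.symm) : ∃ a : ↥A, a • c = d).choose_spec
  rw [hsum]
  haveI : Nontrivial (↥A ⧸ B) := QuotientGroup.nontrivial_iff.2 hBtop
  refine sum_group_eq_zero hW ?_ (((hE.to_le hAE).to_quotient B)) (fun t => f (φ t)) ?_ ?_
  · intro a b
    obtain ⟨a, rfl⟩ := QuotientGroup.mk_surjective a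
    obtain ⟨b, rfl⟩ := QuotientGroup.mk_surjective b
    rw [← QuotientGroup.mk_mul, ← QuotientGroup.mk_mul,
      show a * b = b * a from Subtype.ext (hab A hA _ a.2 _ b.2)]
  · intro t a b
    obtain ⟨t, rfl⟩ := QuotientGroup.mk_surjective t
    obtain ⟨a, rfl⟩ := QuotientGroup.mk_surjective a
    obtain ⟨b, rfl⟩ := QuotientGroup.mk_surjective b
    simp only [← QuotientGroup.mk_mul, hφ, Subgroup.coe_mul, mul_smul, hf]
    exact hq A hA _ a.2 _ b.2 _
  · intro hcard t a
    obtain ⟨t, rfl⟩ := QuotientGroup.mk_surjective t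
    obtain ⟨a, rfl⟩ := QuotientGroup.mk_surjective a
    simp only [← QuotientGroup.mk_mul, hφ, Subgroup.coe_mul, mul_smul, hf]
    have hfix := h2 A hA c (by rw [Subgroup.index_eq_card]; exact hcard)
    rw [hfix _ t.2, hfix _ a.2]

end orbit

/-- An element fixed by `M` is, modulo `V`, a central element. -/
theorem exists_central_congr {U V : Subgroup G} [hU : U.Normal] [hV : V.Normal] (hab : ⁅U, U⁆ = ⊥)
    (hpow : ∀ x ∈ U, x ^ 2 ∈ V) {M E : Subgroup G} (hE : IsPGroup 2 ↥E) {Δ : Set (Subgroup G)}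
    (hΔE : E = sSup Δ) (hΔab : ∀ A ∈ Δ, ∀ x ∈ A, ∀ y ∈ A, x * y = y * x)
    (hquad : ∀ A ∈ Δ, ∀ x ∈ U, ∀ a ∈ A, ∀ b ∈ A, ⁅⁅x, b⁆, a⁆ ∈ V)
    (hfix : ∀ A ∈ Δ, ∀ c : G ⧸ M, (MulAction.stabilizer ↥A c).index = 2 →
      ∀ x ∈ U, (∀ b ∈ MulAction.stabilizer ↥A c, (b : G) * x * (b : G)⁻¹ = x) →
        ∀ a ∈ A, a * x * a⁻¹ = x)
    (hEM : E ≤ M) (hmove : ∀ g : G, (∀ e ∈ E, g⁻¹ * e * g ∈ M) → g ∈ M) {y : G} (hy : y ∈ U)
    (hM : ∀ m ∈ M, m * y * m⁻¹ = y) :
    ∃ z ∈ U, (∀ g : G, g * z * g⁻¹ = z) ∧ y⁻¹ * z ∈ V := by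
  classical
  letI : CommGroup ↥U :=
    { (inferInstance : Group ↥U) with
      mul_comm := fun a b => Subtype.ext (show Commute (a : G) b by
        rw [← commutatorElement_eq_one_iff_commute, ← Subgroup.mem_bot, ← hab]
        exact Subgroup.commutator_mem_commutator a.2 b.2) }
  set V' : Subgroup ↥U := V.subgroupOf U with hV'
  let φ : G → (↥U ⧸ V' →* ↥U ⧸ V') := fun g =>
    QuotientGroup.map V' V' (MulAut.conjNormal (H := U) g).toMonoidHom (fun x hx => by
      rw [Subgroup.mem_comap]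
      change ((MulAut.conjNormal g x : ↥U) : G) ∈ V
      rw [MulAut.conjNormal_apply]
      exact hV.conj_mem _ hx g)
  let ρ : G → Additive (↥U ⧸ V') →+ Additive (↥U ⧸ V') := fun g => (φ g).toAdditive
  have hρ : ∀ (g : G) (x : ↥U), ρ g (Additive.ofMul (x : ↥U ⧸ V')) =
      Additive.ofMul ((MulAut.conjNormal g x : ↥U) : ↥U ⧸ V') := fun _ _ => rfl
  have hW : ∀ w : Additive (↥U ⧸ V'), w + w = 0 := fun w => by
    obtain ⟨w, rfl⟩ := (Additive.ofMul (α := ↥U ⧸ V')).surjective w
    induction w using QuotientGroup.induction_on with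
    | _ x =>
      rw [← ofMul_mul, ← QuotientGroup.mk_mul, ← ofMul_one]
      congr 1
      rw [QuotientGroup.eq_one_iff, ← pow_two]
      exact hpow _ x.2
  have hmul : ∀ g h a, ρ (g * h) a = ρ g (ρ h a) := fun g h q => by
    obtain ⟨q, rfl⟩ := (Additive.ofMul (α := ↥U ⧸ V')).surjective q
    induction q using QuotientGroup.induction_on with
    | _ x => simp [hρ]
  haveI : Fintype (G ⧸ M) := Fintype.ofFinite _
  let f₀ : G ⧸ M → ↥U := fun c => Quotient.liftOn' c
    (fun g => MulAut.conjNormal g (⟨y, hy⟩ : ↥U)) fun g k h => by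
      have h' := hM _ (QuotientGroup.leftRel_apply.1 h)
      refine Subtype.ext ?_
      simp only [MulAut.conjNormal_apply]
      conv_lhs => rw [← h']
      group
  have hf₀ : ∀ (g : G) (c : G ⧸ M), f₀ (g • c) = MulAut.conjNormal g (f₀ c) := by
    intro g c
    induction c using QuotientGroup.induction_on with
    | _ k =>
      change MulAut.conjNormal (g * k) (⟨y, hy⟩ : ↥U) =
        MulAut.conjNormal g (MulAut.conjNormal k (⟨y, hy⟩ : ↥U))
      rw [map_mul, MulAut.mul_apply]
  set z : ↥U := ∏ c, f₀ c with hz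
  refine ⟨(z : G), z.2, fun g => ?_, ?_⟩
  · have h1 : MulAut.conjNormal g z = z := by
      rw [hz, map_prod]
      refine Fintype.prod_equiv (MulAction.toPerm g) _ _ fun c => ?_
      rw [MulAction.toPerm_apply, hf₀]
    have h2 := congrArg Subtype.val h1
    rwa [MulAut.conjNormal_apply] at h2
  · have h1 := sum_eq_base hW ρ hmul hE hΔE hΔab ?_ hEM hmove
      (fun c => Additive.ofMul ((f₀ c : ↥U) : ↥U ⧸ V'))
      (fun g c => by rw [hρ, hf₀]) ?_
    · rw [← ofMul_prod, Additive.ofMul.injective.eq_iff] at h1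
      simp only [← QuotientGroup.mk'_apply, ← map_prod, ← hz] at h1
      have h2 : ((⟨y, hy⟩ : ↥U) : ↥U ⧸ V') = (z : ↥U ⧸ V') := by
        rw [show (⟨y, hy⟩ : ↥U) = f₀ ((1 : G) : G ⧸ M) from Subtype.ext (by
          change y = ((MulAut.conjNormal (1 : G) (⟨y, hy⟩ : ↥U) : ↥U) : G)
          simp)]
        exact h1.symm
      exact (QuotientGroup.eq (s := V')).1 h2
    · intro A hA a ha b hb w
      obtain ⟨w, rfl⟩ := (Additive.ofMul (α := ↥U ⧸ V')).surjective w
      induction w using QuotientGroup.induction_on with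
      | _ x =>
        rw [hρ, hρ, hρ, ← ofMul_mul, ← ofMul_mul, ← ofMul_mul, ← ofMul_one]
        congr 1
        rw [← QuotientGroup.mk_mul, ← QuotientGroup.mk_mul, ← QuotientGroup.mk_mul]
        have hd : ∀ t : ↥U, ∀ g : G, ⁅(t : G), g⁆ = ((t * (MulAut.conjNormal g t)⁻¹ : ↥U) : G) := by
          intro t g
          push_cast
          rw [MulAut.conjNormal_apply, commutatorElement_def]
          group
        have hm := hquad A hA _ x.2 a ha b hb
        rw [hd x b, hd _ a] at hm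
        have hm' : ((x * (MulAut.conjNormal b x)⁻¹ *
            (MulAut.conjNormal a (x * (MulAut.conjNormal b x)⁻¹))⁻¹ : ↥U) : ↥U ⧸ V') = 1 :=
          (QuotientGroup.eq_one_iff _).2 hm
        have hsq : ∀ t : ↥U, ((t : ↥U) : ↥U ⧸ V')⁻¹ = (t : ↥U ⧸ V') := fun t => by
          refine inv_eq_of_mul_eq_one_right ?_
          rw [← QuotientGroup.mk_mul, QuotientGroup.eq_one_iff, ← pow_two]
          exact hpow _ t.2
        simp only [map_mul, map_inv, mul_inv, inv_inv, QuotientGroup.mk_mul, QuotientGroup.mk_inv, hsq] at hm' ⊢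
        rw [← hm']
        ac_rfl
    · intro A hA c hc a ha
      rw [hρ]
      congr 2
      refine Subtype.ext ?_
      rw [MulAut.conjNormal_apply]
      refine hfix A hA c hc _ (f₀ c).2 (fun b hb => ?_) a ha
      have hb' : (b : G) • c = c := MulAction.mem_stabilizer_iff.1 hb
      have h := hf₀ (b : G) c
      rw [hb'] at h
      have h' := congrArg Subtype.val h
      rw [MulAut.conjNormal_apply] at h'
      exact h'.symm

/-- **The central step for `J` in an `S₄`-free group.** -/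
theorem central_of_J (hS4 : ¬ Involves (Equiv.Perm (Fin 4)) G) (S : Sylow 2 G)
    (hJ : ¬ (jSub 2 False (S : Subgroup G)).Normal) {x : G}
    (hx : x ∈ pCore 2 G ⊓ Subgroup.centralizer ((pCore 2 G : Subgroup G) : Set G))
    (hxS : (S : Subgroup G) ≤ Subgroup.centralizer ({x} : Set G))
    (hmax : ∀ K : Subgroup G, (S : Subgroup G) ≤ K → K ≠ ⊤ → K ≤ Subgroup.centralizer ({x} : Set G)) :
    Subgroup.centralizer ({x} : Set G) = ⊤ := by
  obtain ⟨A₀, hA₀, hA₀O, hVA₀⟩ := JQuad.exists_abelian S hJ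
  set O := pCore 2 G with hO
  haveI : O.Normal := Cfsg.pCore_normal 2 G
  set V₀ := O ⊓ Subgroup.centralizer (O : Set G) with hV₀
  haveI : V₀.Normal := Subgroup.normal_inf_normal _ _
  have hV₀ab : ∀ u ∈ V₀, ∀ v ∈ V₀, u * v = v * u := fun u hu v hv =>
    Subgroup.mem_centralizer_iff.1 (Subgroup.mem_inf.1 hv).2 u (Subgroup.mem_inf.1 hu).1
  have hV₀p : IsPGroup 2 ↥V₀ := (PBasic.pCore_isPGroup 2 G).to_le inf_le_left
  have hV₀S : V₀ ≤ (S : Subgroup G) := inf_le_left.trans (PBasic.pCore_le_sylow S)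
  set C := Subgroup.centralizer (V₀ : Set G) with hC
  by_cases hA₀C : A₀ ≤ C
  · obtain ⟨g, hgA, hgO⟩ := SetLike.not_le_iff_exists.1 hA₀O
    refine Functors.central_of_killers S hV₀p
      (Subgroup.commutator_eq_bot_iff_le_centralizer.2 fun u hu v hv => hV₀ab v hv u hu)
      (hA₀.1 hgA) hgO (fun U V hUV hU => ?_) hx hxS hmax
    show ⁅U, Subgroup.zpowers g⁆ ≤ V
    rw [Subgroup.commutator_eq_bot_iff_le_centralizer.2 ?_]
    · exact bot_le
    · intro u hu
      refine Subgroup.mem_centralizer_iff.2 fun z hz => ?_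
      exact (Subgroup.mem_centralizer_iff.1
        (hA₀C ((Subgroup.zpowers_le.2 hgA) hz)) u (hU hu)).symm
  by_contra hMtop
  set M := Subgroup.centralizer ({x} : Set G) with hM
  have hCM : C ≤ M := Subgroup.centralizer_le (Set.singleton_subset_iff.2 hx)
  haveI : C.Normal := inferInstance
  set π := QuotientGroup.mk' C with hπ
  have hπs : Function.Surjective π := QuotientGroup.mk'_surjective C
  -- `O₂(G/C) = 1`
  have hO2 : pCore 2 (G ⧸ C) = ⊥ := by
    set R := (pCore 2 (G ⧸ C)).comap π with hR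
    haveI : (pCore 2 (G ⧸ C)).Normal := Cfsg.pCore_normal 2 _
    haveI : R.Normal := Subgroup.Normal.comap inferInstance π
    obtain ⟨P, hP⟩ := PBasic.exists_sylow_subgroupOf S R
    set T₁ := (S : Subgroup G) ⊓ R with hT₁
    have hPmap : (P : Subgroup ↥R).map R.subtype = T₁ := by rw [hP, Subgroup.subgroupOf_map_subtype]
    haveI : (C.subgroupOf R).Normal := Subgroup.normal_subgroupOf
    have hquo : IsPGroup 2 (↥R ⧸ C.subgroupOf R) := fun q => by
      induction q using QuotientGroup.induction_on with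
      | _ r =>
        obtain ⟨k, hk⟩ := PBasic.pCore_isPGroup 2 (G ⧸ C) ⟨π r, r.2⟩
        refine ⟨k, ?_⟩
        rw [← QuotientGroup.mk_pow, QuotientGroup.eq_one_iff, Subgroup.mem_subgroupOf,
          SubmonoidClass.coe_pow, ← QuotientGroup.eq_one_iff, ← QuotientGroup.mk'_apply, map_pow]
        exact congrArg Subtype.val hk
    have hsupR := PBasic.sylow_sup_eq_top P hquo
    have hRsup : R ≤ T₁ ⊔ C := by
      have h := congrArg (Subgroup.map R.subtype) hsupR
      rw [Subgroup.map_sup, hPmap, ← MonoidHom.range_eq_map, Subgroup.range_subtype] at h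
      exact h.ge.trans (sup_le_sup le_rfl (Subgroup.map_comap_le _ _))
    by_cases hT₁O : T₁ ≤ O
    · have hOC : O ≤ C := fun o ho v hv =>
        (Subgroup.mem_centralizer_iff.1 (Subgroup.mem_inf.1 hv).2 o ho).symm
      rw [← Subgroup.map_comap_eq_self_of_surjective hπs (pCore 2 (G ⧸ C)), ← hR,
        Subgroup.map_eq_bot_iff, hπ, QuotientGroup.ker_mk']
      exact hRsup.trans (sup_le (hT₁O.trans hOC) le_rfl)
    · exfalso
      have hSN : (S : Subgroup G) ≤ Subgroup.normalizer (T₁ : Set G) :=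
        ChiefAct.inf_le_normalizer Subgroup.le_normalizer
          (le_top.trans_eq (Subgroup.normalizer_eq_top (H := R)).symm)
      have hNM : Subgroup.normalizer (T₁ : Set G) ≤ M := hmax _ hSN
        (Functors.normalizer_ne_top_of_not_le (S.isPGroup'.to_le inf_le_left) hT₁O)
      have hfr := Sylow.normalizer_sup_eq_top P
      rw [hPmap] at hfr
      refine hMtop (eq_top_iff.2 (hfr.ge.trans (sup_le hNM (hRsup.trans (sup_le ?_ hCM)))))
      exact Subgroup.le_normalizer.trans hNM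
  -- the minimal offenders in `S`
  set Δ : Set (Subgroup G) :=
    {A | A ≤ (S : Subgroup G) ∧ IsOff V₀ A ∧ ∀ B < A, ¬ IsOff V₀ B} with hΔ
  obtain ⟨A₁, ⟨hA₁o, hA₁le⟩, hA₁min⟩ := (Set.toFinite {A | IsOff V₀ A ∧ A ≤ A₀}).exists_minimal
    ⟨A₀, isOff_of_max S.isPGroup' hV₀ab hV₀S hA₀ hVA₀ hA₀C, le_rfl⟩
  have hA₁ : A₁ ∈ Δ := ⟨hA₁le.trans hA₀.1, hA₁o, fun B hB hBo =>
    hB.not_ge (hA₁min ⟨hBo, hB.le.trans hA₁le⟩ hB.le)⟩
  set E := sSup Δ with hE
  have hES : E ≤ (S : Subgroup G) := sSup_le fun A hA => hA.1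
  have hconj : ∀ A ∈ Δ, ∀ g : G, A.map (Functors.cj g) ≤ (S : Subgroup G) →
      A.map (Functors.cj g) ∈ Δ := by
    intro A hA g hle
    refine ⟨hle, hA.2.1.conj g, fun B hB hBo => ?_⟩
    have hlt : B.map (Functors.cj g⁻¹) < A := by
      refine lt_of_le_of_ne ?_ fun he => hB.ne ?_
      · have := Subgroup.map_mono (f := Functors.cj g⁻¹) hB.le
        rwa [Functors.map_map_cj, inv_mul_cancel, Functors.map_cj_eq_iff.2 (one_mem _)] at this
      · rw [← he, Functors.map_map_cj, mul_inv_cancel, Functors.map_cj_eq_iff.2 (one_mem _)]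
    exact hA.2.2 _ hlt (hBo.conj g⁻¹)
  have hEmap : ∀ g : G, E.map (Functors.cj g) ≤ (S : Subgroup G) → E.map (Functors.cj g) = E := by
    intro g hle
    refine Subgroup.eq_of_le_of_card_ge ?_ (Functors.card_map_cj _ _).ge
    rw [Subgroup.map_le_iff_le_comap, hE]
    refine sSup_le fun A hA => ?_
    rw [← Subgroup.map_le_iff_le_comap]
    exact le_sSup (hconj A hA g ((Subgroup.map_mono (le_sSup hA)).trans hle))
  have hSEN : (S : Subgroup G) ≤ Subgroup.normalizer (E : Set G) := fun s hs =>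
    Functors.map_cj_eq_iff.1 (hEmap s (by
      rintro _ ⟨e, he, rfl⟩
      exact mul_mem (mul_mem hs (hES he)) (inv_mem hs)))
  have hEp : IsPGroup 2 ↥E := S.isPGroup'.to_le hES
  have hENM : Subgroup.normalizer (E : Set G) ≤ M := hmax _ hSEN
    (Functors.normalizer_ne_top_of_not_le hEp fun h => hA₁.2.1.2.2.1 fun a ha v hv =>
      (Subgroup.mem_centralizer_iff.1 (Subgroup.mem_inf.1 hv).2 a (h (le_sSup hA₁ ha))).symm)
  have hmove : ∀ a : G, (∀ e ∈ E, a⁻¹ * e * a ∈ M) → a ∈ M := by
    intro a ha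
    have hle : E.map (Functors.cj a⁻¹) ≤ M := by
      rintro _ ⟨e, he, rfl⟩
      rw [Functors.cj_apply, inv_inv]
      exact ha e he
    obtain ⟨n, hn, hnE⟩ := Functors.exists_conj_le_of_isSylowIn
      ((Functors.isSylowIn_sylow S).of_le hxS le_top) (hEp.map _) hle
    rw [Functors.map_map_cj] at hnE
    have h1 := hENM (Functors.map_cj_eq_iff.1 (hEmap _ hnE))
    have h2 := inv_mem (mul_mem (inv_mem hn) h1)
    simpa using h2
  suffices key : ∀ U : Subgroup G, U.Normal → U ≤ V₀ → ∀ y ∈ U,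
      Subgroup.centralizer ({y} : Set G) = M → False from key V₀ inferInstance le_rfl x hx rfl
  intro U
  induction hc : Nat.card ↥U using Nat.strong_induction_on generalizing U with
  | _ n ih =>
    intro hUn hUV y hy hyM
    subst hc
    haveI := hUn
    by_cases hbot : U = ⊥
    · rw [hbot, Subgroup.mem_bot] at hy
      subst hy
      refine hMtop (eq_top_iff.2 fun a _ => ?_)
      rw [← hyM, Functors.mem_centralizer_singleton]
      simp
    obtain ⟨V, -, hUV'⟩ := ChiefAct.exists_chiefFactor_above (Z := ⊥) (bot_lt_iff_ne_bot.2 hbot : ⊥ < U)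
    haveI := hUV'.2.2.1
    have habU : ⁅U, U⁆ = ⊥ := Subgroup.commutator_eq_bot_iff_le_centralizer.2
      fun u hu v hv => hV₀ab v (hUV hv) u (hUV hu)
    obtain ⟨z, hzU, hz, hzV⟩ := exists_central_congr (V := V) habU
      (fun a ha => OrbitFix.pow_mem_of_chief hUV' habU (hV₀p.to_le hUV) ha) hEp hE
      (fun A hA => hA.2.1.2.1)
      (fun A hA u hu a ha b hb => by
        have h : ⁅⁅u, b⁆, a⁆ ∈ ⁅⁅V₀, A⁆, A⁆ :=
          Subgroup.commutator_mem_commutator (Subgroup.commutator_mem_commutator (hUV hu) hb) ha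
        rw [hA.2.1.2.2.2.1, Subgroup.mem_bot] at h
        rw [h]; exact one_mem _)
      (fun A hA c hc u hu hub a ha => by
        set B := (MulAction.stabilizer ↥A c).map A.subtype with hB
        have hidx : B.relIndex A = 2 := by
          rw [Subgroup.relIndex, hB, Subgroup.subgroupOf,
            Subgroup.comap_map_eq_self_of_injective A.subtype_injective]
          exact hc
        have hCB : A ⊓ C ≤ B := by
          intro t ht
          obtain ⟨htA, htC⟩ := Subgroup.mem_inf.1 ht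
          refine ⟨⟨t, htA⟩, MulAction.mem_stabilizer_iff.2 ?_, rfl⟩
          induction c using QuotientGroup.induction_on with
          | _ k =>
            show t • (QuotientGroup.mk k : G ⧸ M) = QuotientGroup.mk k
            rw [MulAction.Quotient.smul_mk, smul_eq_mul, QuotientGroup.eq]
            refine hCM ?_
            have := Subgroup.Normal.conj_mem (inferInstance : C.Normal) _ (inv_mem htC) k⁻¹
            simpa [mul_assoc] using this
        have h := fixed_of_minimal hS4 hV₀ab hO2 hA.2.1 hA.2.2 (Subgroup.map_subtype_le _) hidx hCB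
          (hUV hu) (Subgroup.mem_centralizer_iff.2 (by
            rintro _ ⟨b, hb, rfl⟩
            exact mul_inv_eq_iff_eq_mul.1 (hub b hb)))
        exact mul_inv_eq_iff_eq_mul.2 (Subgroup.mem_centralizer_iff.1 h a ha))
      (hES.trans hxS) hmove hy (fun m hm => Functors.mem_centralizer_singleton.1 (hyM.ge hm))
    refine ih _ ?_ V rfl hUV'.2.2.1 (hUV'.1.le.trans hUV) _ hzV ?_
    · exact lt_of_le_of_ne (Subgroup.card_le_of_le hUV'.1.le) fun e =>
        hUV'.1.ne (Subgroup.eq_of_le_of_card_ge hUV'.1.le e.ge)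
    · rw [← hyM]
      ext a
      rw [Functors.mem_centralizer_singleton, Functors.mem_centralizer_singleton,
        show a * (y⁻¹ * z) * a⁻¹ = (a * y * a⁻¹)⁻¹ * (a * z * a⁻¹) by group, hz a,
        mul_left_inj, inv_inj]

theorem locCentral_J {H : Type u} [Group H] [Finite H]
    (hS4 : ¬ Involves (Equiv.Perm (Fin 4)) H) :
    Functors.LocCentral 2 (fun P : Subgroup H => jSub 2 False P) := by
  intro K T hT hns S hS x hx hxS hmax
  refine central_of_J (fun h => hS4 (SFourFree.involves_mono K.subtype K.subtype_injective h)) S ?_ hx hxS hmax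
  rw [hS]
  exact JQuad.not_normal_subgroupOf hT.le hns

end Cfsg.Agent.Offender2
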