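import Cfsg.Agent.Lib.Functors.SectionInduction
import Cfsg.Prelude.Def_LocalEven

/-!
Reading the section theorems in the form "for all `K`, `R`".
-/

set_option autoImplicit false
set_option linter.style.haveILetI false
set_option linter.unusedSectionVars false

namespace Cfsg.Agent.Functors

open Cfsg

universe u

variable {p : ℕ} [Fact p.Prime]

theorem map_centralizer_mulEquiv {X Y : Type u} [Group X] [Group Y] (e : X ≃* Y) (H : Subgroup X) :
    (Subgroup.centralizer (H : Set X)).map e.toMonoidHom =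
      Subgroup.centralizer (H.map e.toMonoidHom : Set Y) := by
  ext y
  obtain ⟨x, rfl⟩ := e.surjective y
  constructor
  · rintro ⟨z, hz, hzx⟩
    obtain rfl : z = x := e.injective hzx
    rw [Subgroup.mem_centralizer_iff]
    rintro _ ⟨h, hh, rfl⟩
    exact (map_mul e h z).symm.trans ((congrArg e (Subgroup.mem_centralizer_iff.1 hz h hh)).trans (map_mul e z h))
  · intro hx
    refine ⟨x, Subgroup.mem_centralizer_iff.2 fun h hh => e.injective ?_, rfl⟩
    rw [map_mul, map_mul]
    exact Subgroup.mem_centralizer_iff.1 hx _ ⟨h, hh, rfl⟩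

theorem pConstr_congr {X Y : Type u} [Group X] [Group Y] (e : X ≃* Y) (h : PConstr p Y) :
    PConstr p X := by
  have h' : (Subgroup.centralizer ((pCore p X : Subgroup X) : Set X)).map e.toMonoidHom ≤
      (pCore p X).map e.toMonoidHom := by
    rw [map_centralizer_mulEquiv, PBasic.map_pCore_equiv e]
    exact h
  exact (Subgroup.map_le_map_iff_of_injective e.injective).1 h'

variable {G : Type u} [Group G] [Finite G]

theorem isSectionOf_trans (K R : Subgroup G) [(R.subgroupOf K).Normal] {Z : Type u} [Group Z]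
    (h : IsSectionOf (↥K ⧸ R.subgroupOf K) Z) : IsSectionOf G Z :=
  (IsSectionOf.of_surjective (QuotientGroup.mk'_surjective _) h).of_subgroup

/-- Hypotheses on the constrained sections `K/R` are hypotheses on constrained sections. -/
theorem forall_constr_section (P : ∀ (Y : Type u) [Group Y] [Finite Y], Prop)
    (hcongr : ∀ (X Y : Type u) [Group X] [Group Y] [Finite X] [Finite Y], X ≃* Y → P X → P Y)
    (hloc : ∀ (K R : Subgroup G) [(R.subgroupOf K).Normal],
      PConstr p (↥K ⧸ R.subgroupOf K) → P (↥K ⧸ R.subgroupOf K)) :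
    ∀ (Y : Type u) [Group Y] [Finite Y], IsSectionOf G Y → PConstr p Y → P Y := by
  intro Y _ _ hY hC
  obtain ⟨K, R, hR, ⟨e⟩⟩ := hY.exists_equiv
  exact hcongr _ _ e (hloc K R (pConstr_congr e hC))

theorem exists_of_sfAt_singleton {W : Subgroup G → Subgroup G} {H T : Subgroup G}
    (h : SFAt {W} H T) {A : Set G} {g : G} (hg : g ∈ H) (hA : A ⊆ T)
    (hgA : (fun a => g * a * g⁻¹) '' A ⊆ T) :
    ∃ x ∈ H ⊓ Subgroup.normalizer ((W T : Subgroup G) : Set G), ∀ a ∈ A, x * a * x⁻¹ = g * a * g⁻¹ := by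
  obtain ⟨n, c, hc0, hstep, -, hlast⟩ := h A g hg hA hgA
  have key : ∀ i : Fin (n + 1), c i ∈ H ⊓ Subgroup.normalizer ((W T : Subgroup G) : Set G) := by
    intro i
    induction i using Fin.induction with
    | zero => rw [hc0]; exact one_mem _
    | succ i ih =>
      obtain ⟨W', hW', hm⟩ := hstep i
      rw [Set.mem_singleton_iff.1 hW'] at hm
      simpa using mul_mem hm ih
  exact ⟨_, key _, hlast⟩

theorem indSet_singleton (W : ∀ (Q : Type u) [Group Q], Subgroup Q) :
    indSet G {W} = {inducedFunctor (G := G) W} := Set.image_singleton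

/-- A functor controlling fusion gives `ControlsStrongFusion` at every Sylow subgroup. -/
theorem controlsStrongFusion_of_ctl {W : ∀ (Q : Type u) [Group Q], Subgroup Q}
    (hW : IsCharPFunctor.{u} p W) (h : CtlSF p {W} G) (T : Sylow p G) :
    Cfsg.ControlsStrongFusion p (inducedFunctor (G := G) W (T : Subgroup G)) := by
  have h' := sfAt_top_of_ctl (by simpa using hW) T h
  rw [indSet_singleton] at h'
  refine ⟨T, Subgroup.map_subtype_le _, fun A hA => ⟨hA, fun g hg => ?_⟩⟩
  obtain ⟨x, hx, hxa⟩ := exists_of_sfAt_singleton h' (Subgroup.mem_top g) hA hg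
  exact ⟨x, (Subgroup.mem_inf.1 hx).2, fun a ha => (hxa a ha).symm⟩

/-- The factorization criterion. -/
theorem ctlSF_pair_of_factorization {W₁ W₂ : ∀ (Q : Type u) [Group Q], Subgroup Q}
    (hW₁ : IsCharPFunctor.{u} p W₁) (hW₂ : IsCharPFunctor.{u} p W₂) (S : Sylow p G)
    (h : ∀ x : G, ∃ a ∈ Subgroup.normalizer ((inducedFunctor W₁ (S : Subgroup G) : Subgroup G) : Set G),
      ∃ b ∈ Subgroup.normalizer ((inducedFunctor W₂ (S : Subgroup G) : Subgroup G) : Set G), x = a * b) :
    CtlSF p {W₁, W₂} G := by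
  refine familySF_top_of_reach (S := S) fun A g hA hgA => ?_
  have hBS : Subgroup.closure A ≤ (S : Subgroup G) := (Subgroup.closure_le _).2 hA
  have hgB : (Subgroup.closure A).map (cj g) ≤ (S : Subgroup G) := by
    rw [MonoidHom.map_closure, Subgroup.closure_le]; exact hgA
  obtain ⟨m, hm, l, hl, rfl⟩ := h g
  obtain ⟨m', hm', l', hl', he, hle⟩ := conj_le_intermediate S
    (le_normalizer_conjFunctor (inducedFunctor_isConjugacyFunctor hW₁) S.isPGroup')
    (le_normalizer_conjFunctor (inducedFunctor_isConjugacyFunctor hW₂) S.isPGroup') hBS hm hl hgB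
  rw [he] at hgB ⊢
  refine Reach.mono ?_ Subgroup.subset_closure
  refine (Reach.single (𝒩 := stepSet {W₁, W₂} (S : Subgroup G)) (A := ((Subgroup.closure A : Subgroup G) : Set G)) hBS
    ⟨_, ⟨_, ⟨W₂, Set.mem_insert_of_mem _ rfl, rfl⟩, rfl⟩, hl'⟩ (by rw [cj_image_coe]; exact hle)).trans ?_
  rw [cj_image_coe]
  exact Reach.single hle ⟨_, ⟨_, ⟨W₁, Set.mem_insert _ _, rfl⟩, rfl⟩, hm'⟩
    (by rw [cj_image_coe, map_map_cj]; exact hgB)

theorem map_transferPart_le {X Y : Type u} [Group X] [Group Y] [Finite X]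
    {𝓦 : Set (∀ (Q : Type u) [Group Q], Subgroup Q)} (h𝓦 : ∀ W ∈ 𝓦, IsCharPFunctor.{u} p W)
    (e : X ≃* Y) {T : Subgroup X} (hT : IsPGroup p ↥T) :
    (transferPart (indSet X 𝓦) ⊤ T).map e.toMonoidHom ≤
      transferPart (indSet Y 𝓦) ⊤ (T.map e.toMonoidHom) := by
  rw [transferPart, Subgroup.map_iSup]
  refine iSup_le fun W' => ?_
  rw [Subgroup.map_iSup]
  refine iSup_le ?_
  rintro ⟨W, hW, rfl⟩
  refine le_iSup₂_of_le (inducedFunctor (G := Y) W) ⟨W, hW, rfl⟩ ?_
  have hle : (⊤ ⊓ Subgroup.normalizer ((inducedFunctor W T : Subgroup X) : Set X)).map e.toMonoidHom ≤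
      ⊤ ⊓ Subgroup.normalizer ((inducedFunctor W (T.map e.toMonoidHom) : Subgroup Y) : Set Y) := by
    refine le_inf le_top ?_
    rw [inducedFunctor_map_of_injective (h𝓦 W hW) hT e.injective]
    exact (Subgroup.map_mono inf_le_right).trans (Subgroup.le_normalizer_map _)
  rw [Subgroup.map_inf _ _ e.toMonoidHom e.injective, Subgroup.map_commutator]
  exact inf_le_inf_left _ (Subgroup.commutator_mono hle hle)

theorem weakTR_congr {X Y : Type u} [Group X] [Group Y] [Finite X] [Finite Y]
    {𝓦 : Set (∀ (Q : Type u) [Group Q], Subgroup Q)} (h𝓦 : ∀ W ∈ 𝓦, IsCharPFunctor.{u} p W) (e : X ≃* Y)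
    (h : ∀ S : Sylow p X, pCore p X ⊓ commutator X ≤ transferPart (indSet X 𝓦) ⊤ (S : Subgroup X))
    (S : Sylow p Y) : pCore p Y ⊓ commutator Y ≤ transferPart (indSet Y 𝓦) ⊤ (S : Subgroup Y) := by
  set S' : Sylow p X := S.mapSurjective (f := e.symm.toMonoidHom) e.symm.surjective with hS'
  have he : (S' : Subgroup X).map e.toMonoidHom = (S : Subgroup Y) := by
    rw [show (S' : Subgroup X) = (S : Subgroup Y).map e.symm.toMonoidHom from rfl, Subgroup.map_map]
    convert Subgroup.map_id _
    ext; simp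
  have h' := (Subgroup.map_mono (f := e.toMonoidHom) (h S')).trans (map_transferPart_le h𝓦 e S'.isPGroup')
  rw [he, Subgroup.map_inf _ _ e.toMonoidHom e.injective, PBasic.map_pCore_equiv e, commutator_def,
    Subgroup.map_commutator, Subgroup.map_top_of_surjective _ e.surjective, ← commutator_def] at h'
  exact h'

end Cfsg.Agent.Functors
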