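import Cfsg.Agent.Lib.Functors.OrbitFix
import Cfsg.Agent.Lib.Functors.KInfCubic
import Cfsg.Agent.Lib.Transfer.Basic

/-!
Groups that are `p`-by-(abelian)-by-`p`: an element with `(g - 1)^(p-1) = 0` on a chief factor inside
a normal `p`-subgroup centralizes it, and such groups are `p`-stable for odd `p`.
-/

set_option autoImplicit false
set_option linter.style.haveILetI false
set_option linter.unusedSectionVars false

namespace Cfsg.Agent.AbelTop

open Cfsg Cfsg.Agent.ChiefAct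
open scoped commutatorElement

universe u

variable {p : ℕ} [hp : Fact p.Prime]

theorem eq_one_of_pow_prime {Q : Type*} [Group Q] [Finite Q] (hQ : ¬ p ∣ Nat.card Q) {r : Q}
    (h : r ^ p = 1) : r = 1 := by
  rcases (Nat.dvd_prime hp.out).1 (orderOf_dvd_of_pow_eq_one h) with e | e
  · exact orderOf_eq_one_iff.1 e
  · exact absurd (e ▸ orderOf_dvd_natCard r) hQ

/-- An abelian `p'`-group normalized by `σ` with `1 + σ + ⋯ + σ^(p-1) = 0` commutes with `σ` on the module. -/
theorem commutator_acts_trivially {A : Type*} [AddCommGroup A] (hexp : ∀ a : A, p • a = 0)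
    {H : Type*} [Group H] [Finite H] (ρ : H → A →+ A) (hone : ∀ a, ρ 1 a = a)
    (hmul : ∀ g h a, ρ (g * h) a = ρ g (ρ h a)) {Q : Subgroup H}
    (hQc : ∀ a ∈ Q, ∀ b ∈ Q, a * b = b * a) (hQp : ¬ p ∣ Nat.card ↥Q) {σ : H}
    (hσn : σ ∈ Subgroup.normalizer (Q : Set H)) (hσp : σ ^ p = 1)
    (hkill : ∀ a, ∑ i ∈ Finset.range p, ρ (σ ^ i) a = 0) :
    ∀ q ∈ Q, ∀ v, ρ (σ * q * σ⁻¹ * q⁻¹) v = v := by
  classical
  have hmem : ∀ q ∈ Q, σ * q * σ⁻¹ ∈ Q := fun q hq => (Subgroup.mem_normalizer_iff.1 hσn q).1 hq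
  let φ : H → H := fun q => σ * q * σ⁻¹ * q⁻¹
  have hφmem : ∀ q ∈ Q, φ q ∈ Q := fun q hq => mul_mem (hmem q hq) (inv_mem hq)
  have hφmul : ∀ a ∈ Q, ∀ b ∈ Q, φ (a * b) = φ a * φ b := by
    intro a ha b hb
    calc φ (a * b) = (σ * a * σ⁻¹) * φ b * a⁻¹ := by simp only [φ]; group
      _ = (σ * a * σ⁻¹) * (φ b * a⁻¹) := by rw [mul_assoc]
      _ = (σ * a * σ⁻¹) * (a⁻¹ * φ b) := by rw [hQc _ (hφmem b hb) _ (inv_mem ha)]
      _ = φ a * φ b := by simp only [φ]; group
  let R : Subgroup H :=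
    { carrier := {r | ∃ a ∈ Q, φ a = r}
      one_mem' := ⟨1, one_mem _, by simp [φ]⟩
      mul_mem' := by
        rintro _ _ ⟨a, ha, rfl⟩ ⟨b, hb, rfl⟩
        exact ⟨a * b, mul_mem ha hb, hφmul a ha b hb⟩
      inv_mem' := by
        rintro _ ⟨a, ha, rfl⟩
        refine ⟨a⁻¹, inv_mem ha, eq_inv_of_mul_eq_one_left ?_⟩
        rw [← hφmul _ (inv_mem ha) _ ha, inv_mul_cancel]
        simp [φ] }
  have hRQ : R ≤ Q := by rintro _ ⟨a, ha, rfl⟩; exact hφmem a ha
  have hRσ : ∀ (i : ℕ), ∀ r ∈ R, σ ^ i * r * (σ ^ i)⁻¹ ∈ R := by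
    intro i
    induction i with
    | zero => intro r hr; simpa using hr
    | succ i ih =>
      intro r hr
      obtain ⟨a, ha, hae⟩ := ih r hr
      refine ⟨σ * a * σ⁻¹, hmem a ha, ?_⟩
      calc φ (σ * a * σ⁻¹) = σ * φ a * σ⁻¹ := by simp only [φ]; group
        _ = _ := by rw [hae, pow_succ']; group
  have hfpf : ∀ i : ℕ, 0 < i → i < p → ∀ r ∈ R, σ ^ i * r * (σ ^ i)⁻¹ = r → r = 1 := by
    intro i hi0 hip r hr h
    have hc : Commute (σ ^ i) r := mul_inv_eq_iff_eq_mul.1 h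
    obtain ⟨j, hj⟩ := exists_pow_eq_self_of_coprime (n := i) (x := σ) (by
      refine Nat.Coprime.coprime_dvd_right (orderOf_dvd_of_pow_eq_one hσp) ?_
      exact Nat.coprime_comm.1 ((hp.out.coprime_iff_not_dvd).2 (Nat.not_dvd_of_pos_of_lt hi0 hip)))
    have hc' : Commute σ r := by rw [← hj]; exact hc.pow_left j
    obtain ⟨a, ha, rfl⟩ := hr
    have hiter : ∀ n : ℕ, σ ^ n * a * (σ ^ n)⁻¹ = φ a ^ n * a := by
      intro n
      induction n with
      | zero => simp
      | succ n ih =>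
        calc σ ^ (n + 1) * a * (σ ^ (n + 1))⁻¹ = σ * (σ ^ n * a * (σ ^ n)⁻¹) * σ⁻¹ := by
              rw [pow_succ']; group
          _ = (σ * φ a ^ n * σ⁻¹) * (σ * a * σ⁻¹) := by rw [ih]; group
          _ = φ a ^ (n + 1) * a := by
              rw [(hc'.pow_right n).eq, mul_inv_cancel_right, show σ * a * σ⁻¹ = φ a * a by simp [φ],
                pow_succ, mul_assoc (φ a ^ n) (φ a) a]
    have h1 := hiter p
    rw [hσp, one_mul, inv_one, mul_one] at h1
    have h2 : φ a ^ p = 1 := by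
      have := congrArg (· * a⁻¹) h1
      simpa using this.symm
    have h3 := eq_one_of_pow_prime hQp (r := (⟨φ a, hφmem a ha⟩ : ↥Q)) (Subtype.ext h2)
    exact congrArg Subtype.val h3
  intro q hq
  have hb : φ q ∈ R := ⟨q, hq, rfl⟩
  intro v
  haveI : Fintype ↥R := Fintype.ofFinite _
  set b : ↥R := ⟨φ q, hb⟩ with hbdef
  set N : A → A := fun w => ∑ r : ↥R, ρ (r : H) w with hN
  have habs : ∀ w, ρ (b : H) (N w) = N w := by
    intro w
    rw [hN]
    simp only [map_sum]
    refine Fintype.sum_equiv (Equiv.mulLeft b) _ _ fun r => ?_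
    rw [Equiv.coe_mulLeft, Subgroup.coe_mul]
    exact (hmul _ _ _).symm
  have hterm : ∀ i ∈ Finset.range p, i ≠ 0 →
      ∑ r : ↥R, ρ (r : H) (ρ (σ ^ i) (ρ ((r : H)⁻¹) v)) = N (ρ (σ ^ i) v) := by
    intro i hi hi0
    have hip := Finset.mem_range.1 hi
    let e : ↥R → ↥R := fun r => ⟨(r : H) * (σ ^ i * (r : H)⁻¹ * (σ ^ i)⁻¹),
      mul_mem r.2 (hRσ i _ (inv_mem r.2))⟩
    have hinj : Function.Injective e := by
      intro a c hac
      have h1 : (a : H) * (σ ^ i * (a : H)⁻¹ * (σ ^ i)⁻¹) = (c : H) * (σ ^ i * (c : H)⁻¹ * (σ ^ i)⁻¹) :=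
        congrArg Subtype.val hac
      have h2 := hfpf i (Nat.pos_of_ne_zero hi0) hip ((c : H)⁻¹ * a) (mul_mem (inv_mem c.2) a.2) (by
        calc σ ^ i * ((c : H)⁻¹ * a) * (σ ^ i)⁻¹
            = (σ ^ i * (c : H)⁻¹ * (σ ^ i)⁻¹) * (σ ^ i * (a : H) * (σ ^ i)⁻¹) := by group
          _ = (c : H)⁻¹ * ((c : H) * (σ ^ i * (c : H)⁻¹ * (σ ^ i)⁻¹)) * (σ ^ i * (a : H) * (σ ^ i)⁻¹) := by group
          _ = (c : H)⁻¹ * a := by rw [← h1]; group)
      exact Subtype.ext (inv_mul_eq_one.1 h2).symm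
    refine Fintype.sum_equiv (Equiv.ofBijective e (Finite.injective_iff_bijective.1 hinj)) _ _ fun r => ?_
    rw [Equiv.ofBijective_apply, ← hmul, ← hmul, ← hmul]
    congr 1
    simp only [e]
    group
  have h0 : ∑ r : ↥R, ρ (r : H) (∑ i ∈ Finset.range p, ρ (σ ^ i) (ρ ((r : H)⁻¹) v)) = 0 := by
    simp [hkill]
  simp only [map_sum] at h0
  rw [Finset.sum_comm, ← Finset.add_sum_erase _ _ (Finset.mem_range.2 hp.out.pos),
    Finset.sum_congr rfl (fun i hi => hterm i (Finset.mem_of_mem_erase hi) (Finset.ne_of_mem_erase hi))] at h0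
  have hfirst : ∑ r : ↥R, ρ (r : H) (ρ (σ ^ 0) (ρ ((r : H)⁻¹) v)) = Nat.card ↥R • v := by
    rw [Nat.card_eq_fintype_card, ← Finset.card_univ]
    refine (Finset.sum_congr rfl fun r _ => ?_).trans (Finset.sum_const v)
    rw [pow_zero, hone, ← hmul, mul_inv_cancel, hone]
  rw [hfirst] at h0
  have h1 := congrArg (ρ (b : H)) h0
  rw [map_add, map_nsmul, map_zero, map_sum, Finset.sum_congr rfl (fun i _ => habs _), ← h0,
    add_left_inj] at h1
  have hcard : (Nat.card ↥R).Coprime p := by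
    rw [Nat.coprime_comm, hp.out.coprime_iff_not_dvd]
    exact fun h => hQp (h.trans (Subgroup.card_dvd_of_le hRQ))
  have h2 : Nat.card ↥R • (ρ (b : H) v - v) = 0 := by rw [nsmul_sub, h1, sub_self]
  have h3 : addOrderOf (ρ (b : H) v - v) ∣ Nat.gcd (Nat.card ↥R) p :=
    Nat.dvd_gcd (addOrderOf_dvd_of_nsmul_eq_zero h2) (addOrderOf_dvd_of_nsmul_eq_zero (hexp _))
  rw [hcard.gcd_eq_one, Nat.dvd_one, AddMonoid.addOrderOf_eq_one_iff] at h3
  exact sub_eq_zero.1 h3

/-- From `(1 - f)^(p-1) = 0`: `f^p = 1` and the sum of the powers vanishes. -/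
theorem iterate_facts {A : Type*} [AddCommGroup A] [Module (ZMod p) A] (f : A →+ A)
    (h : ∀ a, (fun b => b - f b)^[p - 1] a = 0) :
    (∀ a, f^[p] a = a) ∧ ∀ a, ∑ i ∈ Finset.range p, f^[i] a = 0 := by
  set σ : Module.End (ZMod p) A := f.toZModLinearMap p with hσ
  have hd : (1 - σ) ^ (p - 1) = 0 := LinearMap.ext fun a => by
    rw [Module.End.coe_pow, LinearMap.zero_apply]; exact h a
  have hs : ∑ i ∈ Finset.range p, σ ^ i = 0 := by
    rw [OrbitZero.sum_pow_eq_neg_one_pow_mul σ, hd, mul_zero]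
  have hsum : ∀ a, ∑ i ∈ Finset.range p, f^[i] a = 0 := fun a => by
    have h1 := LinearMap.congr_fun hs a
    rw [LinearMap.sum_apply, LinearMap.zero_apply] at h1
    refine Eq.trans (Finset.sum_congr rfl fun i _ => ?_) h1
    rw [Module.End.coe_pow]
    rfl
  refine ⟨fun a => ?_, hsum⟩
  have h1 := geom_sum_mul σ p
  rw [hs, zero_mul, eq_comm, sub_eq_zero] at h1
  have h2 := LinearMap.congr_fun h1 a
  rw [Module.End.coe_pow, Module.End.one_apply] at h2
  exact h2

theorem iterate_facts' {A : Type*} [AddCommGroup A] (hexp : ∀ a : A, p • a = 0) (f : A →+ A)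
    (h : ∀ a, (fun b => b - f b)^[p - 1] a = 0) :
    (∀ a, f^[p] a = a) ∧ ∀ a, ∑ i ∈ Finset.range p, f^[i] a = 0 :=
  @iterate_facts p _ A _ (AddCommGroup.zmodModule hexp) f h

/-- `p`-by-abelian-by-`p`. -/
def IsAbelTop (p : ℕ) (Z : Type u) [Group Z] : Prop :=
  ∃ K : Subgroup Z, K.Normal ∧ IsPGroup p ↥⁅K, K⁆ ∧ ∀ x : Z, ∃ k : ℕ, x ^ p ^ k ∈ K

theorem IsAbelTop.of_injective {Z Y : Type u} [Group Z] [Group Y] {f : Y →* Z} (hf : Function.Injective f)
    (h : IsAbelTop p Z) : IsAbelTop p Y := by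
  obtain ⟨K, hKn, hKp, hpow⟩ := h
  refine ⟨K.comap f, hKn.comap f, ?_, fun x => ?_⟩
  · refine (hKp.comap_of_injective f hf).to_le (Subgroup.map_le_iff_le_comap.1 ?_)
    rw [Subgroup.map_commutator]
    exact Subgroup.commutator_mono (Subgroup.map_comap_le _ _) (Subgroup.map_comap_le _ _)
  · obtain ⟨k, hk⟩ := hpow (f x)
    exact ⟨k, by rw [Subgroup.mem_comap, map_pow]; exact hk⟩

theorem IsAbelTop.of_surjective {Z Y : Type u} [Group Z] [Group Y] {f : Z →* Y} (hf : Function.Surjective f)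
    (h : IsAbelTop p Z) : IsAbelTop p Y := by
  obtain ⟨K, hKn, hKp, hpow⟩ := h
  refine ⟨K.map f, hKn.map f hf, ?_, fun y => ?_⟩
  · rw [← Subgroup.map_commutator]; exact hKp.map f
  · obtain ⟨x, rfl⟩ := hf y
    obtain ⟨k, hk⟩ := hpow x
    exact ⟨k, ⟨_, hk, map_pow f x _⟩⟩

/-- `p`-th powers cannot generate a `p`-group modulo a subgroup containing the commutators. -/
theorem pow_closure_le {Z : Type u} [Group Z] [Finite Z] {U V : Subgroup Z} [U.Normal] [V.Normal]
    (hU : IsPGroup p ↥U) (hab : ⁅U, U⁆ ≤ V) (hVU : V ≤ U)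
    (h : U ≤ Subgroup.normalClosure ((fun u : Z => u ^ p) '' (U : Set Z)) ⊔ V) : U ≤ V := by
  set π := QuotientGroup.mk' V with hπ
  have hπV : ∀ x : Z, π x = 1 ↔ x ∈ V := fun x => QuotientGroup.eq_one_iff x
  -- every element of `U` is a `p`-th power modulo `V`
  let P : Subgroup Z :=
    { carrier := {y | y ∈ U ∧ ∃ u ∈ U, π y = π u ^ p}
      one_mem' := ⟨one_mem _, 1, one_mem _, by simp⟩
      mul_mem' := by
        rintro a b ⟨ha, u, hu, hau⟩ ⟨hb, v, hv, hbv⟩
        refine ⟨mul_mem ha hb, u * v, mul_mem hu hv, ?_⟩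
        have hc : Commute (π u) (π v) := by
          rw [← commutatorElement_eq_one_iff_commute, ← map_commutatorElement, hπV]
          exact hab (Subgroup.commutator_mem_commutator hu hv)
        rw [map_mul, map_mul, hau, hbv, hc.mul_pow]
      inv_mem' := by
        rintro a ⟨ha, u, hu, hau⟩
        exact ⟨inv_mem ha, u⁻¹, inv_mem hu, by rw [map_inv, map_inv, hau, inv_pow]⟩ }
  have hUP : U ≤ P := by
    refine h.trans (sup_le ?_ fun v hv => ⟨hVU hv, 1, one_mem _, by
      rw [(hπV v).2 hv, map_one, one_pow]⟩)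
    haveI : P.Normal := ⟨fun a ha z => ⟨(inferInstance : U.Normal).conj_mem a ha.1 z, by
      obtain ⟨-, u, hu, hau⟩ := ha
      exact ⟨z * u * z⁻¹, (inferInstance : U.Normal).conj_mem u hu z, by
        rw [map_mul, map_mul, map_mul, map_mul, map_inv, conj_pow, hau]⟩⟩⟩
    exact Subgroup.normalClosure_le_normal (by
      rintro _ ⟨u, hu, rfl⟩
      exact ⟨pow_mem hu p, u, hu, map_pow π u p⟩)
  intro x hx
  -- iterate
  have hit : ∀ k : ℕ, ∃ u ∈ U, π x = π u ^ p ^ k := by
    intro k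
    induction k with
    | zero => exact ⟨x, hx, by simp⟩
    | succ k ih =>
      obtain ⟨u, hu, hxu⟩ := ih
      obtain ⟨-, v, hv, huv⟩ := hUP hu
      exact ⟨v, hv, by rw [hxu, huv, ← pow_mul, ← pow_succ']⟩
  obtain ⟨n, hn⟩ := hU.exists_card_eq
  obtain ⟨u, hu, hxu⟩ := hit n
  have h1 : (⟨u, hu⟩ : ↥U) ^ p ^ n = 1 := by rw [← hn]; exact pow_card_eq_one'
  have h2 : u ^ p ^ n = 1 := congrArg Subtype.val h1
  rw [← hπV, hxu, ← map_pow, h2, map_one]

/-- The key property. -/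
theorem commutator_le_of_kills {Z : Type u} [Group Z] [Finite Z] (hZ : IsAbelTop p Z)
    {U V A : Subgroup Z} [hA : A.Normal] (hAp : IsPGroup p ↥A) (hUV : IsChiefFactor U V) (hUA : U ≤ A)
    {g : Z} (hg : iterCommutator U (Subgroup.zpowers g) (p - 1) ≤ V) :
    ⁅U, Subgroup.zpowers g⁆ ≤ V := by
  classical
  obtain ⟨K, hKn, hKp, hpow⟩ := hZ
  haveI := hUV.2.1
  haveI := hUV.2.2.1
  set C := modCent U V with hC
  suffices hgC : g ∈ C from commutator_zpowers_le_iff.2 fun u hu => hgC u hu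
  -- no normal `p`-subgroups modulo `C`
  have noP : ∀ N : Subgroup Z, N.Normal → (∀ x ∈ N, ∃ k : ℕ, x ^ p ^ k ∈ C) → N ≤ C := by
    intro N hN hNpow
    set π := QuotientGroup.mk' V with hπ
    have hπs : Function.Surjective π := QuotientGroup.mk'_surjective V
    have hker : π.ker = V := QuotientGroup.ker_mk' V
    have hch : IsChiefFactor (U.map π) ⊥ := by
      refine ⟨bot_lt_iff_ne_bot.2 fun e => hUV.1.not_ge ?_, hUV.2.1.map π hπs, inferInstance, fun N hN _ hNU => ?_⟩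
      · rwa [Subgroup.map_eq_bot_iff, hker] at e
      · rcases hUV.2.2.2 (N.comap π) (hN.comap π) (le_of_eq_of_le hker.symm (Subgroup.ker_le_comap π N))
          (by
            refine (Subgroup.comap_mono hNU).trans ?_
            rw [Subgroup.comap_map_eq, hker]
            exact sup_le le_rfl hUV.1.le) with e | e
        · left; rw [← Subgroup.map_comap_eq_self_of_surjective hπs N, e, Subgroup.map_eq_bot_iff, hker]
        · right; rw [← Subgroup.map_comap_eq_self_of_surjective hπs N, e]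
    have hcen : ∀ x : Z, π x ∈ Subgroup.centralizer (U.map π : Set (Z ⧸ V)) ↔ x ∈ C := by
      intro x
      rw [hC, mem_modCent, Subgroup.mem_centralizer_iff]
      constructor
      · intro h u hu
        rw [← QuotientGroup.eq_one_iff, ← QuotientGroup.mk'_apply, map_commutatorElement,
          commutatorElement_eq_one_iff_mul_comm]
        exact h _ ⟨u, hu, rfl⟩
      · rintro h _ ⟨u, hu, rfl⟩
        rw [← commutatorElement_eq_one_iff_mul_comm, ← map_commutatorElement]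
        exact (QuotientGroup.eq_one_iff _).2 (h u hu)
    haveI := hN.map π hπs
    have hle := le_centralizer_of_pow (R := N.map π) hch ((hAp.to_le hUA).map π) (by
      rintro _ ⟨x, hx, rfl⟩
      obtain ⟨k, hk⟩ := hNpow x hx
      exact ⟨k, by rw [← map_pow]; exact (hcen _).2 hk⟩)
    exact fun x hx => (hcen x).1 (hle ⟨x, hx, rfl⟩)
  set π := QuotientGroup.mk' C with hπ
  have hπs : Function.Surjective π := QuotientGroup.mk'_surjective C
  have hπC : ∀ x : Z, π x = 1 ↔ x ∈ C := fun x => QuotientGroup.eq_one_iff x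
  set Q := K.map π with hQ
  have hKK : ⁅K, K⁆ ≤ C := noP _ inferInstance fun x hx => by
    obtain ⟨k, hk⟩ := hKp ⟨x, hx⟩
    exact ⟨k, by rw [show x ^ p ^ k = 1 from congrArg Subtype.val hk]; exact one_mem _⟩
  have hQc : ∀ a ∈ Q, ∀ b ∈ Q, a * b = b * a := by
    rintro _ ⟨a, ha, rfl⟩ _ ⟨b, hb, rfl⟩
    rw [← commutatorElement_eq_one_iff_mul_comm, ← map_commutatorElement, hπC]
    exact hKK (Subgroup.commutator_mem_commutator ha hb)
  let K₀ : Subgroup Z :=
    { carrier := {x | x ∈ K ∧ ∃ k : ℕ, π x ^ p ^ k = 1}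
      one_mem' := ⟨one_mem _, 0, by simp⟩
      mul_mem' := by
        rintro a b ⟨ha, k, hk⟩ ⟨hb, l, hl⟩
        refine ⟨mul_mem ha hb, k + l, ?_⟩
        rw [map_mul, (show Commute (π a) (π b) from hQc _ ⟨a, ha, rfl⟩ _ ⟨b, hb, rfl⟩).mul_pow,
          pow_add, pow_mul, hk, one_pow, mul_comm (p ^ k), pow_mul, hl, one_pow, one_mul]
      inv_mem' := by
        rintro a ⟨ha, k, hk⟩
        exact ⟨inv_mem ha, k, by rw [map_inv, inv_pow, hk, inv_one]⟩ }
  have hK₀n : K₀.Normal := ⟨fun a ha z => ⟨hKn.conj_mem a ha.1 z, by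
    obtain ⟨-, k, hk⟩ := ha
    exact ⟨k, by rw [map_mul, map_mul, map_inv, conj_pow, hk, mul_one, mul_inv_cancel]⟩⟩⟩
  have hK₀C : K₀ ≤ C := noP _ hK₀n fun x hx => by
    obtain ⟨-, k, hk⟩ := hx
    exact ⟨k, (hπC _).1 (by rw [map_pow]; exact hk)⟩
  have hQp : ¬ p ∣ Nat.card ↥Q := by
    intro hd
    obtain ⟨⟨_, x, hx, rfl⟩, hord⟩ := exists_prime_orderOf_dvd_card' p hd
    have h1 : π x ^ p ^ 1 = 1 := by
      rw [pow_one]
      have := pow_orderOf_eq_one (⟨π x, x, hx, rfl⟩ : ↥Q)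
      rw [hord] at this
      exact congrArg Subtype.val this
    have h2 : (⟨π x, x, hx, rfl⟩ : ↥Q) = 1 := Subtype.ext ((hπC x).2 (hK₀C ⟨hx, 1, h1⟩))
    rw [h2, orderOf_one] at hord
    exact hp.out.ne_one hord.symm
  -- the module
  have hUp : IsPGroup p ↥U := hAp.to_le hUA
  have hab : ⁅U, U⁆ ≤ V := commutator_self_le_of_chief hAp hUV hUA
  set V' : Subgroup ↥U := V.subgroupOf U with hV'
  letI : CommGroup (↥U ⧸ V') :=
    { (inferInstance : Group (↥U ⧸ V')) with
      mul_comm := fun a b => by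
        induction a using QuotientGroup.induction_on with
        | _ a =>
          induction b using QuotientGroup.induction_on with
          | _ b =>
            change Commute (a : ↥U ⧸ V') (b : ↥U ⧸ V')
            rw [← commutatorElement_eq_one_iff_commute]
            exact (QuotientGroup.eq_one_iff (⁅a, b⁆)).2 (hab (Subgroup.commutator_mem_commutator a.2 b.2)) }
  let φ : Z → (↥U ⧸ V' →* ↥U ⧸ V') := fun z =>
    QuotientGroup.map V' V' (MulAut.conjNormal (H := U) z).toMonoidHom (fun x hx => by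
      rw [Subgroup.mem_comap]
      change ((MulAut.conjNormal z x : ↥U) : Z) ∈ V
      rw [MulAut.conjNormal_apply]
      exact (inferInstance : V.Normal).conj_mem _ hx z)
  let ρ₀ : Z → Additive (↥U ⧸ V') →+ Additive (↥U ⧸ V') := fun z => (φ z).toAdditive
  have hρ₀ : ∀ (z : Z) (x : ↥U), ρ₀ z (Additive.ofMul (x : ↥U ⧸ V')) =
      Additive.ofMul ((MulAut.conjNormal z x : ↥U) : ↥U ⧸ V') := fun _ _ => rfl
  have hone₀ : ∀ a, ρ₀ 1 a = a := fun q => by
    obtain ⟨q, rfl⟩ := (Additive.ofMul (α := ↥U ⧸ V')).surjective q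
    induction q using QuotientGroup.induction_on with
    | _ x => simp [hρ₀]
  have hmul₀ : ∀ a b v, ρ₀ (a * b) v = ρ₀ a (ρ₀ b v) := fun a b q => by
    obtain ⟨q, rfl⟩ := (Additive.ofMul (α := ↥U ⧸ V')).surjective q
    induction q using QuotientGroup.induction_on with
    | _ x => simp [hρ₀]
  have hρC : ∀ z ∈ C, ∀ v, ρ₀ z v = v := fun z hz q => by
    obtain ⟨q, rfl⟩ := (Additive.ofMul (α := ↥U ⧸ V')).surjective q
    induction q using QuotientGroup.induction_on with
    | _ x =>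
      rw [hρ₀]
      congr 1
      rw [QuotientGroup.eq, hV', Subgroup.mem_subgroupOf, Subgroup.coe_mul, Subgroup.coe_inv,
        MulAut.conjNormal_apply]
      have h1 := (mem_modCent.1 hz) _ (inv_mem x.2)
      have h2 := (inferInstance : V.Normal).conj_mem _ (inv_mem h1) 1
      simpa [commutatorElement_def, mul_assoc] using h2
  have hfaith : ∀ z, (∀ v, ρ₀ z v = v) → z ∈ C := by
    intro z hz
    refine mem_modCent.2 fun u hu => ?_
    have h1 := hz (Additive.ofMul ((⟨u, hu⟩ : ↥U) : ↥U ⧸ V'))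
    rw [hρ₀, Additive.ofMul.injective.eq_iff, QuotientGroup.eq, hV', Subgroup.mem_subgroupOf,
      Subgroup.coe_mul, Subgroup.coe_inv, MulAut.conjNormal_apply] at h1
    rw [show ⁅u, z⁆ = u * ((z * u * z⁻¹)⁻¹ * u) * u⁻¹ by simp only [commutatorElement_def]; group]
    exact (inferInstance : V.Normal).conj_mem _ h1 u
  let ρ : Z ⧸ C → Additive (↥U ⧸ V') →+ Additive (↥U ⧸ V') := fun c =>
    Quotient.liftOn' c ρ₀ fun a b h => by
      have h' : a⁻¹ * b ∈ C := QuotientGroup.leftRel_apply.1 h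
      refine AddMonoidHom.ext fun v => ?_
      conv_rhs => rw [show b = a * (a⁻¹ * b) by group, hmul₀, hρC _ h']
  have hρ : ∀ z v, ρ (π z) v = ρ₀ z v := fun _ _ => rfl
  have hone : ∀ v, ρ 1 v = v := fun v => by rw [← map_one π, hρ, hone₀]
  have hmul : ∀ a b v, ρ (a * b) v = ρ a (ρ b v) := fun a b v => by
    obtain ⟨a, rfl⟩ := hπs a
    obtain ⟨b, rfl⟩ := hπs b
    rw [← map_mul, hρ, hρ, hρ, hmul₀]
  have hexp : ∀ q : Additive (↥U ⧸ V'), p • q = 0 := fun q => by
    refine Additive.toMul.injective ?_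
    rw [toMul_nsmul, toMul_zero]
    induction (Additive.toMul q) using QuotientGroup.induction_on with
    | _ x =>
      rw [← QuotientGroup.mk_pow, QuotientGroup.eq_one_iff]
      -- exponent of a chief factor
      have hπV : Function.Surjective (QuotientGroup.mk' V) := QuotientGroup.mk'_surjective V
      by_contra hxp
      let W : Subgroup Z := Subgroup.normalClosure ((fun u : Z => u ^ p) '' (U : Set Z)) ⊔ V
      rcases hUV.2.2.2 W inferInstance le_sup_right (sup_le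
        (Subgroup.normalClosure_le_normal (by rintro _ ⟨u, hu, rfl⟩; exact pow_mem hu p)) hUV.1.le) with e | e
      · exact hxp (e.le (Subgroup.mem_sup_left (Subgroup.subset_normalClosure ⟨x, x.2, rfl⟩)))
      · exact hUV.1.not_ge (pow_closure_le hUp hab hUV.1.le e.ge)
  have hkill : ∀ q, (fun b => b - ρ₀ g b)^[p - 1] q = 0 := by
    have key : ∀ (n : ℕ) (x : ↥U), (fun b => b - ρ₀ g b)^[n] (Additive.ofMul (x : ↥U ⧸ V')) =
        Additive.ofMul ((⟨(dg g)^[n] x, dg_iterate_mem x.2 n⟩ : ↥U) : ↥U ⧸ V') := by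
      intro n
      induction n with
      | zero => intro x; rfl
      | succ n ih =>
        intro x
        rw [Function.iterate_succ_apply', ih, hρ₀, ← ofMul_div, ← QuotientGroup.mk_div]
        congr 2
        refine Subtype.ext ?_
        rw [Subgroup.coe_div, MulAut.conjNormal_apply, div_eq_mul_inv]
        simp only [Function.iterate_succ_apply', dg, commutatorElement_def]
        group
    intro q
    obtain ⟨q, rfl⟩ := (Additive.ofMul (α := ↥U ⧸ V')).surjective q
    induction q using QuotientGroup.induction_on with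
    | _ x =>
      rw [key, ← ofMul_one]
      congr 1
      rw [QuotientGroup.eq_one_iff]
      exact hg (dg_iterate_mem_iterCommutator x.2 _)
  obtain ⟨hfp, hfsum⟩ := iterate_facts' hexp (ρ₀ g) hkill
  have hit : ∀ (n : ℕ) v, ρ₀ (g ^ n) v = (ρ₀ g)^[n] v := by
    intro n
    induction n with
    | zero => intro v; rw [pow_zero, hone₀]; rfl
    | succ n ih => intro v; rw [pow_succ', hmul₀, ih, Function.iterate_succ_apply']
  set σ := π g with hσ
  have hσp : σ ^ p = 1 := by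
    rw [hσ, ← map_pow, hπC]
    exact hfaith _ fun v => by rw [hit, hfp]
  haveI hQn : Q.Normal := hKn.map π hπs
  have hcomm : ∀ q ∈ Q, σ * q = q * σ := by
    intro q hq
    have h1 := commutator_acts_trivially hexp ρ hone hmul hQc hQp
      (σ := σ) (by rw [Subgroup.normalizer_eq_top]; exact Subgroup.mem_top _) hσp
      (fun v => by
        refine Eq.trans (Finset.sum_congr rfl fun i _ => ?_) (hfsum v)
        rw [hσ, ← map_pow, hρ, hit]) q hq
    obtain ⟨k, hk, rfl⟩ := hq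
    have h2 : g * k * g⁻¹ * k⁻¹ ∈ C := hfaith _ fun v => by
      rw [← hρ]
      simpa [hσ] using h1 v
    rw [← commutatorElement_eq_one_iff_mul_comm, hσ, ← map_commutatorElement, hπC]
    exact h2
  -- conjugates of `σ` lie in one Sylow subgroup
  obtain ⟨S, hS⟩ : ∃ S : Sylow p (Z ⧸ C), σ ∈ (S : Subgroup (Z ⧸ C)) := by
    have hpg : IsPGroup p ↥(Subgroup.zpowers σ) := by
      rintro ⟨y, m, rfl⟩
      refine ⟨1, Subtype.ext ?_⟩
      show (σ ^ m) ^ p ^ 1 = 1
      rw [pow_one, ← zpow_natCast, ← zpow_mul, mul_comm, zpow_mul, zpow_natCast, hσp, one_zpow]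
    obtain ⟨S, hS⟩ := hpg.exists_le_sylow
    exact ⟨S, hS (Subgroup.mem_zpowers σ)⟩
  have hres : pResidual p (Z ⧸ C) ≤ Q := by
    rw [Cfsg.pResidual, Subgroup.closure_le]
    intro y hy
    obtain ⟨x, rfl⟩ := hπs y
    obtain ⟨k, hk⟩ := hpow x
    obtain ⟨m, hm⟩ := exists_pow_eq_self_of_coprime (n := p ^ k) (x := π x)
      (Nat.Coprime.pow_left k (Nat.coprime_comm.1 hy))
    rw [SetLike.mem_coe, ← hm]
    exact pow_mem (show π x ^ p ^ k ∈ Q from ⟨_, hk, map_pow π x _⟩) m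
  have hconj : ∀ y : Z ⧸ C, y * σ * y⁻¹ ∈ (S : Subgroup (Z ⧸ C)) := by
    intro y
    have hy : y ∈ (S : Subgroup (Z ⧸ C)) ⊔ Q := by
      have := PBasic.sylow_sup_pResidual S
      exact (sup_le_sup_left hres _) (this ▸ Subgroup.mem_top y)
    obtain ⟨s, hs, q, hq, rfl⟩ := Subgroup.mem_sup_of_normal_right.1 hy
    rw [show s * q * σ * (s * q)⁻¹ = s * (q * σ * q⁻¹) * s⁻¹ by group, ← hcomm q hq, mul_inv_cancel_right]
    exact mul_mem (mul_mem hs hS) (inv_mem hs)
  have hle := noP (Subgroup.normalClosure {g}) inferInstance fun x hx => by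
    have hxS : π x ∈ (S : Subgroup (Z ⧸ C)) := by
      have h1 : Subgroup.normalClosure {g} ≤ (S : Subgroup (Z ⧸ C)).comap π := by
        rw [Subgroup.normalClosure, Subgroup.closure_le]
        intro z hz
        obtain ⟨a, ha, hac⟩ := Group.mem_conjugatesOfSet_iff.1 hz
        rw [Set.mem_singleton_iff] at ha
        subst ha
        obtain ⟨c, rfl⟩ := isConj_iff.1 hac
        rw [SetLike.mem_coe, Subgroup.mem_comap, map_mul, map_mul, map_inv]
        exact hconj _
      exact h1 hx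
    obtain ⟨k, hk⟩ := S.isPGroup' ⟨π x, hxS⟩
    exact ⟨k, (hπC _).1 (by rw [map_pow]; exact congrArg Subtype.val hk)⟩
  exact hle (Subgroup.subset_normalClosure rfl)

/-- `p`-by-abelian-by-`p` groups are `p`-stable, `p` odd. -/
theorem IsAbelTop.isNormalizerPStable (hp2 : p ≠ 2) {Z : Type u} [Group Z] [Finite Z]
    (hZ : IsAbelTop p Z) : IsNormalizerPStable p Z := by
  intro P hP g hg hq
  set N := Subgroup.normalizer (P : Set Z) with hN
  set P' := P.subgroupOf N with hP'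
  haveI : P'.Normal := Subgroup.normal_in_normalizer
  have hPN : P ≤ N := Subgroup.le_normalizer
  have hP'p : IsPGroup p ↥P' := hP.comap_subtype
  have hq' : ⁅⁅P', Subgroup.zpowers (⟨g, hg⟩ : ↥N)⁆, Subgroup.zpowers (⟨g, hg⟩ : ↥N)⁆ = ⊥ := by
    apply Subgroup.map_injective N.subtype_injective
    rw [Subgroup.map_bot, Subgroup.map_commutator, Subgroup.map_commutator, MonoidHom.map_zpowers, hP',
      Subgroup.map_subgroupOf_eq_of_le hPN]
    exact hq
  have hN' := hZ.of_injective N.subtype_injective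
  have hgF : (⟨g, hg⟩ : ↥N) ∈ facKer ⊥ P' := by
    refine mem_facKer.2 fun U V hUV _ hUP u hu => ?_
    haveI := hUV.2.2.1
    refine commutator_zpowers_le_iff.1 (commutator_le_of_kills hN' hP'p hUV hUP ?_) u hu
    have hp1 : 2 ≤ p - 1 := by have := hp.out.two_le; omega
    obtain ⟨k, hk⟩ := Nat.exists_eq_add_of_le hp1
    rw [hk]
    have h2 : iterCommutator U (Subgroup.zpowers (⟨g, hg⟩ : ↥N)) 2 ≤ V :=
      le_trans ((Subgroup.commutator_mono (Subgroup.commutator_mono hUP le_rfl) le_rfl).trans hq'.le) bot_le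
    clear hk
    induction k with
    | zero => exact h2
    | succ k ih => exact (Subgroup.commutator_mono ih le_rfl).trans (Subgroup.commutator_le_left V _)
  set C := (Subgroup.centralizer (P : Set Z)).subgroupOf N with hC
  set f := QuotientGroup.mk' C with hf
  refine PBasic.le_pCore (N := (facKer ⊥ P').map f)
    (Subgroup.Normal.map inferInstance _ (QuotientGroup.mk'_surjective _)) ?_ ⟨_, hgF, rfl⟩
  rintro ⟨_, x, hx, rfl⟩
  have hcop : ∀ y ∈ facKer ⊥ P', (orderOf y).Coprime p → y ∈ C := by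
    intro y hy hyo
    haveI : (⊥ : Subgroup ↥N).Normal := inferInstance
    have h1 := mem_centralizer_of_facKer (A := P') (Z := ⊥) hP'p bot_le hyo hy
      (mem_facKer.2 fun U V hUV _ hU => absurd (hUV.1.trans_le hU) not_lt_bot)
    rw [hC, Subgroup.mem_subgroupOf, Subgroup.mem_centralizer_iff]
    intro z hz
    exact congrArg Subtype.val (Subgroup.mem_centralizer_iff.1 h1 ⟨z, hPN hz⟩ hz)
  obtain ⟨k, hk⟩ := exists_pow_mem_of_coprime_mem hcop hx
  exact ⟨k, Subtype.ext ((map_pow f x _).symm.trans ((QuotientGroup.eq_one_iff _).2 hk))⟩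

end Cfsg.Agent.AbelTop
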