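/-
`SL₂(p)`-free automizers: control of fusion, and the least centric radical subgroup.
-/
import Cfsg.Agent.Lib.PStable.AutFree
import Cfsg.Agent.Lib.Functors.ClosedZJ
import Cfsg.Agent.Lib.Transfer.Fusion

set_option autoImplicit false
set_option linter.style.haveILetI false
set_option linter.unusedSectionVars false

namespace Cfsg.Agent.AutFreeFusion

open scoped commutatorElement
open Cfsg Cfsg.Agent.Functors Cfsg.Agent.ClosedZJ
open Cfsg.Agent.AutFreeness (AutFree)

universe u

variable {G : Type u} [Group G] [Finite G] {p : ℕ} [Fact p.Prime] {e : Prop}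

/-- **`N(Z(J(D)))` controls strong fusion** when no automizer involves `SL₂(p)`. -/
theorem ctl_of_autFree (hp : p ≠ 2) (hfree : AutFree p G) : Ctl p e G := by
  suffices key : ∀ (n : ℕ) (X : Type u) [Group X] [Finite X], Nat.card X = n →
      AutFree p X → Ctl p e X from key _ G rfl hfree
  intro n
  induction n using Nat.strong_induction_on with
  | _ n ih =>
    intro X _ _ hn hX S D hD A g hA hgA
    have hsub : ∀ H : Subgroup X, H ≠ ⊤ → Ctl p e ↥H := fun H hH =>
      ih _ (hn ▸ card_lt_of_ne_top hH) ↥H rfl (hX.subgroup H)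
    have hquot : ∀ (N : Subgroup X) [N.Normal], N ≠ ⊥ → Ctl p e (X ⧸ N) := fun N _ hN =>
      ih _ (hn ▸ card_quotient_lt hN) (X ⧸ N) rfl (hX.quotient N)
    by_cases h0 : pPrimeCore p X = ⊥
    swap
    · exact ctl_pprime (PBasic.pPrimeCore_coprime p X) (hquot _ h0) S hD A g hA hgA
    by_cases hC : PConstr p X
    · haveI := ZJClosed.zCore_normal hp (hX.isQuad hp) hC S hD e
      exact ⟨hA, hgA, g, by rw [Subgroup.normalizer_eq_top]; exact Subgroup.mem_top g, fun a _ => rfl⟩
    by_cases hT : pCore p X = ⊥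
    · refine realised_of_local S hD (fun V hV hext A g hg hA hgA => ?_) A g hA hgA
      have hne := normalizer_ne_top_of_not_le (S.isPGroup'.to_le hext.1)
        (by rw [hT, le_bot_iff]; exact hV)
      exact ctl_subgroup (hsub _ hne) S hD hext.2 hg hA hgA
    set C := Subgroup.centralizer ((pCore p X : Subgroup X) : Set X) with hCdef
    have hBS : Subgroup.closure A ≤ (S : Subgroup X) := (Subgroup.closure_le _).2 hA
    have hgB : (Subgroup.closure A).map (cj g) ≤ (S : Subgroup X) := by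
      rw [MonoidHom.map_closure, Subgroup.closure_le]; exact hgA
    by_cases hL : C ⊔ (S : Subgroup X) = ⊤
    · have hT' : (pCore p X).map (cj g) ≤ (S : Subgroup X) := by
        rintro _ ⟨t, ht, rfl⟩
        exact PBasic.pCore_le_sylow S ((Cfsg.pCore_normal p X).conj_mem t ht g)
      exact (isMapRel_realised _ _).mono (Subgroup.subset_closure.trans
        (SetLike.coe_subset_coe.2 le_sup_left))
        (realised_of_centralizer_sup S hD hL hsub (hquot _ hT) (B := Subgroup.closure A ⊔ pCore p X)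
          le_sup_right (sup_le hBS (PBasic.pCore_le_sylow S)) (by rw [Subgroup.map_sup]; exact sup_le hgB hT'))
    · obtain ⟨M, hM, hSM, hfac⟩ := exists_factorization S h0 hC
      obtain ⟨m, hm, c, hc, rfl⟩ := hfac g
      obtain ⟨m', hm', l', hl', he, hle⟩ := conj_le_intermediate S hSM (le_sup_right (a := C)) hBS hm
        (Subgroup.mem_sup_left hc) hgB
      rw [he] at hgB ⊢
      have r1 := realised_of_ge (hsub _ hL) S hD le_sup_right hl' hBS
        (by rw [cj_image_coe]; exact hle)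
      have r2 := realised_of_ge (hsub _ hM) S hD hSM hm'
        (A := cj l' '' ((Subgroup.closure A : Subgroup X) : Set X)) (by rw [cj_image_coe]; exact hle)
        (by rw [cj_image_image, cj_image_coe]; exact hgB)
      exact (isMapRel_realised _ _).mono Subgroup.subset_closure ((isMapRel_realised _ _).trans r1 r2)

/-- If `G = C(T) S`, an element of `N(B)` trivial on `B/T` acts like an element of `S`. -/
theorem exists_sylow_of_stab (S : Sylow p G) {T : Subgroup G} [T.Normal]
    (hCS : Subgroup.centralizer (T : Set G) ⊔ (S : Subgroup G) = ⊤)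
    {B : Subgroup G} (hBS : B ≤ (S : Subgroup G))
    (hext : Extremal p (S : Subgroup G) B) {x : G} (hx : x ∈ Subgroup.normalizer (B : Set G))
    (hxT : ∀ u ∈ B, ⁅u, x⁆ ∈ T) :
    ∃ q ∈ (S : Subgroup G), q ∈ Subgroup.normalizer (B : Set G) ∧
      ∀ b ∈ B, q * b * q⁻¹ = x * b * x⁻¹ := by
  set C := Subgroup.centralizer (T : Set G) with hC
  haveI : C.Normal := inferInstance
  set E := Subgroup.normalizer (B : Set G) ⊓ ChiefAct.modCent B T with hE
  set CE := Subgroup.centralizer (B : Set G) with hCE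
  have hnE : Subgroup.normalizer (B : Set G) ≤ Subgroup.normalizer (E : Set G) := by
    refine ChiefAct.inf_le_normalizer Subgroup.le_normalizer fun n hn =>
      Subgroup.mem_normalizer_iff.2 fun z => ?_
    have key : ∀ n ∈ Subgroup.normalizer (B : Set G), ∀ z ∈ ChiefAct.modCent B T,
        n * z * n⁻¹ ∈ ChiefAct.modCent B T := by
      intro n hn z hz u hu
      rw [show ⁅u, n * z * n⁻¹⁆ = n * ⁅n⁻¹ * u * n, z⁆ * n⁻¹ by
        simp only [commutatorElement_def]; group]
      refine Subgroup.Normal.conj_mem inferInstance _ (hz _ ?_) n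
      simpa using (Subgroup.mem_normalizer_iff.1 (inv_mem hn) u).1 hu
    refine ⟨key n hn z, fun h => ?_⟩
    simpa [mul_assoc] using key n⁻¹ (inv_mem hn) _ h
  have hcop : ∀ z ∈ E, (orderOf z).Coprime p → z ∈ CE := by
    intro z hz hzc
    obtain ⟨hzN, hzM⟩ := Subgroup.mem_inf.1 hz
    have hCS' : IsPGroup p (G ⧸ C) := fun q => by
      induction q using QuotientGroup.induction_on with
      | _ g =>
        obtain ⟨c, hc, s, hs, rfl⟩ := Subgroup.mem_sup_of_normal_left.1 (hCS.ge (Subgroup.mem_top g))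
        obtain ⟨k, hk⟩ := S.isPGroup' ⟨s, hs⟩
        refine ⟨k, ?_⟩
        rw [QuotientGroup.mk_mul, (QuotientGroup.eq_one_iff c).2 hc, one_mul, ← QuotientGroup.mk_pow,
          show s ^ p ^ k = 1 from congrArg Subtype.val hk, QuotientGroup.mk_one]
    have hzC : z ∈ C := (QuotientGroup.eq_one_iff z).1 (PBasic.isPGroup_iff_forall_coprime.1 hCS' _
      (Nat.Coprime.coprime_dvd_left (orderOf_map_dvd (QuotientGroup.mk' C) z) hzc))
    have h1 : ⁅B, Subgroup.zpowers z⁆ ≤ T := ChiefAct.commutator_zpowers_le_iff.2 hzM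
    have h2 : ⁅T, Subgroup.zpowers z⁆ = ⊥ := by
      rw [Subgroup.commutator_comm, Subgroup.commutator_eq_bot_iff_le_centralizer, Subgroup.zpowers_le]
      exact hzC
    have h3 : ⁅B, Subgroup.zpowers z⁆ = ⊥ := by
      rw [← LECoprime.commutator_commutator_eq (S.isPGroup'.to_le hBS) (ChiefAct.coprime_zpowers hzc)
        (Subgroup.zpowers_le.2 hzN), eq_bot_iff, ← h2]
      exact Subgroup.commutator_mono h1 le_rfl
    rw [Subgroup.commutator_comm, Subgroup.commutator_eq_bot_iff_le_centralizer] at h3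
    exact h3 (Subgroup.mem_zpowers z)
  obtain ⟨Q, hQ⟩ := (hext.2.inf_normalized (inf_le_left : E ≤ _) hnE).exists_sylow
  haveI : (CE.subgroupOf E).Normal :=
    ⟨fun c hc n => by
      rw [Subgroup.mem_subgroupOf] at hc ⊢
      rw [Subgroup.mem_centralizer_iff]
      intro b hb
      have hb' : (n : G)⁻¹ * b * n ∈ B := by
        simpa using (Subgroup.mem_normalizer_iff.1 (inv_mem (Subgroup.mem_inf.1 n.2).1) b).1 hb
      have h1 := Subgroup.mem_centralizer_iff.1 hc _ hb'
      push_cast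
      calc b * ((n : G) * c * (n : G)⁻¹) = n * (((n : G)⁻¹ * b * n) * c) * (n : G)⁻¹ := by group
        _ = n * c * (n : G)⁻¹ * b := by rw [h1]; group⟩
  have hq : IsPGroup p (↥E ⧸ CE.subgroupOf E) := fun q => by
    induction q using QuotientGroup.induction_on with
    | _ z =>
      obtain ⟨k, hk⟩ := ChiefAct.exists_pow_mem_of_coprime_mem hcop z.2
      refine ⟨k, ?_⟩
      rw [← QuotientGroup.mk_pow, QuotientGroup.eq_one_iff, Subgroup.mem_subgroupOf]
      simpa using hk
  obtain ⟨q, hq', c, hc, hqc⟩ := Subgroup.mem_sup_of_normal_right.1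
    ((PBasic.sylow_sup_eq_top Q hq).ge (Subgroup.mem_top (⟨x, Subgroup.mem_inf.2 ⟨hx, hxT⟩⟩ : ↥E)))
  rw [hQ, Subgroup.mem_subgroupOf] at hq'
  rw [Subgroup.mem_subgroupOf] at hc
  have e1 : (q : G) * c = x := congrArg Subtype.val hqc
  refine ⟨q, (Subgroup.mem_inf.1 (Subgroup.mem_inf.1 hq').1).1, (Subgroup.mem_inf.1 q.2).1,
    fun b hb => ?_⟩
  rw [← e1]
  calc (q : G) * b * (q : G)⁻¹ = q * (b * c) * (c : G)⁻¹ * (q : G)⁻¹ := by group
    _ = q * (c * b) * (c : G)⁻¹ * (q : G)⁻¹ := by rw [Subgroup.mem_centralizer_iff.1 hc b hb]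
    _ = q * c * b * ((q : G) * c)⁻¹ := by group

/-- Lifting control from `G/T` when `G = C(T) S`. -/
theorem realised_of_centralizer_sup (S : Sylow p G) {T U : Subgroup G} [T.Normal]
    (hTS : T ≤ (S : Subgroup G)) (hCS : Subgroup.centralizer (T : Set G) ⊔ (S : Subgroup G) = ⊤)
    (hSU : (S : Subgroup G) ≤ Subgroup.normalizer (U : Set G))
    (hquot : ∀ (B : Subgroup G) (g : G), B ≤ (S : Subgroup G) → B.map (cj g) ≤ (S : Subgroup G) →
      ∃ n ∈ Subgroup.normalizer (U : Set G), ∀ b ∈ B, (n * b * n⁻¹)⁻¹ * (g * b * g⁻¹) ∈ T)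
    (A : Set G) (g : G) (hA : A ⊆ (S : Subgroup G)) (hgA : cj g '' A ⊆ (S : Subgroup G)) :
    Realised (Subgroup.normalizer (U : Set G)) (S : Subgroup G) A g := by
  suffices key : ∀ (d : ℕ) (B : Subgroup G) (g : G), Nat.card ↥(S : Subgroup G) ≤ d + Nat.card ↥B →
      T ≤ B → B ≤ (S : Subgroup G) → B.map (cj g) ≤ (S : Subgroup G) →
      Realised (Subgroup.normalizer (U : Set G)) (S : Subgroup G) (B : Set G) g by
    have hT' : T.map (cj g) ≤ (S : Subgroup G) := by
      rintro _ ⟨t, ht, rfl⟩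
      exact hTS (Subgroup.Normal.conj_mem inferInstance t ht g)
    refine (isMapRel_realised _ _).mono (B := A) ?_ (key _ (Subgroup.closure A ⊔ T) g (Nat.le_add_right _ _) le_sup_right
      (sup_le ((Subgroup.closure_le _).2 hA) hTS) ?_)
    · exact Subgroup.subset_closure.trans (SetLike.coe_subset_coe.2 le_sup_left)
    · rw [Subgroup.map_sup, MonoidHom.map_closure]
      exact sup_le ((Subgroup.closure_le _).2 hgA) hT'
  clear hgA hA g A
  intro d
  induction d using Nat.strong_induction_on with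
  | _ d ihd =>
    intro B g hd hTB hBS hgB
    obtain ⟨n, hn, hdiff⟩ := hquot B g hBS hgB
    set B' := B.map (cj n) with hB'
    have hTB' : T ≤ B' := fun t ht =>
      mem_map_cj.2 (hTB (by simpa using Subgroup.Normal.conj_mem inferInstance t ht n⁻¹))
    have hB'S : B' ≤ (S : Subgroup G) := by
      rintro _ ⟨b, hb, rfl⟩
      have h6 := mul_mem (hgB ⟨b, hb, rfl⟩) (inv_mem (hTS (hdiff b hb)))
      rw [cj_apply, mul_inv_rev, inv_inv, mul_inv_cancel_left] at h6
      exact h6
    set x := g * n⁻¹ with hx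
    have hxB : B'.map (cj x) = B' := by
      refine Subgroup.eq_of_le_of_card_ge ?_ (card_map_cj _ _).ge
      rw [hB', map_map_cj, hx, inv_mul_cancel_right]
      rintro _ ⟨b, hb, rfl⟩
      have h1 : n * b * n⁻¹ ∈ B' := ⟨b, hb, rfl⟩
      have h2 := mul_mem h1 (hTB' (hdiff b hb))
      rw [mul_inv_cancel_left] at h2
      exact h2
    have hxT : ∀ u ∈ B', ⁅u, x⁆ ∈ T := by
      rintro _ ⟨b, hb, rfl⟩
      have h1 := inv_mem (Subgroup.Normal.conj_mem inferInstance _ (hdiff b hb) (n * b * n⁻¹))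
      convert h1 using 1
      simp only [cj_apply, hx, commutatorElement_def]
      group
    suffices rx : ∃ m ∈ Subgroup.normalizer (U : Set G), ∀ b ∈ B', m * b * m⁻¹ = x * b * x⁻¹ by
      obtain ⟨m, hm, hma⟩ := rx
      refine ⟨hBS, by rw [cj_image_coe]; exact hgB, m * n, mul_mem hm hn, fun b hb => ?_⟩
      calc m * n * b * (m * n)⁻¹ = m * (n * b * n⁻¹) * m⁻¹ := by group
        _ = x * (n * b * n⁻¹) * x⁻¹ := hma _ ⟨b, hb, rfl⟩
        _ = g * b * g⁻¹ := by rw [hx]; group
    have hxN := map_cj_eq_iff.1 hxB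
    by_cases hext : Extremal p (S : Subgroup G) B'
    · obtain ⟨q, hq, -, hqa⟩ := exists_sylow_of_stab S hCS hB'S hext hxN hxT
      exact ⟨q, hSU hq, hqa⟩
    · have hlt : B' < (S : Subgroup G) := lt_of_le_of_ne hB'S fun h => hext (by
        rw [h]; exact extremal_of_normal S le_rfl Subgroup.le_normalizer)
      set P := (S : Subgroup G) ⊓ Subgroup.normalizer (B' : Set G) with hP
      have hcard : Nat.card ↥B < Nat.card ↥P := by
        rw [← card_map_cj B n, ← hB']
        exact Nat.lt_of_not_ge fun hle => (lt_inf_normalizer_of_lt S.isPGroup' hlt).ne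
          (Subgroup.eq_of_le_of_card_ge (le_inf hB'S Subgroup.le_normalizer) hle)
      have hdpos : 0 < d := by
        by_contra h0
        have := Subgroup.card_le_of_le (show P ≤ (S : Subgroup G) from inf_le_left)
        omega
      obtain ⟨h, hh, hhle⟩ := exists_extremal S hB'S
      obtain ⟨-, -, h₀, hh₀, hh₀a⟩ := ihd (d - 1) (by omega) P h (by omega)
        (hTB'.trans (le_inf hB'S Subgroup.le_normalizer)) inf_le_left hhle
      have hBP : B' ≤ P := le_inf hB'S Subgroup.le_normalizer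
      obtain ⟨q, hq, hqN, hqa⟩ := exists_sylow_of_stab S hCS hh.1 hh
        (x := h * x * h⁻¹) (by rw [← map_cj_normalizer]; exact ⟨x, hxN, rfl⟩) (by
          rintro _ ⟨u, hu, rfl⟩
          have h1 := Subgroup.Normal.conj_mem inferInstance _ (hxT u hu) h
          convert h1 using 1
          simp only [cj_apply, commutatorElement_def]
          group)
      refine ⟨h₀⁻¹ * q * h₀, mul_mem (mul_mem (inv_mem hh₀) (hSU hq)) hh₀, fun b hb => ?_⟩
      have h1 := hqa _ ⟨b, hb, rfl⟩
      rw [cj_apply] at h1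
      have hxb : x * b * x⁻¹ ∈ B' := hxB.le ⟨b, hb, rfl⟩
      calc h₀⁻¹ * q * h₀ * b * (h₀⁻¹ * q * h₀)⁻¹ = h₀⁻¹ * (q * (h₀ * b * h₀⁻¹) * q⁻¹) * h₀ := by group
        _ = h₀⁻¹ * (h * (x * b * x⁻¹) * h⁻¹) * h₀ := by
            rw [hh₀a b (hBP hb), h1]; group
        _ = h₀⁻¹ * (h₀ * (x * b * x⁻¹) * h₀⁻¹) * h₀ := by rw [hh₀a _ (hBP hxb)]
        _ = x * b * x⁻¹ := by group

/-- A proper overgroup of `S` controls fusion. -/
theorem exists_proper (hp : p ≠ 2) (hfree : AutFree p G) (S : Sylow p G) (h0 : pPrimeCore p G = ⊥)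
    (hnc : ¬ PConstr p G) :
    ∃ U : Subgroup G, Subgroup.normalizer (U : Set G) ≠ ⊤ ∧
      (S : Subgroup G) ≤ Subgroup.normalizer (U : Set G) ∧
      ∀ (A : Set G) (g : G), A ⊆ (S : Subgroup G) → cj g '' A ⊆ (S : Subgroup G) →
        Realised (Subgroup.normalizer (U : Set G)) (S : Subgroup G) A g := by
  set T := pCore p G with hT
  haveI : T.Normal := Cfsg.pCore_normal p G
  have hSS : IsStronglyClosed (S : Subgroup G) (S : Subgroup G) :=
    ⟨le_rfl, fun _ _ _ h => h⟩
  by_cases hT1 : T = ⊥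
  · refine ⟨ZJ.zCore p False (S : Subgroup G), ?_, sylow_le hSS,
      fun A g hA hgA => ctl_of_autFree hp hfree S _ hSS A g hA hgA⟩
    refine normalizer_ne_top_of_not_le (S.isPGroup'.to_le (zCore_le _)) ?_
    rw [← hT, hT1, le_bot_iff]
    refine ZJ.zCore_ne_bot S.isPGroup' fun hbot => hnc (centralizer_pCore_le_of_inf S h0 ?_)
    rw [hbot, bot_inf_eq]
    exact bot_le
  set C := Subgroup.centralizer (T : Set G) with hC
  haveI : C.Normal := inferInstance
  have hTS : T ≤ (S : Subgroup G) := PBasic.pCore_le_sylow S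
  set D := (S : Subgroup G) ⊓ C with hD
  set π := QuotientGroup.mk' T with hπ
  have hπs : Function.Surjective π := QuotientGroup.mk'_surjective T
  set Db := D.map π with hDb
  have hDbne : Db ≠ ⊥ := by
    rw [hDb, Ne, Subgroup.map_eq_bot_iff, hπ, QuotientGroup.ker_mk']
    exact fun h => hnc (centralizer_pCore_le_of_inf S h0 h)
  have hDsc : IsStronglyClosed D (S : Subgroup G) :=
    ⟨inf_le_left, fun x hx g h => Subgroup.mem_inf.2
      ⟨h, Subgroup.Normal.conj_mem inferInstance x (Subgroup.mem_inf.1 hx).2 g⟩⟩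
  have hDbsc : IsStronglyClosed Db (S.mapSurjective hπs : Subgroup (G ⧸ T)) :=
    stronglyClosed_map S hDsc (Or.inr hTS) (N := T)
  have hDbp : IsPGroup p ↥Db := (S.isPGroup'.to_le inf_le_left).map π
  set U := (ZJ.zCore p False Db).comap π with hU
  have hUp : IsPGroup p ↥U := by
    refine (hDbp.to_le (zCore_le _)).comap_of_ker_isPGroup π ?_
    rw [hπ, QuotientGroup.ker_mk']; exact PBasic.pCore_isPGroup p G
  have hUT : ¬ U ≤ T := fun hle => ZJ.zCore_ne_bot (e := False) hDbp hDbne (eq_bot_iff.2 fun z hz => by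
    obtain ⟨z, rfl⟩ := hπs z
    exact (QuotientGroup.eq_one_iff z).2 (hle hz))
  have hcomapN : Subgroup.normalizer (U : Set G) =
      (Subgroup.normalizer (ZJ.zCore p False Db : Set (G ⧸ T))).comap π := by
    rw [hU, ← Subgroup.comap_normalizer_eq_of_surjective _ hπs]
  have hND : Subgroup.normalizer (D : Set G) ≤ Subgroup.normalizer (U : Set G) := by
    rw [hcomapN, ← Subgroup.map_le_iff_le_comap]
    exact (Subgroup.le_normalizer_map π).trans (normalizer_le Db)
  have hSU : (S : Subgroup G) ≤ Subgroup.normalizer (U : Set G) :=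
    (ChiefAct.inf_le_normalizer Subgroup.le_normalizer
      (le_top.trans_eq (Subgroup.normalizer_eq_top (H := C)).symm)).trans hND
  refine ⟨U, normalizer_ne_top_of_not_le hUp hUT, hSU, ?_⟩
  -- the subgroup `C S`
  set H1 := C ⊔ (S : Subgroup G) with hH1
  have hH1top : ∀ (A : Set G) (g : G), g ∈ H1 → A ⊆ (S : Subgroup G) → cj g '' A ⊆ (S : Subgroup G) →
      Realised (Subgroup.normalizer (U : Set G)) (S : Subgroup G) A g := by
    intro A g hg hA hgA
    have hSH : (S : Subgroup G) ≤ H1 := le_sup_right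
    set S1 := S.subtype hSH
    haveI : (T.subgroupOf H1).Normal := Subgroup.normal_subgroupOf
    obtain ⟨-, -, n, hn, hna⟩ := realised_of_centralizer_sup S1 (T := T.subgroupOf H1)
      (U := U.subgroupOf H1)
      (fun x hx => hTS hx) (by
        refine eq_top_iff.2 fun x _ => ?_
        obtain ⟨c, hc, s, hs, hx⟩ := Subgroup.mem_sup_of_normal_left.1 (show (x : G) ∈ C ⊔ (S : Subgroup G) from x.2)
        have hcH : c ∈ H1 := Subgroup.mem_sup_left hc
        rw [show x = (⟨c, hcH⟩ : H1) * ⟨s, hSH hs⟩ from Subtype.ext hx.symm]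
        exact mul_mem (Subgroup.mem_sup_left (Subgroup.mem_centralizer_iff.2 fun t ht =>
          Subtype.ext (Subgroup.mem_centralizer_iff.1 hc _ ht))) (Subgroup.mem_sup_right hs))
      (fun s hs => by
        refine Subgroup.mem_normalizer_iff.2 fun y => ?_
        simp only [Subgroup.mem_subgroupOf, Subgroup.coe_mul, Subgroup.coe_inv]
        exact Subgroup.mem_normalizer_iff.1 (hSU hs) (y : G))
      (fun B k hB hkB => by
        have hTH : T ≤ H1 := hTS.trans hSH
        set Sb := S.mapSurjective hπs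
        have hSbH : (Sb : Subgroup (G ⧸ T)) ≤ H1.map π := Subgroup.map_mono hSH
        have hDbH : Db ≤ H1.map π := Subgroup.map_mono (inf_le_left.trans hSH)
        obtain ⟨nb, hnb, hnba⟩ := ctl_subgroup
          (ctl_of_autFree hp ((hfree.quotient T).subgroup (H1.map π)) (e := False)) Sb hDbsc
          (by rw [inf_eq_left.2 hSbH]; exact (isSylowIn_sylow Sb).of_le hSbH le_top)
          (A := π '' ((fun b : H1 => (b : G)) '' (B : Set H1))) (g := π (k : G))
          ⟨(k : G), k.2, rfl⟩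
          (by
            rw [inf_eq_left.2 hSbH]
            rintro _ ⟨_, ⟨b, hb, rfl⟩, rfl⟩
            exact ⟨_, hB hb, rfl⟩)
          (by
            rw [inf_eq_left.2 hSbH]
            rintro _ ⟨_, ⟨_, ⟨b, hb, rfl⟩, rfl⟩, rfl⟩
            exact ⟨_, hkB ⟨b, hb, rfl⟩, by simp [hπ]⟩)
        rw [inf_eq_left.2 hDbH] at hnb
        obtain ⟨hn1, hn2⟩ := Subgroup.mem_inf.1 hnb
        obtain ⟨n, hn, rfl⟩ := hn1
        refine ⟨⟨n, hn⟩, Subgroup.mem_normalizer_iff.2 fun y => ?_, fun b hb => ?_⟩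
        · simp only [Subgroup.mem_subgroupOf, Subgroup.coe_mul, Subgroup.coe_inv]
          exact Subgroup.mem_normalizer_iff.1 (hcomapN ▸ (show n ∈ _ from hn2) : n ∈ Subgroup.normalizer (U : Set G)) (y : G)
        · rw [Subgroup.mem_subgroupOf]
          show (n * (b : G) * n⁻¹)⁻¹ * ((k : G) * b * (k : G)⁻¹) ∈ T
          rw [← QuotientGroup.eq]
          have h5 := hnba _ ⟨_, ⟨b, hb, rfl⟩, rfl⟩
          rw [← map_mul, ← map_inv, ← map_mul, ← map_mul, ← map_inv, ← map_mul] at h5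
          exact h5)
      (H1.subtype ⁻¹' A) ⟨g, hg⟩ (fun x hx => hA hx)
      (by rintro _ ⟨x, hx, rfl⟩; exact hgA ⟨(x : G), hx, rfl⟩)
    refine ⟨hA, hgA, n, ?_, fun a ha => congrArg Subtype.val (hna ⟨a, hSH (hA ha)⟩ ha)⟩
    have h1 := Subgroup.le_normalizer_map H1.subtype (Subgroup.mem_map_of_mem H1.subtype hn)
    rwa [Subgroup.map_subgroupOf_eq_of_le] at h1
    intro x hx
    obtain ⟨d, hd, hdx⟩ := zCore_le Db (Subgroup.mem_comap.1 hx)
    have : d⁻¹ * x ∈ T := QuotientGroup.eq.1 hdx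
    have := mul_mem (hSH (Subgroup.mem_inf.1 hd).1) (hSH (hTS this))
    rwa [mul_inv_cancel_left] at this
  intro A g hA hgA
  obtain ⟨P, hP⟩ := PBasic.exists_sylow_subgroupOf S C
  have hfr := Sylow.normalizer_sup_eq_top P
  rw [hP, Subgroup.subgroupOf_map_subtype] at hfr
  obtain ⟨m, hm, c, hc, rfl⟩ := Subgroup.mem_sup_of_normal_right.1 (hfr.ge (Subgroup.mem_top g))
  have hBS : Subgroup.closure A ≤ (S : Subgroup G) := (Subgroup.closure_le _).2 hA
  have hgB : (Subgroup.closure A).map (cj (m * c)) ≤ (S : Subgroup G) := by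
    rw [MonoidHom.map_closure, Subgroup.closure_le]; exact hgA
  obtain ⟨m', hm', l', hl', he, hle⟩ := conj_le_intermediate S
    (ChiefAct.inf_le_normalizer Subgroup.le_normalizer
      (le_top.trans_eq (Subgroup.normalizer_eq_top (H := C)).symm) : (S : Subgroup G) ≤ Subgroup.normalizer (D : Set G))
    (le_sup_right : (S : Subgroup G) ≤ H1) hBS hm (Subgroup.mem_sup_left hc) hgB
  have hlA : cj l' '' A ⊆ (S : Subgroup G) := by
    rintro _ ⟨a, ha, rfl⟩
    exact hle ⟨a, Subgroup.subset_closure ha, rfl⟩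
  rw [he] at hgA ⊢
  refine (isMapRel_realised _ _).trans (hH1top A l' hl' hA hlA)
    ⟨hlA, by rw [cj_image_image]; exact hgA, m', hND hm', fun a _ => rfl⟩

/-- Fusion is controlled by the normalizer of a centric normal subgroup of `S`. -/
theorem exists_centric (hp : p ≠ 2) (hfree : AutFree p G) (S : Sylow p G) :
    ∃ Q : Subgroup G, Q ≤ (S : Subgroup G) ∧ (S : Subgroup G) ≤ Subgroup.normalizer (Q : Set G) ∧
      (S : Subgroup G) ⊓ Subgroup.centralizer (Q : Set G) ≤ Q ∧
      ∀ (A : Set G) (g : G), A ⊆ (S : Subgroup G) → cj g '' A ⊆ (S : Subgroup G) →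
        Realised (Subgroup.normalizer (Q : Set G)) (S : Subgroup G) A g := by
  suffices key : ∀ (n : ℕ) (X : Type u) [Group X] [Finite X], Nat.card X = n → AutFree p X →
      ∀ S : Sylow p X, ∃ Q : Subgroup X, Q ≤ (S : Subgroup X) ∧
        (S : Subgroup X) ≤ Subgroup.normalizer (Q : Set X) ∧
        (S : Subgroup X) ⊓ Subgroup.centralizer (Q : Set X) ≤ Q ∧
        ∀ (A : Set X) (g : X), A ⊆ (S : Subgroup X) → cj g '' A ⊆ (S : Subgroup X) →
          Realised (Subgroup.normalizer (Q : Set X)) (S : Subgroup X) A g from key _ G rfl hfree S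
  intro n
  induction n using Nat.strong_induction_on with
  | _ n ih =>
    intro X _ _ hn hX S
    by_cases h0 : pPrimeCore p X = ⊥
    swap
    · set N := pPrimeCore p X with hN
      set π := QuotientGroup.mk' N with hπ
      have hπs : Function.Surjective π := QuotientGroup.mk'_surjective N
      have hker : (Nat.card π.ker).Coprime p := by
        rw [hπ, QuotientGroup.ker_mk']; exact PBasic.pPrimeCore_coprime p X
      obtain ⟨Qb, hQb, hSQ, hcen, hctl⟩ := ih _ (hn ▸ card_quotient_lt h0) (X ⧸ N) rfl (hX.quotient N)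
        (S.mapSurjective hπs)
      set Q := (S : Subgroup X) ⊓ Qb.comap π with hQ
      have hQmap : Q.map π = Qb := by
        refine le_antisymm (Subgroup.map_le_iff_le_comap.2 inf_le_right) fun y hy => ?_
        obtain ⟨s, hs, rfl⟩ := hQb hy
        exact ⟨s, Subgroup.mem_inf.2 ⟨hs, hy⟩, rfl⟩
      have hQp : IsPGroup p ↥Q := S.isPGroup'.to_le inf_le_left
      have hinj := CoprimeQuotient.injOn_of_coprime_ker π hker S.isPGroup'
      have hSN : (S : Subgroup X) ≤ Subgroup.normalizer (Q : Set X) := by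
        refine ChiefAct.inf_le_normalizer Subgroup.le_normalizer ?_
        rw [← Subgroup.comap_normalizer_eq_of_surjective Qb hπs, ← Subgroup.map_le_iff_le_comap]
        exact hSQ
      refine ⟨Q, inf_le_left, hSN, fun s hs => ?_, fun A g hA hgA => ?_⟩
      · obtain ⟨hsS, hsC⟩ := Subgroup.mem_inf.1 hs
        refine Subgroup.mem_inf.2 ⟨hsS, hcen (Subgroup.mem_inf.2 ⟨⟨s, hsS, rfl⟩, ?_⟩)⟩
        rw [← hQmap, Subgroup.mem_centralizer_iff]
        rintro _ ⟨q, hq, rfl⟩
        rw [← map_mul, ← map_mul, Subgroup.mem_centralizer_iff.1 hsC q hq]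
      obtain ⟨-, -, nb, hnb, hna⟩ := hctl (π '' A) (π g) (by rintro _ ⟨a, ha, rfl⟩; exact ⟨a, hA ha, rfl⟩)
        (by rintro _ ⟨_, ⟨a, ha, rfl⟩, rfl⟩; exact ⟨_, hgA ⟨a, ha, rfl⟩, by simp [hπ]⟩)
      rw [← hQmap, CoprimeQuotient.normalizer_map π hπs hker hQp] at hnb
      obtain ⟨n, hn, rfl⟩ := hnb
      set L := Subgroup.normalizer (Q : Set X) ⊓ ((S : Subgroup X) ⊔ N) with hL
      have hBn : (Subgroup.closure A).map (cj n) ≤ L := by
        rw [MonoidHom.map_closure, Subgroup.closure_le]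
        rintro _ ⟨a, ha, rfl⟩
        refine Subgroup.mem_inf.2 ⟨mul_mem (mul_mem hn (hSN (hA ha))) (inv_mem hn), ?_⟩
        have h1 : (g * a * g⁻¹)⁻¹ * (n * a * n⁻¹) ∈ N := by
          rw [← QuotientGroup.eq]
          have h5 := hna _ ⟨a, ha, rfl⟩
          rw [← map_mul, ← map_inv, ← map_mul, ← map_mul, ← map_inv, ← map_mul] at h5
          exact h5.symm
        have h6 := mul_mem (Subgroup.mem_sup_left (T := N) (hgA ⟨a, ha, rfl⟩ : cj g a ∈ (S : Subgroup X)))
          (Subgroup.mem_sup_right (S := (S : Subgroup X)) h1)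
        rw [cj_apply, mul_inv_cancel_left] at h6
        exact h6
      obtain ⟨m, hm, hle⟩ := exists_conj_le_of_isSylowIn
        ((isSylowIn_sylow S).of_le (le_inf hSN le_sup_left) le_top : IsSylowIn p (S : Subgroup X) L)
        ((S.isPGroup'.to_le ((Subgroup.closure_le _).2 hA)).map _) hBn
      obtain ⟨s, hs, o, ho, rfl⟩ := Subgroup.mem_sup_of_normal_right.1 (Subgroup.mem_inf.1 hm).2
      have hoQ : o ∈ Subgroup.normalizer (Q : Set X) := by
        have := mul_mem (inv_mem (hSN hs)) (Subgroup.mem_inf.1 hm).1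
        rwa [inv_mul_cancel_left] at this
      refine ⟨hA, hgA, o * n, mul_mem hoQ hn, fun a ha => ?_⟩
      have h2 : o * n * a * (o * n)⁻¹ ∈ (S : Subgroup X) := by
        have h3 : s * o * (n * a * n⁻¹) * (s * o)⁻¹ ∈ (S : Subgroup X) :=
          hle ⟨_, ⟨a, Subgroup.subset_closure ha, rfl⟩, rfl⟩
        have := mul_mem (mul_mem (inv_mem hs) h3) hs
        simpa [mul_assoc] using this
      refine hinj h2 (hgA ⟨a, ha, rfl⟩) ?_
      have h4 := hna _ ⟨a, ha, rfl⟩
      rw [map_mul, map_mul, map_inv, map_mul,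
        show π o = 1 from (QuotientGroup.eq_one_iff o).2 ho, one_mul]
      simpa [map_mul, map_inv] using h4
    by_cases hC : PConstr p X
    · haveI := Cfsg.pCore_normal p X
      refine ⟨pCore p X, PBasic.pCore_le_sylow S, by rw [Subgroup.normalizer_eq_top]; exact le_top,
        inf_le_right.trans hC, fun A g hA hgA => ⟨hA, hgA, g, by rw [Subgroup.normalizer_eq_top]; exact Subgroup.mem_top g,
          fun a _ => rfl⟩⟩
    obtain ⟨U, hUne, hSU, hctl⟩ := exists_proper hp hX S h0 hC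
    set H := Subgroup.normalizer (U : Set X) with hH
    obtain ⟨Q, hQS, hSQ, hcen, hQctl⟩ := ih _ (hn ▸ card_lt_of_ne_top hUne) ↥H rfl (hX.subgroup H)
      (S.subtype hSU)
    refine ⟨Q.map H.subtype, ?_, ?_, ?_, fun A g hA hgA => ?_⟩
    · rintro _ ⟨q, hq, rfl⟩; exact hQS hq
    · intro s hs
      exact Subgroup.le_normalizer_map H.subtype
        ⟨⟨s, hSU hs⟩, hSQ (show (⟨s, hSU hs⟩ : H) ∈ (S : Subgroup X).subgroupOf H from hs), rfl⟩
    · intro s hs
      obtain ⟨hsS, hsC⟩ := Subgroup.mem_inf.1 hs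
      refine ⟨⟨s, hSU hsS⟩, hcen (Subgroup.mem_inf.2 ⟨hsS, Subgroup.mem_centralizer_iff.2 fun q hq =>
        Subtype.ext ?_⟩), rfl⟩
      exact Subgroup.mem_centralizer_iff.1 hsC (q : X) ⟨q, hq, rfl⟩
    obtain ⟨-, -, n, hn, hna⟩ := hctl A g hA hgA
    obtain ⟨-, -, m, hm, hma⟩ := hQctl (H.subtype ⁻¹' A) ⟨n, hn⟩ (fun x hx => hA hx) (by
      rintro _ ⟨x, hx, rfl⟩
      show n * (x : X) * n⁻¹ ∈ (S : Subgroup X)
      rw [show n * (x : X) * n⁻¹ = g * x * g⁻¹ from hna _ hx]
      exact hgA ⟨_, hx, rfl⟩)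
    refine ⟨hA, hgA, m, Subgroup.le_normalizer_map H.subtype ⟨m, hm, rfl⟩, fun a ha => ?_⟩
    rw [← hna a ha]
    exact congrArg Subtype.val (hma ⟨a, hSU (hA ha)⟩ ha)

/-- The centric radical subgroups contain one of them, and its normalizer controls fusion. -/
theorem exists_least (hp : p ≠ 2) (hfree : AutFree p G) (S : Sylow p G) :
    ∃ Q : Subgroup G, Q ≤ (S : Subgroup G) ∧ (S : Subgroup G) ≤ Subgroup.normalizer (Q : Set G) ∧
      (S : Subgroup G) ⊓ Subgroup.centralizer (Q : Set G) ≤ Q ∧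
      (∀ X : Subgroup G, X ≤ Subgroup.normalizer (Q : Set G) →
        (∀ n ∈ Subgroup.normalizer (Q : Set G), X.map (cj n) = X) →
        Q ⊔ Subgroup.centralizer (Q : Set G) ≤ X →
        (∃ k : ℕ, (Q ⊔ Subgroup.centralizer (Q : Set G)).relIndex X = p ^ k) →
        X = Q ⊔ Subgroup.centralizer (Q : Set G)) ∧
      ∀ (A : Set G) (g : G), A ⊆ (S : Subgroup G) → cj g '' A ⊆ (S : Subgroup G) →
        Realised (Subgroup.normalizer (Q : Set G)) (S : Subgroup G) A g := by
  classical
  obtain ⟨Q, ⟨hQS, hSQ, hcen, hctl⟩, hmax⟩ := Set.exists_max_image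
    {Q : Subgroup G | Q ≤ (S : Subgroup G) ∧ (S : Subgroup G) ≤ Subgroup.normalizer (Q : Set G) ∧
      (S : Subgroup G) ⊓ Subgroup.centralizer (Q : Set G) ≤ Q ∧
      ∀ (A : Set G) (g : G), A ⊆ (S : Subgroup G) → cj g '' A ⊆ (S : Subgroup G) →
        Realised (Subgroup.normalizer (Q : Set G)) (S : Subgroup G) A g}
    (fun Q => Nat.card Q) (Set.toFinite _) (exists_centric hp hfree S)
  refine ⟨Q, hQS, hSQ, hcen, fun X hXN hXn hCX ⟨k, hk⟩ => ?_, hctl⟩
  set C := Subgroup.centralizer (Q : Set G) with hC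
  set N := Subgroup.normalizer (Q : Set G) with hN
  set Q' := (S : Subgroup G) ⊓ X with hQ'
  have hNX : N ≤ Subgroup.normalizer (X : Set G) := fun n hn => map_cj_eq_iff.1 (hXn n hn)
  have hQQ' : Q ≤ Q' := le_inf hQS (le_sup_left.trans hCX)
  have hsyl : IsSylowIn p Q' X :=
    ((isSylowIn_sylow S).of_le hSQ le_top : IsSylowIn p (S : Subgroup G) N).inf_normalized hXN hNX
  have hSQ' : (S : Subgroup G) ≤ Subgroup.normalizer (Q' : Set G) :=
    ChiefAct.inf_le_normalizer Subgroup.le_normalizer (hSQ.trans hNX)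
  have hXeq : Q' ⊔ C = X := by
    refine le_antisymm (sup_le inf_le_right (le_sup_right.trans hCX)) ?_
    rw [← Subgroup.relIndex_eq_one]
    have h1 : Q'.relIndex X = (Q'.relIndex (Q' ⊔ C)) * (Q' ⊔ C).relIndex X :=
      (Subgroup.relIndex_mul_relIndex Q' (Q' ⊔ C) X le_sup_left
        (sup_le inf_le_right (le_sup_right.trans hCX))).symm
    have h2 : (Q' ⊔ C).relIndex X ∣ p ^ k := hk ▸ Subgroup.relIndex_dvd_of_le_left X
      (sup_le (hQQ'.trans le_sup_left) le_sup_right)
    obtain ⟨i, -, hi⟩ := (Nat.dvd_prime_pow (Fact.out : p.Prime)).1 h2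
    rw [hi]
    rcases Nat.eq_zero_or_pos i with rfl | hpos
    · rfl
    · refine absurd ?_ hsyl.2.2
      rw [h1, hi]
      exact (dvd_pow_self p hpos.ne').mul_left _
  -- the `p'`-part of the centralizer
  obtain ⟨R, hR⟩ : ∃ R : Sylow p C, (R : Subgroup C) = (S : Subgroup G).subgroupOf C := by
    obtain ⟨R, hR⟩ := ((isSylowIn_sylow S).of_le hSQ le_top : IsSylowIn p (S : Subgroup G) N).inf_normalized
      (E := C) (Subgroup.centralizer_le_normalizer _) (by
        intro n hn
        refine map_cj_eq_iff.1 ?_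
        have h : Q.map (cj n) = Q := map_cj_eq_iff.2 hn
        refine Subgroup.eq_of_le_of_card_ge ?_ (card_map_cj _ _).ge
        rintro _ ⟨c, hc, rfl⟩
        refine Subgroup.mem_centralizer_iff.2 fun q hq => ?_
        obtain ⟨q', hq', rfl⟩ := h.ge hq
        rw [← map_mul, ← map_mul, Subgroup.mem_centralizer_iff.1 hc q' hq']) |>.exists_sylow
    refine ⟨R, ?_⟩
    rw [hR, Subgroup.inf_subgroupOf_right]
  have hCnpc : HasNormalPComplement p C :=
    Fusion.hasNormalPComplement_of_normalizer_le_centralizer R fun y _ x hx => by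
      replace hx : x ∈ (S : Subgroup G).subgroupOf C := hR ▸ hx
      rw [Subgroup.mem_subgroupOf] at hx
      exact Subtype.ext (Subgroup.mem_centralizer_iff.1 y.2 _ (hcen (Subgroup.mem_inf.2 ⟨hx, x.2⟩)))
  set O := (pResidual p C).map C.subtype with hO
  have hOc : (Nat.card O).Coprime p := by
    rw [hO, Subgroup.card_map_of_injective C.subtype_injective]
    exact PBasic.hasNormalPComplement_iff_pResidual.1 hCnpc
  have hNO : N ≤ Subgroup.normalizer (O : Set G) := by
    intro n hn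
    refine map_cj_eq_iff.1 (Subgroup.eq_of_le_of_card_ge ?_ (card_map_cj _ _).ge)
    rw [hO, Subgroup.map_map, Subgroup.map_le_iff_le_comap, pResidual, Subgroup.closure_le]
    intro c hc
    have hcC : n * (c : G) * n⁻¹ ∈ C := Subgroup.mem_centralizer_iff.2 fun q hq => by
      have hq' : n⁻¹ * q * n ∈ Q := by
        simpa using (Subgroup.mem_normalizer_iff.1 (inv_mem hn) q).1 hq
      have := Subgroup.mem_centralizer_iff.1 c.2 _ hq'
      calc q * (n * c * n⁻¹) = n * ((n⁻¹ * q * n) * c) * n⁻¹ := by group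
        _ = n * c * n⁻¹ * q := by rw [this]; group
    refine ⟨⟨_, hcC⟩, PBasic.mem_pResidual ?_, rfl⟩
    rw [← Subgroup.orderOf_coe, show ((⟨_, hcC⟩ : C) : G) = cj n (c : G) from rfl,
      orderOf_injective _ (cj_injective n), Subgroup.orderOf_coe]
    exact hc
  have hCsplit : ∀ c ∈ C, ∃ z ∈ Q, ∃ o ∈ O, z * o = c := by
    intro c hc
    obtain ⟨z, hz, o, ho, hzo⟩ := Subgroup.mem_sup_of_normal_right.1
      ((PBasic.sylow_sup_pResidual R).ge (Subgroup.mem_top (⟨c, hc⟩ : C)))
    rw [hR, Subgroup.mem_subgroupOf] at hz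
    exact ⟨z, hcen (Subgroup.mem_inf.2 ⟨hz, z.2⟩), o, ⟨o, ho, rfl⟩, congrArg Subtype.val hzo⟩
  have hctl' : ∀ (A : Set G) (g : G), A ⊆ (S : Subgroup G) → cj g '' A ⊆ (S : Subgroup G) →
      Realised (Subgroup.normalizer (Q' : Set G)) (S : Subgroup G) A g := by
    intro A g hA hgA
    obtain ⟨-, -, n, hn, hna⟩ := hctl A g hA hgA
    obtain ⟨x, hxX, hxle⟩ := exists_conj_le_of_isSylowIn hsyl (hsyl.isPGroup.map (cj n))
      ((Subgroup.map_mono inf_le_right).trans (hXn n hn).le)
    rw [map_map_cj] at hxle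
    have hxn := map_cj_eq_iff.1 (Subgroup.eq_of_le_of_card_ge hxle (card_map_cj _ _).ge)
    obtain ⟨q, hq, c, hc, rfl⟩ : ∃ q ∈ Q', ∃ c ∈ C, q * c = x := by
      have hx' : x ∈ ((Q' ⊔ C : Subgroup G) : Set G) := hXeq.ge hxX
      rw [Subgroup.coe_mul_of_left_le_normalizer_right _ _ (fun y hy => by
        refine Subgroup.mem_normalizer_iff.2 fun w => ?_
        have key : ∀ y ∈ N, ∀ w ∈ C, y * w * y⁻¹ ∈ C := fun y hy w hw =>
          Subgroup.mem_centralizer_iff.2 fun q hq => by
            have hq' : y⁻¹ * q * y ∈ Q := by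
              simpa using (Subgroup.mem_normalizer_iff.1 (inv_mem hy) q).1 hq
            calc q * (y * w * y⁻¹) = y * ((y⁻¹ * q * y) * w) * y⁻¹ := by group
              _ = y * w * y⁻¹ * q := by rw [Subgroup.mem_centralizer_iff.1 hw _ hq']; group
        have hyN : y ∈ N := hSQ (Subgroup.mem_inf.1 hy).1
        exact ⟨key y hyN w, fun h => by simpa [mul_assoc] using key _ (inv_mem hyN) _ h⟩)] at hx'
      obtain ⟨q, hq, c, hc, rfl⟩ := Set.mem_mul.1 hx'
      exact ⟨q, hq, c, hc, rfl⟩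
    obtain ⟨z, hz, o, ho, rfl⟩ := hCsplit c hc
    have hm : o * n ∈ Subgroup.normalizer (Q' : Set G) := by
      have h1 : (q * z)⁻¹ ∈ Subgroup.normalizer (Q' : Set G) :=
        inv_mem (mul_mem (Subgroup.le_normalizer hq) (Subgroup.le_normalizer (hQQ' hz)))
      have := mul_mem h1 hxn
      simpa [mul_assoc] using this
    set L := ((S : Subgroup G) ⊔ O) ⊓ Subgroup.normalizer (Q' : Set G) with hL
    have hBn : (Subgroup.closure A).map (cj (o * n)) ≤ L := by
      rw [MonoidHom.map_closure, Subgroup.closure_le]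
      rintro _ ⟨a, ha, rfl⟩
      refine Subgroup.mem_inf.2 ⟨?_, mul_mem (mul_mem hm (hSQ' (hA ha))) (inv_mem hm)⟩
      have : cj (o * n) a = o * (g * a * g⁻¹) * o⁻¹ := by rw [← hna a ha, cj_apply]; group
      rw [this]
      exact mul_mem (mul_mem (Subgroup.mem_sup_right ho) (Subgroup.mem_sup_left (hgA ⟨a, ha, rfl⟩)))
        (inv_mem (Subgroup.mem_sup_right ho))
    obtain ⟨w, hw, hwle⟩ := exists_conj_le_of_isSylowIn
      ((isSylowIn_sylow S).of_le (le_inf le_sup_left hSQ') le_top : IsSylowIn p (S : Subgroup G) L)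
      ((S.isPGroup'.to_le ((Subgroup.closure_le _).2 hA)).map _) hBn
    have hw' : w ∈ (((S : Subgroup G) ⊔ O : Subgroup G) : Set G) := (Subgroup.mem_inf.1 hw).1
    rw [Subgroup.coe_mul_of_left_le_normalizer_right _ _ (hSQ.trans hNO)] at hw'
    obtain ⟨s, hs, o', ho', rfl⟩ := Set.mem_mul.1 hw'
    have ho'N : o' ∈ Subgroup.normalizer (Q' : Set G) := by
      have := mul_mem (inv_mem (hSQ' hs)) (Subgroup.mem_inf.1 hw).2
      rwa [inv_mul_cancel_left] at this
    refine ⟨hA, hgA, o' * (o * n), mul_mem ho'N hm, fun a ha => ?_⟩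
    set y := g * a * g⁻¹ with hy
    have hyS : y ∈ (S : Subgroup G) := hgA ⟨a, ha, rfl⟩
    have e1 : o' * (o * n) * a * (o' * (o * n))⁻¹ = (o' * o) * y * (o' * o)⁻¹ := by
      rw [hy, ← hna a ha]; group
    have h2 : (o' * o) * y * (o' * o)⁻¹ ∈ (S : Subgroup G) := by
      rw [← e1]
      have h3 : s * o' * ((o * n) * a * (o * n)⁻¹) * (s * o')⁻¹ ∈ (S : Subgroup G) :=
        hwle ⟨_, ⟨a, Subgroup.subset_closure ha, rfl⟩, rfl⟩
      have := mul_mem (mul_mem (inv_mem hs) h3) hs
      simpa [mul_assoc] using this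
    have hd : (o' * o) * y * (o' * o)⁻¹ * y⁻¹ ∈ O ⊓ (S : Subgroup G) := by
      refine Subgroup.mem_inf.2 ⟨?_, mul_mem h2 (inv_mem hyS)⟩
      have hoo : o' * o ∈ O := mul_mem ho' ho
      have h4 : y * (o' * o)⁻¹ * y⁻¹ ∈ O :=
        (Subgroup.mem_normalizer_iff.1 ((hSQ.trans hNO) hyS) _).1 (inv_mem hoo)
      have := mul_mem hoo h4
      simpa [mul_assoc] using this
    rw [PBasic.inf_eq_bot_of_coprime hOc S.isPGroup', Subgroup.mem_bot, mul_inv_eq_one] at hd
    rw [e1, hd]
  have hcard := hmax Q' ⟨inf_le_left, hSQ', fun s hs => hQQ' (hcen (Subgroup.mem_inf.2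
    ⟨(Subgroup.mem_inf.1 hs).1, Subgroup.centralizer_le (SetLike.coe_subset_coe.2 hQQ') (Subgroup.mem_inf.1 hs).2⟩)),
    hctl'⟩
  rw [← hXeq, Subgroup.eq_of_le_of_card_ge hQQ' hcard]

end Cfsg.Agent.AutFreeFusion
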