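import Cfsg.Agent.Lib.Functors.ClosedZJNPC

/-!
# The replacement form of the `ZJ` theorem

For a family of abelian subgroups of a Sylow subgroup closed under replacement, the intersection of the family is
normal in a group with `C(O_p(G)) ≤ O_p(G)` and enough stability; in the nilpotency criterion no stability is needed.
-/

set_option autoImplicit false
set_option linter.style.haveILetI false
set_option linter.unusedSectionVars false

namespace Cfsg.Agent.FamilyZJ

open Cfsg.Agent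
open scoped commutatorElement

universe u

variable {G : Type*} [Group G] {p : ℕ}

/-- The intersection of the members of a family inside `Q`. -/
def famInf (𝒜 : Set (Subgroup G)) (Q : Subgroup G) : Subgroup G :=
  ⨅ A ∈ {A : Subgroup G | A ∈ 𝒜 ∧ A ≤ Q}, A

theorem famInf_le_member {𝒜 : Set (Subgroup G)} {A Q : Subgroup G} (hA : A ∈ 𝒜) (hAQ : A ≤ Q) :
    famInf 𝒜 Q ≤ A := iInf₂_le A ⟨hA, hAQ⟩

theorem mem_famInf {𝒜 : Set (Subgroup G)} {Q : Subgroup G} {x : G} :
    x ∈ famInf 𝒜 Q ↔ ∀ A ∈ 𝒜, A ≤ Q → x ∈ A := by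
  simp only [famInf, Subgroup.mem_iInf, Set.mem_ofPred_eq, and_imp]

theorem famInf_anti (𝒜 : Set (Subgroup G)) {Q R : Subgroup G} (h : Q ≤ R) : famInf 𝒜 R ≤ famInf 𝒜 Q :=
  le_iInf₂ fun A hA => famInf_le_member hA.1 (hA.2.trans h)

/-- A family of abelian subgroups of `S` with invariance and replacement. -/
structure IsFamily (S : Subgroup G) (𝒜 : Set (Subgroup G)) : Prop where
  nonempty : 𝒜.Nonempty
  le : ∀ A ∈ 𝒜, A ≤ S
  comm : ∀ A ∈ 𝒜, ∀ x ∈ A, ∀ y ∈ A, x * y = y * x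
  inv : ∀ Q : Subgroup G, Q ≤ S → (∃ A ∈ 𝒜, A ≤ Q) → ∀ g ∈ Subgroup.normalizer (Q : Set G),
    ∀ x ∈ famInf 𝒜 Q, g * x * g⁻¹ ∈ famInf 𝒜 Q
  rep : ∀ B : Subgroup G, B ≤ S → ⁅⁅B, B⁆, B⁆ = ⊥ → (∃ A ∈ 𝒜, ⁅B, B⁆ ≤ A ∧ ¬ B ≤ A) →
    ∃ A ∈ 𝒜, ⁅B, B⁆ ≤ A ∧ ¬ B ≤ A ∧ B ≤ Subgroup.normalizer (A : Set G)

theorem IsFamily.normalizer_le {S Q : Subgroup G} {𝒜 : Set (Subgroup G)} (h : IsFamily S 𝒜) (hQ : Q ≤ S)
    (hA : ∃ A ∈ 𝒜, A ≤ Q) :
    Subgroup.normalizer (Q : Set G) ≤ Subgroup.normalizer (famInf 𝒜 Q : Set G) := fun g hg =>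
  Subgroup.mem_normalizer_iff.2 fun x => ⟨h.inv Q hQ hA g hg x, fun hx => by
    simpa [mul_assoc] using h.inv Q hQ hA g⁻¹ (Subgroup.inv_mem _ hg) _ hx⟩

theorem IsFamily.self_le_normalizer {S : Subgroup G} {𝒜 : Set (Subgroup G)} (h : IsFamily S 𝒜) :
    S ≤ Subgroup.normalizer (famInf 𝒜 S : Set G) :=
  Subgroup.le_normalizer.trans (h.normalizer_le le_rfl (h.nonempty.imp fun A hA => ⟨hA, h.le A hA⟩))

variable [Finite G] [hp : Fact p.Prime]

/-- The intersection of the family meets each normal `p`-subgroup in a normal subgroup. -/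
theorem famInf_inf_normal (hq : ZJ.IsQuad p G) (S : Sylow p G) {𝒜 : Set (Subgroup G)}
    (h : IsFamily (S : Subgroup G) 𝒜) (B : Subgroup G) [B.Normal] (hB : IsPGroup p B) :
    (famInf 𝒜 (S : Subgroup G) ⊓ B).Normal := by
  induction hn : Nat.card B using Nat.strong_induction_on generalizing B with
  | _ n ih =>
    set Z := famInf 𝒜 (S : Subgroup G) with hZ
    set W := Z ⊓ B with hW
    have hcl : Subgroup.normalClosure (W : Set G) ≤ B := Subgroup.normalClosure_le_normal inf_le_right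
    rcases lt_or_eq_of_le hcl with hlt | heq
    · have := ih _ (hn ▸ Set.ncard_lt_ncard (SetLike.coe_ssubset_coe.2 hlt) (Set.toFinite _))
        (Subgroup.normalClosure (W : Set G)) (hB.to_le hcl) rfl
      have h2 : Z ⊓ Subgroup.normalClosure (W : Set G) = W :=
        le_antisymm (inf_le_inf_left _ hcl) (le_inf inf_le_left Subgroup.le_normalClosure)
      rwa [h2] at this
    by_cases hB1 : B = ⊥
    · rw [hW, hB1, inf_bot_eq]; infer_instance
    have hlt : ⁅B, B⁆ < B := lt_of_le_of_ne (Subgroup.commutator_le_right B B) fun h =>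
      hB1 (le_bot_iff.1 (Fusion.le_of_le_commutator_sup hB.isNilpotent le_rfl bot_le
        (by rw [Subgroup.normalizer_eq_top]; exact le_top) (by rw [h, sup_bot_eq])))
    haveI hD : (Z ⊓ ⁅B, B⁆).Normal := ih _
      (hn ▸ Set.ncard_lt_ncard (SetLike.coe_ssubset_coe.2 hlt) (Set.toFinite _)) ⁅B, B⁆
      (hB.to_le hlt.le) rfl
    have hBS : B ≤ (S : Subgroup G) := ZJ.le_sylow S hB
    have hSZ : (S : Subgroup G) ≤ Subgroup.normalizer (Z : Set G) := h.self_le_normalizer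
    have hBZ : ⁅B, B⁆ ≤ Z := by
      refine (ZJ.commutator_normalClosure_le (N := Z ⊓ ⁅B, B⁆) heq fun z hz y hy => ⟨?_, ?_⟩).trans
        inf_le_left
      · rw [commutatorElement_def, mul_assoc, mul_assoc, ← mul_assoc y]
        exact Z.mul_mem hz.1 ((Subgroup.mem_normalizer_iff.1 (hSZ (hBS hy)) _).1 (Z.inv_mem hz.1))
      · exact Subgroup.commutator_mem_commutator hz.2 hy
    obtain ⟨A₀, hA₀⟩ := h.nonempty
    have hZA : ∀ A ∈ 𝒜, Z ≤ A := fun A hA => famInf_le_member hA (h.le A hA)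
    have hclass : ⁅⁅B, B⁆, B⁆ = ⊥ := by
      refine Subgroup.commutator_eq_bot_iff_le_centralizer.2 fun x hx => ?_
      have hBC : B ≤ Subgroup.centralizer ((⁅B, B⁆ : Subgroup G) : Set G) :=
        heq.ge.trans (Subgroup.normalClosure_le_normal fun z hz d hd =>
          h.comm A₀ hA₀ d (hZA A₀ hA₀ (hBZ hd)) z (hZA A₀ hA₀ hz.1))
      exact fun b hb => (hBC hb x hx).symm
    by_cases hall : ∀ A ∈ 𝒜, B ≤ A
    · have : W = B := inf_eq_right.2 (le_iInf₂ fun A hA => hall A hA.1)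
      rw [this]
      infer_instance
    exfalso
    push Not at hall
    obtain ⟨A₁, hA₁, hBA₁⟩ := hall
    obtain ⟨A, hA, -, hBA, hBn⟩ := h.rep B hBS hclass ⟨A₁, hA₁, hBZ.trans (hZA A₁ hA₁), hBA₁⟩
    set L := (Subgroup.normalizer (W : Set G)).normalCore with hL
    have hLW : L ≤ Subgroup.normalizer (W : Set G) := Subgroup.normalCore_le _
    have hSW : (S : Subgroup G) ≤ Subgroup.normalizer (W : Set G) := fun s hs =>
      Subgroup.inf_normalizer_le_normalizer_inf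
        ⟨hSZ hs, by rw [Subgroup.normalizer_eq_top]; exact Subgroup.mem_top s⟩
    have hML : ZJ.stab p B ≤ L :=
      Subgroup.normal_le_normalCore.2 (ZJ.stab_le_normalizer S B inf_le_right hSW)
    obtain ⟨TL, hTL⟩ := PBasic.exists_sylow_subgroupOf S L
    set T := (S : Subgroup G) ⊓ L with hT
    have hTmap : (TL : Subgroup L).map L.subtype = T := by
      rw [hTL, Subgroup.subgroupOf_map_subtype]
    have hfr : Subgroup.normalizer (T : Set G) ⊔ L = ⊤ := by
      rw [← hTmap]; exact Sylow.normalizer_sup_eq_top TL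
    have hAT : A ≤ T := le_inf (h.le A hA)
      ((ZJ.mem_stab hq hB (S.isPGroup'.to_le (h.le A hA)) (h.comm A hA) hBn).trans hML)
    have hTn := h.normalizer_le (inf_le_left : T ≤ S) ⟨A, hA, hAT⟩
    refine hBA ((le_trans heq.ge ?_).trans (famInf_le_member hA hAT))
    rw [Subgroup.normalClosure, Subgroup.closure_le]
    intro y hy
    obtain ⟨w, hw, hwy⟩ := Group.mem_conjugatesOfSet_iff.1 hy
    obtain ⟨g, rfl⟩ := isConj_iff.1 hwy
    have hg : g ∈ Subgroup.normalizer (T : Set G) ⊔ L := hfr ▸ Subgroup.mem_top g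
    rw [← SetLike.mem_coe, Subgroup.mul_normal] at hg
    obtain ⟨n, hn', l, hl, rfl⟩ := Set.mem_mul.1 hg
    have h1 : l * w * l⁻¹ ∈ W := (Subgroup.mem_normalizer_iff.1 (hLW hl) w).1 hw
    have h2 := (Subgroup.mem_normalizer_iff.1 (hTn hn') _).1 (famInf_anti 𝒜 inf_le_left h1.1)
    rw [SetLike.mem_coe]
    simpa only [mul_inv_rev, mul_assoc] using h2

/-- The intersection of the family is normal. -/
theorem famInf_normal (hq : ZJ.IsQuad p G)
    (hC : Subgroup.centralizer ((Cfsg.pCore p G : Subgroup G) : Set G) ≤ Cfsg.pCore p G) (S : Sylow p G)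
    {𝒜 : Set (Subgroup G)} (h : IsFamily (S : Subgroup G) 𝒜) : (famInf 𝒜 (S : Subgroup G)).Normal := by
  set U := Cfsg.pCore p G with hU
  haveI : U.Normal := Cfsg.pCore_normal p G
  set Z := famInf 𝒜 (S : Subgroup G) with hZ
  obtain ⟨A₀, hA₀⟩ := h.nonempty
  have hZA : Z ≤ A₀ := famInf_le_member hA₀ (h.le A₀ hA₀)
  have h1 : Z ≤ ZJ.stab p U := ZJ.mem_stab hq (PBasic.pCore_isPGroup p G)
    (S.isPGroup'.to_le (hZA.trans (h.le A₀ hA₀))) (fun x hx y hy => h.comm A₀ hA₀ x (hZA hx) y (hZA hy))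
    ((PBasic.pCore_le_sylow S).trans h.self_le_normalizer)
  have hst : IsPGroup p (ZJ.stab p U) := by
    refine (PBasic.pCore_isPGroup p (G ⧸ Subgroup.centralizer (U : Set G))).comap_of_ker_isPGroup _ ?_
    rw [QuotientGroup.ker_mk']
    exact (PBasic.pCore_isPGroup p G).to_le hC
  have h2 : Z ⊓ U = Z := inf_eq_left.2 (h1.trans (PBasic.le_pCore (ZJ.stab_normal p U) hst))
  rw [← h2]
  exact famInf_inf_normal hq S h U (PBasic.pCore_isPGroup p G)

theorem famInf_subgroupOf {𝒜 : Set (Subgroup G)} (K Q : Subgroup G) (hne : ∃ A ∈ 𝒜, A ≤ Q ⊓ K)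
    (hK : ∀ A ∈ 𝒜, A ≤ K) (x : K) :
    x ∈ famInf ((fun A : Subgroup G => A.subgroupOf K) '' 𝒜) (Q.subgroupOf K) ↔ (x : G) ∈ famInf 𝒜 Q := by
  rw [mem_famInf, mem_famInf]
  constructor
  · intro hx A hA hAQ
    exact hx _ ⟨A, hA, rfl⟩ (fun y hy => hAQ hy)
  · rintro hx _ ⟨A, hA, rfl⟩ hAQ
    refine hx A hA fun y hy => ?_
    exact hAQ (show (⟨y, hK A hA hy⟩ : K) ∈ A.subgroupOf K from hy)

omit hp in
theorem IsFamily.subgroupOf {S K : Subgroup G} {𝒜 : Set (Subgroup G)} (h : IsFamily S 𝒜) (hSK : S ≤ K) :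
    IsFamily (S.subgroupOf K) ((fun A : Subgroup G => A.subgroupOf K) '' 𝒜) := by
  have hK : ∀ A ∈ 𝒜, A ≤ K := fun A hA => (h.le A hA).trans hSK
  refine ⟨h.nonempty.image _, ?_, ?_, ?_, ?_⟩
  · rintro _ ⟨A, hA, rfl⟩
    exact fun x hx => h.le A hA hx
  · rintro _ ⟨A, hA, rfl⟩ x hx y hy
    exact Subtype.ext (h.comm A hA _ hx _ hy)
  · rintro Q hQ ⟨_, ⟨A, hA, rfl⟩, hAQ⟩ g hg x hx
    have hQK : Q.map K.subtype ≤ K := Subgroup.map_subtype_le _
    have hQe : (Q.map K.subtype).subgroupOf K = Q :=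
      Subgroup.comap_map_eq_self_of_injective K.subtype_injective Q
    have hne : ∃ A ∈ 𝒜, A ≤ Q.map K.subtype ⊓ K := ⟨A, hA, fun y hy =>
      ⟨⟨⟨y, hK A hA hy⟩, hAQ hy, rfl⟩, hK A hA hy⟩⟩
    rw [← hQe] at hx ⊢
    rw [famInf_subgroupOf K _ hne hK] at hx ⊢
    refine h.inv (Q.map K.subtype) ?_ ⟨A, hA, fun y hy => ⟨⟨y, hK A hA hy⟩, hAQ hy, rfl⟩⟩ g
      (Subgroup.le_normalizer_map K.subtype ⟨g, hg, rfl⟩) _ hx
    rintro _ ⟨y, hy, rfl⟩
    exact hQ hy
  · rintro B hB hcl ⟨_, ⟨A, hA, rfl⟩, hBA, hnot⟩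
    have hcomm : ⁅B.map K.subtype, B.map K.subtype⁆ = ⁅B, B⁆.map K.subtype :=
      (Subgroup.map_commutator _ _ _).symm
    obtain ⟨A', hA', h1, h2, h3⟩ := h.rep (B.map K.subtype) (by rintro _ ⟨y, hy, rfl⟩; exact hB hy)
      (by rw [hcomm, ← Subgroup.map_commutator, hcl, Subgroup.map_bot])
      ⟨A, hA, by rw [hcomm, Subgroup.map_le_iff_le_comap]; exact hBA,
        fun hle => hnot fun y hy => hle ⟨y, hy, rfl⟩⟩
    refine ⟨_, ⟨A', hA', rfl⟩, fun y hy => h1 (hcomm.ge ⟨y, hy, rfl⟩), fun hle => h2 ?_, fun y hy => ?_⟩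
    · rintro _ ⟨y, hy, rfl⟩
      exact hle hy
    · exact (ZJ.comap_normalizer_eq (hK A' hA') y).2 (h3 ⟨y, hy, rfl⟩)

/-- The nilpotency criterion for a family with replacement. -/
theorem isPGroup_of_family {G : Type u} [Group G] [Finite G] {p : ℕ} [hp : Fact p.Prime] (hp2 : p ≠ 2)
    (hC : Subgroup.centralizer ((Cfsg.pCore p G : Subgroup G) : Set G) ≤ Cfsg.pCore p G) (P : Sylow p G)
    {𝒜 : Set (Subgroup G)} (h : IsFamily (P : Subgroup G) 𝒜)
    (hN : Subgroup.normalizer (famInf 𝒜 (P : Subgroup G) : Set G) ≤ (P : Subgroup G)) : IsPGroup p G := by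
  suffices key : ∀ n : ℕ, ∀ (G : Type u) [Group G] [Finite G], Nat.card G = n →
      Subgroup.centralizer ((Cfsg.pCore p G : Subgroup G) : Set G) ≤ Cfsg.pCore p G →
      ∀ (P : Sylow p G) (𝒜 : Set (Subgroup G)), IsFamily (P : Subgroup G) 𝒜 →
        Subgroup.normalizer (famInf 𝒜 (P : Subgroup G) : Set G) ≤ (P : Subgroup G) → IsPGroup p G from
    key _ G rfl hC P 𝒜 h hN
  intro n
  induction n using Nat.strong_induction_on with
  | _ n ih =>
    intro G _ _ hn hC P 𝒜 h hN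
    have htop : (P : Subgroup G) = ⊤ → IsPGroup p G := fun he =>
      (he ▸ P.isPGroup').of_equiv Subgroup.topEquiv
    set U := Cfsg.pCore p G with hU
    haveI : U.Normal := Cfsg.pCore_normal p G
    have hUP : U ≤ (P : Subgroup G) := PBasic.pCore_le_sylow P
    obtain ⟨A₀, hA₀⟩ := h.nonempty
    by_cases hPn : (P : Subgroup G).Normal
    · refine htop (eq_top_iff.2 (le_trans ?_ hN))
      refine le_trans ?_ (h.normalizer_le le_rfl ⟨A₀, hA₀, h.le A₀ hA₀⟩)
      rw [Subgroup.normalizer_eq_top]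
    -- overgroups of `P`
    have hmax : ∀ L : Subgroup G, (P : Subgroup G) ≤ L → L ≠ ⊤ → L = (P : Subgroup G) := by
      intro L hPL hL
      refine P.is_maximal' ?_ hPL
      have hlt : Nat.card L < n := hn ▸ lt_of_le_of_ne (Subgroup.card_le_card_group L)
        fun he => hL (Subgroup.eq_top_of_card_eq L he)
      have hUL : U.subgroupOf L ≤ Cfsg.pCore p L :=
        PBasic.le_pCore inferInstance (PBasic.pCore_isPGroup p G).comap_subtype
      refine ih _ hlt L rfl ?_ (P.subtype hPL) _ (h.subgroupOf hPL) ?_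
      · refine le_trans (fun x hx => ?_) hUL
        refine hC (Subgroup.mem_centralizer_iff.2 fun u hu => ?_)
        exact congrArg Subtype.val (Subgroup.mem_centralizer_iff.1 hx ⟨u, hPL (hUP hu)⟩ (hUL hu))
      · intro x hx
        rw [Sylow.coe_subtype, Subgroup.mem_subgroupOf]
        refine hN ?_
        have hZP : famInf 𝒜 (P : Subgroup G) ≤ L :=
          (famInf_le_member hA₀ (h.le A₀ hA₀)).trans ((h.le A₀ hA₀).trans hPL)
        refine (ZJ.comap_normalizer_eq hZP x).1 ?_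
        convert hx using 3
        ext y
        rw [Subgroup.mem_subgroupOf, Sylow.coe_subtype]
        exact (famInf_subgroupOf L _ ⟨A₀, hA₀, le_inf (h.le A₀ hA₀) ((h.le A₀ hA₀).trans hPL)⟩
          (fun A hA => (h.le A hA).trans hPL) y).symm
    -- the quotient by `O_p(G)`
    set f := QuotientGroup.mk' U with hf
    have hfs : Function.Surjective f := QuotientGroup.mk'_surjective U
    have hO : Cfsg.pCore p (G ⧸ U) = ⊥ := PBasic.pCore_quotient_pCore p G
    set Pbar := P.mapSurjective hfs with hPbar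
    have hPbar1 : (Pbar : Subgroup (G ⧸ U)) ≠ ⊥ := by
      intro hb
      rw [Sylow.coe_mapSurjective, Subgroup.map_eq_bot_iff, hf, QuotientGroup.ker_mk'] at hb
      exact hPn (le_antisymm hb hUP ▸ inferInstance)
    have hmaxbar : ∀ L : Subgroup (G ⧸ U), (Pbar : Subgroup (G ⧸ U)) ≤ L → L ≠ ⊤ →
        L = (Pbar : Subgroup (G ⧸ U)) := by
      intro L hL hLtop
      have h' := hmax (L.comap f) (by rw [← Subgroup.map_le_iff_le_comap]; exact hL) (fun h => hLtop (by
        rw [← Subgroup.map_comap_eq_self_of_surjective hfs L, h, Subgroup.map_top_of_surjective f hfs]))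
      rw [hPbar, Sylow.coe_mapSurjective, ← h', Subgroup.map_comap_eq_self_of_surjective hfs]
    have hbar : Cfsg.HasNormalPComplement p (G ⧸ U) := by
      have hcl : Cfsg.IsStronglyClosed (Pbar : Subgroup (G ⧸ U)) (Pbar : Subgroup (G ⧸ U)) :=
        ⟨le_rfl, fun x _ g hg => hg⟩
      refine ClosedZJNPC.hasNormalPComplement_of_zCore hp2 False Pbar hcl ?_
      set Z := ZJ.zCore p False (Pbar : Subgroup (G ⧸ U)) with hZdef
      have hZ1 : Z ≠ ⊥ := ZJ.zCore_ne_bot (e := False) Pbar.isPGroup' hPbar1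
      have hPle : (Pbar : Subgroup (G ⧸ U)) ≤ Subgroup.normalizer (Z : Set (G ⧸ U)) :=
        (ZJ.le_normalizer_zJ _).trans (ZJ.normalizer_zJ_le_normalizer_zCore _)
      have hne : Subgroup.normalizer (Z : Set (G ⧸ U)) ≠ ⊤ := fun ht => hZ1 (le_bot_iff.1 (hO ▸
        PBasic.le_pCore (Subgroup.normalizer_eq_top_iff.1 ht)
          (Pbar.isPGroup'.to_le (ClosedZJ.zCore_le _))))
      rw [hmaxbar _ hPle hne]
      exact PBasic.hasNormalPComplement_of_isPGroup Pbar.isPGroup'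
    have hK := ThompsonNPC.pResidual_commute_of_maximal Pbar hbar hmaxbar
    haveI := famInf_normal (ZJNPC.isQuad_of_abelian_residual hp2 hbar hK) hC P h
    rw [Subgroup.normalizer_eq_top] at hN
    exact htop (top_le_iff.1 hN)

end Cfsg.Agent.FamilyZJ
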