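import Cfsg.Agent.Lib.LocalEven.Coprime
import Cfsg.Agent.Lib.Transfer.Basic
import Cfsg.Prelude.Def_LocalEven

/-!
Elements acting on chief factors: iterated commutators element by element, kernels, coprime
stabilizers of series, semisimplicity under normal subgroups.
-/

set_option autoImplicit false
set_option linter.style.haveILetI false
set_option linter.unusedSectionVars false

namespace Cfsg.Agent.ChiefAct

open Cfsg
open scoped commutatorElement Pointwise

variable {G : Type*} [Group G]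

/-- `[U, ⟨g⟩] ≤ V` is read off on `[u, g]` when `g` normalizes `V` and `U` normalizes `V`. -/
theorem commutator_zpowers_le {U V : Subgroup G} {g : G} (hg : g ∈ Subgroup.normalizer (V : Set G))
    (h : ∀ u ∈ U, ⁅u, g⁆ ∈ V) : ⁅U, Subgroup.zpowers g⁆ ≤ V := by
  refine Subgroup.commutator_le.2 fun u hu y hy => ?_
  rw [Subgroup.zpowers_eq_closure] at hy
  suffices y ∈ Subgroup.normalizer (V : Set G) ∧ ∀ u ∈ U, ⁅u, y⁆ ∈ V from this.2 u hu
  induction hy using Subgroup.closure_induction with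
  | mem z hz => rw [Set.mem_singleton_iff] at hz; subst hz; exact ⟨hg, h⟩
  | one => exact ⟨one_mem _, fun u _ => by simp⟩
  | mul a b _ _ iha ihb =>
    refine ⟨mul_mem iha.1 ihb.1, fun u hu => ?_⟩
    rw [show ⁅u, a * b⁆ = ⁅u, a⁆ * (a * ⁅u, b⁆ * a⁻¹) by simp only [commutatorElement_def]; group]
    exact mul_mem (iha.2 u hu) ((Subgroup.mem_normalizer_iff.1 iha.1 _).1 (ihb.2 u hu))
  | inv a _ iha =>
    refine ⟨inv_mem iha.1, fun u hu => ?_⟩
    rw [show ⁅u, a⁻¹⁆ = a⁻¹ * ⁅u, a⁆⁻¹ * a⁻¹⁻¹ by simp only [commutatorElement_def]; group]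
    exact (Subgroup.mem_normalizer_iff.1 (inv_mem iha.1) _).1 (inv_mem (iha.2 u hu))

theorem commutator_zpowers_le_iff {U V : Subgroup G} [hV : V.Normal] {g : G} :
    ⁅U, Subgroup.zpowers g⁆ ≤ V ↔ ∀ u ∈ U, ⁅u, g⁆ ∈ V :=
  ⟨fun h u hu => h (Subgroup.commutator_mem_commutator hu (Subgroup.mem_zpowers g)),
    commutator_zpowers_le (by simp [Subgroup.normalizer_eq_top])⟩

/-! ### iterated commutators element by element -/

/-- `u ↦ [u, g]`. -/
def dg (g u : G) : G := ⁅u, g⁆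

theorem dg_mem {X : Subgroup G} [hX : X.Normal] {g u : G} (hu : u ∈ X) : dg g u ∈ X := by
  rw [dg, commutatorElement_def, mul_assoc, mul_assoc, ← mul_assoc g]
  exact mul_mem hu (hX.conj_mem _ (inv_mem hu) g)

theorem dg_iterate_mem {X : Subgroup G} [X.Normal] {g u : G} (hu : u ∈ X) (n : ℕ) :
    (dg g)^[n] u ∈ X := by
  induction n with
  | zero => exact hu
  | succ n ih => rw [Function.iterate_succ_apply']; exact dg_mem ih

theorem dg_conj (g u : G) : dg g (g * u * g⁻¹) = g * dg g u * g⁻¹ := by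
  simp only [dg, commutatorElement_def]; group

theorem dg_iterate_conj (g u : G) (n : ℕ) : (dg g)^[n] (g * u * g⁻¹) = g * (dg g)^[n] u * g⁻¹ := by
  induction n with
  | zero => rfl
  | succ n ih => rw [Function.iterate_succ_apply', ih, dg_conj, Function.iterate_succ_apply']

theorem dg_iterate_mem_iterCommutator {R : Subgroup G} {g u : G} (hu : u ∈ R) (n : ℕ) :
    (dg g)^[n] u ∈ iterCommutator R (Subgroup.zpowers g) n := by
  induction n with
  | zero => exact hu
  | succ n ih =>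
    rw [Function.iterate_succ_apply']
    exact Subgroup.commutator_mem_commutator ih (Subgroup.mem_zpowers g)

/-- The elements of `X` whose `n`-th iterated commutator with `g` lies in `Y`. -/
theorem exists_dker (X Y : Subgroup G) [X.Normal] [hY : Y.Normal] (hYX : Y ≤ X)
    (hab : ⁅X, X⁆ ≤ Y) (g : G) (n : ℕ) :
    ∃ R : Subgroup G, Y ≤ R ∧ R ≤ X ∧ ∀ u ∈ X, (u ∈ R ↔ (dg g)^[n] u ∈ Y) := by
  induction n with
  | zero => exact ⟨Y, le_rfl, hYX, fun u _ => Iff.rfl⟩
  | succ n ih =>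
    obtain ⟨R, hYR, hRX, hR⟩ := ih
    have hnorm : ∀ s ∈ X, ∀ r ∈ R, s * r * s⁻¹ ∈ R := fun s hs r hr => by
      rw [show s * r * s⁻¹ = ⁅s, r⁆ * r by simp only [commutatorElement_def]; group]
      exact mul_mem (hYR (hab (Subgroup.commutator_mem_commutator hs (hRX hr)))) hr
    refine ⟨{ carrier := {u | u ∈ X ∧ dg g u ∈ R}
              mul_mem' := ?_
              one_mem' := ⟨one_mem _, by simp [dg]⟩
              inv_mem' := ?_ }, fun y hy => ⟨hYX hy, hYR (dg_mem hy)⟩, fun u hu => hu.1, fun u hu => ?_⟩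
    · rintro s t ⟨hs, hs'⟩ ⟨ht, ht'⟩
      refine ⟨mul_mem hs ht, ?_⟩
      rw [show dg g (s * t) = (s * dg g t * s⁻¹) * dg g s by
        simp only [dg, commutatorElement_def]; group]
      exact mul_mem (hnorm s hs _ ht') hs'
    · rintro s ⟨hs, hs'⟩
      refine ⟨inv_mem hs, ?_⟩
      rw [show dg g s⁻¹ = s⁻¹ * (dg g s)⁻¹ * s⁻¹⁻¹ by
        simp only [dg, commutatorElement_def]; group]
      exact hnorm _ (inv_mem hs) _ (inv_mem hs')
    · rw [Function.iterate_succ_apply, ← hR _ (dg_mem hu)]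
      exact ⟨fun h => h.2, fun h => ⟨hu, h⟩⟩

theorem dg_mul_mem (X Y : Subgroup G) [X.Normal] [Y.Normal] (hYX : Y ≤ X) (hab : ⁅X, X⁆ ≤ Y)
    {g s t : G} (hs : s ∈ X) (ht : t ∈ X) {n : ℕ} (hs' : (dg g)^[n] s ∈ Y)
    (ht' : (dg g)^[n] t ∈ Y) : (dg g)^[n] (s * t) ∈ Y := by
  obtain ⟨R, -, -, hR⟩ := exists_dker X Y hYX hab g n
  exact (hR _ (mul_mem hs ht)).1 (mul_mem ((hR _ hs).2 hs') ((hR _ ht).2 ht'))

/-- `[R, g; n] ≤ Y`, element by element. -/
theorem iterCommutator_le_iff {X Y : Subgroup G} [hX : X.Normal] [hY : Y.Normal] (hYX : Y ≤ X)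
    (hab : ⁅X, X⁆ ≤ Y) {R : Subgroup G} (hRX : R ≤ X) (g : G) (n : ℕ) :
    iterCommutator R (Subgroup.zpowers g) n ≤ Y ↔ ∀ u ∈ R, (dg g)^[n] u ∈ Y := by
  refine ⟨fun h u hu => h (dg_iterate_mem_iterCommutator hu n), fun h => ?_⟩
  suffices key : ∀ k, k ≤ n → ∀ u ∈ iterCommutator R (Subgroup.zpowers g) k,
      u ∈ X ∧ (dg g)^[n - k] u ∈ Y from fun u hu => by simpa using (key n le_rfl u hu).2
  intro k
  induction k with
  | zero => exact fun _ u hu => ⟨hRX hu, h u hu⟩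
  | succ k ih =>
    intro hk u hu
    obtain ⟨S, hYS, hSX, hS⟩ := exists_dker X Y hYX hab g (n - (k + 1))
    have hgS : g ∈ Subgroup.normalizer (S : Set G) := by
      refine Subgroup.mem_normalizer_iff.2 fun z => ⟨fun hz => ?_, fun hz => ?_⟩
      · rw [hS _ (hX.conj_mem _ (hSX hz) g), dg_iterate_conj]
        exact hY.conj_mem _ ((hS z (hSX hz)).1 hz) g
      · have hzX : z ∈ X := by simpa [mul_assoc] using hX.conj_mem _ (hSX hz) g⁻¹
        have h1 := (hS _ (hSX hz)).1 hz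
        rw [dg_iterate_conj] at h1
        rw [hS z hzX]
        simpa [mul_assoc] using hY.conj_mem _ h1 g⁻¹
    have hu' : u ∈ S := by
      refine commutator_zpowers_le (U := iterCommutator R (Subgroup.zpowers g) k) hgS (fun v hv => ?_) hu
      obtain ⟨hvX, hv'⟩ := ih (Nat.le_of_succ_le hk) v hv
      change dg g v ∈ S
      rw [hS _ (dg_mem hvX), ← Function.iterate_succ_apply]
      rwa [Nat.succ_eq_add_one, show n - (k + 1) + 1 = n - k by omega]
    exact ⟨hSX hu', (hS u (hSX hu')).1 hu'⟩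

theorem quadratic_le_iff {X Y : Subgroup G} [X.Normal] [Y.Normal] (hYX : Y ≤ X)
    (hab : ⁅X, X⁆ ≤ Y) {R : Subgroup G} (hRX : R ≤ X) (g : G) :
    ⁅⁅R, Subgroup.zpowers g⁆, Subgroup.zpowers g⁆ ≤ Y ↔ ∀ u ∈ R, ⁅⁅u, g⁆, g⁆ ∈ Y :=
  iterCommutator_le_iff hYX hab hRX g 2

/-! ### chief factors -/

theorem exists_chiefFactor_above [Finite G] {Z A : Subgroup G} [hA : A.Normal] [hZ : Z.Normal]
    (hlt : Z < A) : ∃ V : Subgroup G, Z ≤ V ∧ IsChiefFactor A V := by
  obtain ⟨V, ⟨hVn, hZV, hVA⟩, hmax⟩ :=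
    (Set.toFinite {V : Subgroup G | V.Normal ∧ Z ≤ V ∧ V < A}).exists_maximal ⟨Z, hZ, le_rfl, hlt⟩
  refine ⟨V, hZV, hVA, hA, hVn, fun N hN hVN hNA => ?_⟩
  rcases eq_or_lt_of_le hNA with h | h
  · exact Or.inr h
  · exact Or.inl (le_antisymm (hmax ⟨hN, hZV.trans hVN, h⟩ hVN) hVN)

/-- The elements acting trivially on `U/V`. -/
def modCent (U V : Subgroup G) [hV : V.Normal] : Subgroup G where
  carrier := {x | ∀ u ∈ U, ⁅u, x⁆ ∈ V}
  one_mem' := fun u _ => by simp
  mul_mem' := fun {x y} hx hy u hu => by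
    rw [show ⁅u, x * y⁆ = ⁅u, x⁆ * (x * ⁅u, y⁆ * x⁻¹) by simp only [commutatorElement_def]; group]
    exact mul_mem (hx u hu) (hV.conj_mem _ (hy u hu) x)
  inv_mem' := fun {x} hx u hu => by
    rw [show ⁅u, x⁻¹⁆ = x⁻¹ * ⁅u, x⁆⁻¹ * x⁻¹⁻¹ by simp only [commutatorElement_def]; group]
    exact hV.conj_mem _ (inv_mem (hx u hu)) _

theorem mem_modCent {U V : Subgroup G} [V.Normal] {x : G} :
    x ∈ modCent U V ↔ ∀ u ∈ U, ⁅u, x⁆ ∈ V := Iff.rfl

instance modCent_normal (U V : Subgroup G) [hU : U.Normal] [hV : V.Normal] :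
    (modCent U V).Normal where
  conj_mem x hx g u hu := by
    rw [show ⁅u, g * x * g⁻¹⁆ = g * ⁅g⁻¹ * u * g, x⁆ * g⁻¹ by
      simp only [commutatorElement_def]; group]
    refine hV.conj_mem _ (hx _ ?_) g
    simpa using hU.conj_mem u hu g⁻¹

/-- The elements acting trivially on every chief factor between `Z` and `A`. -/
def facKer (Z A : Subgroup G) : Subgroup G where
  carrier := {x | ∀ U V : Subgroup G, IsChiefFactor U V → Z ≤ V → U ≤ A → ∀ u ∈ U, ⁅u, x⁆ ∈ V}
  one_mem' := fun U V _ _ _ u _ => by simp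
  mul_mem' := fun hx hy U V h hZ hA =>
    haveI := h.2.2.1
    (modCent U V).mul_mem (hx U V h hZ hA) (hy U V h hZ hA)
  inv_mem' := fun hx U V h hZ hA =>
    haveI := h.2.2.1
    (modCent U V).inv_mem (hx U V h hZ hA)

theorem mem_facKer {Z A : Subgroup G} {x : G} : x ∈ facKer Z A ↔
    ∀ U V : Subgroup G, IsChiefFactor U V → Z ≤ V → U ≤ A → ∀ u ∈ U, ⁅u, x⁆ ∈ V := Iff.rfl

instance facKer_normal (Z A : Subgroup G) : (facKer Z A).Normal where
  conj_mem x hx g U V h hZ hA :=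
    haveI := h.2.1
    haveI := h.2.2.1
    (modCent_normal U V).conj_mem x (hx U V h hZ hA) g

section finite

variable [Finite G] {p : ℕ} [Fact p.Prime]

theorem coprime_zpowers {x : G} (hx : (orderOf x).Coprime p) : ¬ p ∣ Nat.card ↥(Subgroup.zpowers x) := by
  rw [Nat.card_zpowers]
  exact (Fact.out : p.Prime).coprime_iff_not_dvd.1 hx.symm

/-- A `p'`-element stabilizing a chief series of `A/Z` centralizes it. -/
theorem commutator_le_of_facKer {A Z : Subgroup G} [hA : A.Normal] [hZ : Z.Normal]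
    (hAp : IsPGroup p ↥A) (hZA : Z ≤ A) {x : G} (hx : (orderOf x).Coprime p)
    (hker : x ∈ facKer Z A) : ⁅A, Subgroup.zpowers x⁆ ≤ Z := by
  suffices key : ∀ A : Subgroup G, A.Normal → IsPGroup p ↥A → Z ≤ A → x ∈ facKer Z A →
      ⁅A, Subgroup.zpowers x⁆ ≤ Z from key A hA hAp hZA hker
  intro A
  induction A using (wellFounded_lt (α := Subgroup G)).induction with
  | _ A ih =>
    intro hAn hAp hZA hker
    rcases eq_or_lt_of_le hZA with h | h
    · subst h; exact Subgroup.commutator_le_left _ _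
    · obtain ⟨V, hZV, hch⟩ := exists_chiefFactor_above h
      haveI := hch.2.2.1
      have h1 : ⁅A, Subgroup.zpowers x⁆ ≤ V :=
        commutator_zpowers_le_iff.2 fun u hu => hker A V hch hZV le_rfl u hu
      have h2 := ih V hch.1 hch.2.2.1 (hAp.to_le hch.1.le) hZV fun U W hUW hZW hUV =>
        hker U W hUW hZW (hUV.trans hch.1.le)
      rw [← LECoprime.commutator_commutator_eq hAp (coprime_zpowers hx)
        (by rw [Subgroup.normalizer_eq_top]; exact le_top)]
      exact (Subgroup.commutator_mono h1 le_rfl).trans h2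

/-- A `p'`-element centralizing `A/Z` and `Z` centralizes `A`. -/
theorem mem_centralizer_of_facKer {A Z : Subgroup G} [hA : A.Normal] [hZ : Z.Normal]
    (hAp : IsPGroup p ↥A) (hZA : Z ≤ A) {x : G} (hx : (orderOf x).Coprime p)
    (h1 : x ∈ facKer Z A) (h2 : x ∈ facKer ⊥ Z) : x ∈ Subgroup.centralizer (A : Set G) := by
  have e : ⁅A, Subgroup.zpowers x⁆ = ⊥ := by
    rw [eq_bot_iff, ← LECoprime.commutator_commutator_eq hAp (coprime_zpowers hx)
      (by rw [Subgroup.normalizer_eq_top]; exact le_top)]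
    exact (Subgroup.commutator_mono (commutator_le_of_facKer hAp hZA hx h1) le_rfl).trans
      (commutator_le_of_facKer (hAp.to_le hZA) bot_le hx h2)
  rw [Subgroup.commutator_comm, Subgroup.commutator_eq_bot_iff_le_centralizer] at e
  exact e (Subgroup.mem_zpowers x)

/-- Every element is the product of a `p'`-element and a `p`-element; so a subgroup containing the
`p'`-elements of `K` has `p`-power index in it. -/
theorem exists_pow_mem_of_coprime_mem {K C : Subgroup G}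
    (h : ∀ x ∈ K, (orderOf x).Coprime p → x ∈ C) {x : G} (hx : x ∈ K) : ∃ k : ℕ, x ^ p ^ k ∈ C := by
  obtain ⟨k, m, hm, hkm⟩ := Nat.exists_eq_pow_mul_and_not_dvd (orderOf_pos x).ne' p
    (Fact.out : p.Prime).ne_one
  refine ⟨k, h _ (Subgroup.pow_mem _ hx _) ?_⟩
  rw [orderOf_pow_of_dvd (pow_ne_zero _ (Fact.out : p.Prime).ne_zero) ⟨m, hkm⟩, hkm,
    Nat.mul_div_cancel_left _ (pow_pos (Fact.out : p.Prime).pos _)]
  exact ((Fact.out : p.Prime).coprime_iff_not_dvd.2 hm).symm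

/-- A normal subgroup acting as a `p`-group on a minimal normal `p`-subgroup centralizes it. -/
theorem le_centralizer_of_pow {P R : Subgroup G} [hR : R.Normal] (hch : IsChiefFactor P ⊥)
    (hP : IsPGroup p ↥P) (hpow : ∀ x ∈ R, ∃ k : ℕ, x ^ p ^ k ∈ Subgroup.centralizer (P : Set G)) :
    R ≤ Subgroup.centralizer (P : Set G) := by
  haveI hPn := hch.2.1
  set Q : Subgroup (MulAut ↥P) := R.map (MulAut.conjNormal (H := P)) with hQ
  have hQp : IsPGroup p ↥Q := by
    rintro ⟨_, x, hx, rfl⟩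
    obtain ⟨k, hk⟩ := hpow x hx
    refine ⟨k, Subtype.ext ?_⟩
    rw [Subgroup.coe_pow, ← map_pow, Subgroup.coe_one]
    ext u
    rw [MulAut.conjNormal_apply, MulAut.one_apply, ← Subgroup.mem_centralizer_iff.1 hk u u.2,
      mul_inv_cancel_right]
  have hne : P ≠ ⊥ := hch.1.ne'
  obtain ⟨k, hk⟩ := hP.exists_card_eq
  have hk0 : k ≠ 0 := fun h0 => hne (by
    rw [h0, pow_zero] at hk
    exact Subgroup.eq_bot_of_card_eq P hk)
  obtain ⟨u, hu, hu1⟩ := hQp.exists_fixed_point_of_prime_dvd_card_of_fixed_point ↥P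
    (by rw [hk]; exact dvd_pow_self p hk0) (a := 1) (fun q => map_one (q : MulAut ↥P))
  have hfix : (u : G) ∈ P ⊓ Subgroup.centralizer (R : Set G) := by
    refine Subgroup.mem_inf.2 ⟨u.2, Subgroup.mem_centralizer_iff.2 fun x hx => ?_⟩
    have h1 := congrArg Subtype.val (hu ⟨_, x, hx, rfl⟩)
    change (MulAut.conjNormal x u : G) = u at h1
    rw [MulAut.conjNormal_apply] at h1
    calc x * (u : G) = x * u * x⁻¹ * x := by group
      _ = u * x := by rw [h1]
  rcases hch.2.2.2 (P ⊓ Subgroup.centralizer (R : Set G)) inferInstance bot_le inf_le_left with h | h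
  · rw [h, Subgroup.mem_bot] at hfix
    exact absurd (Subtype.ext hfix : u = 1) hu1.symm
  · exact Subgroup.le_centralizer_iff.1 (inf_eq_left.1 h)

end finite

/-! ### semisimplicity -/

theorem map_conj_of_normal (Y : Subgroup G) [hY : Y.Normal] (g : G) :
    Y.map (MulAut.conj g).toMonoidHom = Y := by
  refine le_antisymm ?_ fun y hy => ⟨g⁻¹ * y * g, by simpa using hY.conj_mem y hy g⁻¹, by simp [mul_assoc]⟩
  rintro _ ⟨y, hy, rfl⟩
  exact hY.conj_mem y hy g

/-- `W/Y` is a minimal `H`-invariant subgroup of `X/Y`. -/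
def IsAtom₀ (H X Y W : Subgroup G) : Prop :=
  Y < W ∧ W ≤ X ∧ H ≤ Subgroup.normalizer (W : Set G) ∧
    ∀ W' : Subgroup G, Y ≤ W' → W' ≤ W → H ≤ Subgroup.normalizer (W' : Set G) → W' = Y ∨ W' = W

/-- `X/Y` is generated by minimal `H`-invariant subgroups. -/
def GenByAtoms (H X Y : Subgroup G) : Prop :=
  X ≤ Y ⊔ sSup {W | IsAtom₀ H X Y W}

theorem sSup_le_normalizer {H : Subgroup G} {s : Set (Subgroup G)}
    (h : ∀ W ∈ s, H ≤ Subgroup.normalizer (W : Set G)) :
    H ≤ Subgroup.normalizer ((sSup s : Subgroup G) : Set G) := by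
  have key : ∀ g ∈ H, ∀ z ∈ (sSup s : Subgroup G), g * z * g⁻¹ ∈ (sSup s : Subgroup G) := by
    intro g hg z hz
    have hle : sSup s ≤ (sSup s).comap (MulAut.conj g).toMonoidHom :=
      sSup_le fun W hW w hw => le_sSup hW ((Subgroup.mem_normalizer_iff.1 (h W hW hg) w).1 hw)
    exact hle hz
  intro g hg
  refine Subgroup.mem_normalizer_iff.2 fun z => ⟨key g hg z, fun hz => ?_⟩
  have h1 := key g⁻¹ (inv_mem hg) _ hz
  rwa [show g⁻¹ * (g * z * g⁻¹) * g⁻¹⁻¹ = z by group] at h1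

theorem sup_le_normalizer {H A B : Subgroup G} (hA : H ≤ Subgroup.normalizer (A : Set G))
    (hB : H ≤ Subgroup.normalizer (B : Set G)) :
    H ≤ Subgroup.normalizer ((A ⊔ B : Subgroup G) : Set G) := by
  rw [← sSup_pair]
  exact sSup_le_normalizer (by rintro W (rfl | rfl) <;> assumption)

theorem inf_le_normalizer {H A B : Subgroup G} (hA : H ≤ Subgroup.normalizer (A : Set G))
    (hB : H ≤ Subgroup.normalizer (B : Set G)) :
    H ≤ Subgroup.normalizer ((A ⊓ B : Subgroup G) : Set G) := fun g hg =>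
  Subgroup.mem_normalizer_iff.2 fun z => by
    rw [Subgroup.mem_inf, Subgroup.mem_inf, Subgroup.mem_normalizer_iff.1 (hA hg),
      Subgroup.mem_normalizer_iff.1 (hB hg)]

variable [Finite G]

theorem genByAtoms_top {X Y : Subgroup G} (h : IsChiefFactor X Y) : GenByAtoms ⊤ X Y := by
  obtain ⟨hlt, hX, hY, hmin⟩ := h
  refine le_sup_of_le_right (le_sSup ⟨hlt, le_rfl, by rw [Subgroup.normalizer_eq_top], ?_⟩)
  intro W' hYW hWX hn
  exact hmin W' (Subgroup.normalizer_eq_top_iff.1 (top_le_iff.1 hn)) hYW hWX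

/-- Inheritance by normalized subgroups. -/
theorem GenByAtoms.of_normalized {H N X Y : Subgroup G} [hY : Y.Normal] (hNH : N ≤ H)
    (hn : H ≤ Subgroup.normalizer (N : Set G)) (h : GenByAtoms H X Y) : GenByAtoms N X Y := by
  refine h.trans (sup_le le_sup_left (sSup_le fun W ⟨hYW, hWX, hHW, hmin⟩ => ?_))
  obtain ⟨W₀, ⟨hYW₀, hW₀W, hNW₀⟩, hW₀min⟩ := (Set.toFinite
    {W' : Subgroup G | Y < W' ∧ W' ≤ W ∧ N ≤ Subgroup.normalizer (W' : Set G)}).exists_minimal
    ⟨W, hYW, le_rfl, hNH.trans hHW⟩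
  set s := {W' : Subgroup G | ∃ g ∈ H, W' = W₀.map (MulAut.conj g).toMonoidHom} with hs
  have hatom : ∀ W' ∈ s, IsAtom₀ N X Y W' := by
    rintro _ ⟨g, hg, rfl⟩
    have hinv : ∀ (U : Subgroup G) (c : G), c ∈ H → N ≤ Subgroup.normalizer (U : Set G) →
        N ≤ Subgroup.normalizer (U.map (MulAut.conj c).toMonoidHom : Set G) := by
      intro U c hc hU k hk
      have hk' : c⁻¹ * k * c ∈ Subgroup.normalizer (U : Set G) := hU (by
        simpa using (Subgroup.mem_normalizer_iff.1 (hn (inv_mem hc)) k).1 hk)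
      rw [Subgroup.mem_normalizer_iff] at hk' ⊢
      intro z
      have := hk' (c⁻¹ * z * c)
      constructor
      · rintro ⟨w, hw, rfl⟩
        refine ⟨_, (this.1 (by simpa [mul_assoc] using hw)), ?_⟩
        simp [mul_assoc]
      · rintro ⟨w, hw, hwz⟩
        refine ⟨_, this.2 ?_, by simp [mul_assoc]⟩
        simp only [MulEquiv.coe_toMonoidHom, MulAut.conj_apply] at hwz
        rw [show c⁻¹ * k * c * (c⁻¹ * z * c) * (c⁻¹ * k * c)⁻¹ = c⁻¹ * (k * z * k⁻¹) * c by group,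
          ← hwz]
        simpa [mul_assoc] using hw
    refine ⟨?_, ?_, hinv _ g hg hNW₀, ?_⟩
    · have : Y.map (MulAut.conj g).toMonoidHom < W₀.map (MulAut.conj g).toMonoidHom :=
        lt_of_le_of_ne (Subgroup.map_mono hYW₀.le) fun e =>
          hYW₀.ne (Subgroup.map_injective (MulAut.conj g).injective e)
      rwa [map_conj_of_normal] at this
    · rintro _ ⟨w, hw, rfl⟩
      exact hWX ((Subgroup.mem_normalizer_iff.1 (hHW hg) w).1 (hW₀W hw))
    · intro W' hYW' hW'W hn'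
      have e : (W'.map (MulAut.conj g⁻¹).toMonoidHom).map (MulAut.conj g).toMonoidHom = W' := by
        rw [Subgroup.map_map]
        convert Subgroup.map_id W'
        ext z; simp [mul_assoc]
      rcases eq_or_lt_of_le hYW' with h' | h'
      · exact Or.inl h'.symm
      refine Or.inr (le_antisymm hW'W ?_)
      rw [← e]
      refine Subgroup.map_mono ?_
      have hle : W'.map (MulAut.conj g⁻¹).toMonoidHom ≤ W₀ := by
        rintro _ ⟨w, hw, rfl⟩
        obtain ⟨w₀, hw₀, rfl⟩ := hW'W hw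
        simpa [mul_assoc] using hw₀
      refine hW₀min ⟨?_, hle.trans hW₀W, hinv _ g⁻¹ (inv_mem hg) hn'⟩ hle
      have : Y.map (MulAut.conj g⁻¹).toMonoidHom < W'.map (MulAut.conj g⁻¹).toMonoidHom :=
        lt_of_le_of_ne (Subgroup.map_mono h'.le) fun e =>
          h'.ne (Subgroup.map_injective (MulAut.conj g⁻¹).injective e)
      rwa [map_conj_of_normal] at this
  have hsW : sSup s ≤ W := sSup_le fun W' hW' => by
    obtain ⟨g, hg, rfl⟩ := hW'
    rintro _ ⟨w, hw, rfl⟩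
    exact (Subgroup.mem_normalizer_iff.1 (hHW hg) w).1 (hW₀W hw)
  have hH : H ≤ Subgroup.normalizer ((sSup s : Subgroup G) : Set G) := by
    have key : ∀ g ∈ H, ∀ z ∈ (sSup s : Subgroup G), g * z * g⁻¹ ∈ (sSup s : Subgroup G) := by
      intro g hg z hz
      have hle : sSup s ≤ (sSup s).comap (MulAut.conj g).toMonoidHom := by
        refine sSup_le ?_
        rintro _ ⟨c, hc, rfl⟩
        rintro _ ⟨w, hw, rfl⟩
        exact le_sSup (show W₀.map (MulAut.conj (g * c)).toMonoidHom ∈ s from ⟨_, mul_mem hg hc, rfl⟩)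
          ⟨w, hw, by simp [mul_assoc]⟩
      exact hle hz
    intro g hg
    refine Subgroup.mem_normalizer_iff.2 fun z => ⟨key g hg z, fun hz => ?_⟩
    have h1 := key g⁻¹ (inv_mem hg) _ hz
    rwa [show g⁻¹ * (g * z * g⁻¹) * g⁻¹⁻¹ = z by group] at h1
  have hW₀s : W₀ ≤ sSup s := le_sSup ⟨1, one_mem _, by ext; simp⟩
  rcases hmin (sSup s) (hYW₀.le.trans hW₀s) hsW hH with h | h
  · exact absurd (lt_of_lt_of_le hYW₀ hW₀s) (by rw [h]; exact lt_irrefl _)
  · rw [← h]
    exact le_sup_of_le_right (sSup_le fun W' hW' => le_sSup (hatom W' hW'))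

/-- Invariant complements. -/
theorem GenByAtoms.exists_complement {H X Y U₀ : Subgroup G} [hY : Y.Normal] [hX : X.Normal]
    (hab : ⁅X, X⁆ ≤ Y) (h : GenByAtoms H X Y) (hYU : Y ≤ U₀) (hUX : U₀ ≤ X)
    (hU : H ≤ Subgroup.normalizer (U₀ : Set G)) :
    ∃ U₁ : Subgroup G, Y ≤ U₁ ∧ U₁ ≤ X ∧ H ≤ Subgroup.normalizer (U₁ : Set G) ∧ U₀ ⊓ U₁ = Y ∧
      X ≤ U₀ ⊔ U₁ := by
  obtain ⟨U₁, ⟨hYU₁, hU₁X, hHU₁, hinf⟩, hmax⟩ := (Set.toFinite
    {U₁ : Subgroup G | Y ≤ U₁ ∧ U₁ ≤ X ∧ H ≤ Subgroup.normalizer (U₁ : Set G) ∧ U₀ ⊓ U₁ = Y}).exists_maximal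
    ⟨Y, le_rfl, hYU.trans hUX, by simp [Subgroup.normalizer_eq_top], inf_eq_right.2 hYU⟩
  refine ⟨U₁, hYU₁, hU₁X, hHU₁, hinf, h.trans (sup_le (hYU.trans le_sup_left) (sSup_le ?_))⟩
  rintro W ⟨hYW, hWX, hHW, hmin⟩
  rcases hmin (W ⊓ (U₀ ⊔ U₁)) (le_inf hYW.le (hYU.trans le_sup_left)) inf_le_left
    (inf_le_normalizer hHW (sup_le_normalizer hU hHU₁)) with hW | hW
  · have hsubX : ∀ (R : Subgroup G), Y ≤ R → R ≤ X → X ≤ Subgroup.normalizer (R : Set G) :=
      fun R hYR hRX s hs => Subgroup.mem_normalizer_iff.2 fun r => by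
        have key : ∀ s ∈ X, ∀ r ∈ R, s * r * s⁻¹ ∈ R := fun s hs r hr => by
          rw [show s * r * s⁻¹ = ⁅s, r⁆ * r by simp only [commutatorElement_def]; group]
          exact mul_mem (hYR (hab (Subgroup.commutator_mem_commutator hs (hRX hr)))) hr
        refine ⟨key s hs r, fun hr => ?_⟩
        have h1 := key s⁻¹ (inv_mem hs) _ hr
        rwa [show s⁻¹ * (s * r * s⁻¹) * s⁻¹⁻¹ = r by group] at h1
    have hle : U₁ ⊔ W ≤ U₁ := hmax ⟨hYU₁.trans le_sup_left, sup_le hU₁X hWX,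
      sup_le_normalizer hHU₁ hHW, le_antisymm (fun x hx => ?_) (le_inf hYU (hYU₁.trans le_sup_left))⟩
      le_sup_left
    · exact (le_sup_right.trans hle).trans le_sup_right
    · obtain ⟨hx0, hx1⟩ := Subgroup.mem_inf.1 hx
      have hx1' : x ∈ (U₁ : Set G) * (W : Set G) := by
        rw [← Subgroup.coe_mul_of_right_le_normalizer_left U₁ W (hWX.trans (hsubX U₁ hYU₁ hU₁X))]
        exact hx1
      obtain ⟨u, hu, w, hw, rfl⟩ := hx1'
      have hwy : w ∈ Y := by
        rw [← hW]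
        refine Subgroup.mem_inf.2 ⟨hw, ?_⟩
        have := mul_mem (Subgroup.mem_sup_right (S := U₀) (inv_mem hu)) (Subgroup.mem_sup_left (T := U₁) hx0)
        rwa [inv_mul_cancel_left] at this
      rw [← hinf]
      exact Subgroup.mem_inf.2 ⟨hx0, mul_mem hu (hYU₁ hwy)⟩
  · exact inf_eq_left.1 hW

end Cfsg.Agent.ChiefAct
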