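import Cfsg.Agent.Lib.Functors.ChiefAct
import Cfsg.Agent.Lib.CharP.AxB

/-!
Chief factors inside a normal `p`-subgroup.
-/

set_option autoImplicit false
set_option linter.style.haveILetI false
set_option linter.unusedSectionVars false

namespace Cfsg.Agent.ChiefAct

open Cfsg
open scoped commutatorElement

variable {G : Type*} [Group G] [Finite G] {p : ℕ} [Fact p.Prime]

/-- A chief factor inside a normal `p`-subgroup is centralized by it. -/
theorem commutator_le_of_chief {X Y P : Subgroup G} [hP : P.Normal] (hPp : IsPGroup p ↥P)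
    (h : IsChiefFactor X Y) (hXP : X ≤ P) : ⁅X, P⁆ ≤ Y := by
  obtain ⟨hlt, hX, hY, hmin⟩ := h
  haveI := hX; haveI := hY
  rcases hmin (⁅X, P⁆ ⊔ Y) inferInstance le_sup_right
    (sup_le (Subgroup.commutator_le_left X P) hlt.le) with h' | h'
  · rw [← h']; exact le_sup_left
  · exfalso
    set π := QuotientGroup.mk' Y with hπ
    haveI := (hPp.map π).isNilpotent
    have e : X.map π = ⁅X.map π, P.map π⁆ := by
      conv_lhs => rw [← h', Subgroup.map_sup, Subgroup.map_commutator]
      rw [show Y.map π = ⊥ by rw [Subgroup.map_eq_bot_iff, QuotientGroup.ker_mk'], sup_bot_eq]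
    have h0 := AxB.eq_bot_of_commutator_eq (Q := P.map π) (Subgroup.map_mono hXP) le_rfl e.symm
    rw [Subgroup.map_eq_bot_iff, QuotientGroup.ker_mk'] at h0
    exact hlt.not_ge h0

theorem commutator_self_le_of_chief {X Y P : Subgroup G} [P.Normal] (hPp : IsPGroup p ↥P)
    (h : IsChiefFactor X Y) (hXP : X ≤ P) : ⁅X, X⁆ ≤ Y :=
  (Subgroup.commutator_mono le_rfl hXP).trans (commutator_le_of_chief hPp h hXP)

/-- `O_p` acts trivially modulo the next term, element by element. -/
theorem mul_comm_mod_of_chief {X Y P : Subgroup G} [P.Normal] (hPp : IsPGroup p ↥P)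
    (h : IsChiefFactor X Y) (hXP : X ≤ P) {x y : G} (hx : x ∈ X) (hy : y ∈ P) : ⁅x, y⁆ ∈ Y :=
  commutator_le_of_chief hPp h hXP (Subgroup.commutator_mem_commutator hx hy)

end Cfsg.Agent.ChiefAct
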