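import Cfsg.Agent.Lib.Functors.SectionApps
import Cfsg.Agent.Lib.Functors.KInfCubic
import Cfsg.Agent.Lib.Solvable.Fitting

/-!
`p`-stability in all sections: the K-infinity subgroups control strong fusion.
-/

set_option autoImplicit false
set_option linter.style.haveILetI false
set_option linter.unusedSectionVars false

namespace Cfsg.Agent.Functors

open Cfsg Subgroup

universe u

theorem isNormalizerPStable_of_injective {H G : Type u} [Group H] [Group G] [Finite G] {p : ℕ}
    [Fact p.Prime] {f : H →* G} (hf : Function.Injective f) (hst : IsNormalizerPStable p G) :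
    IsNormalizerPStable p H := by
  haveI : Finite H := Finite.of_injective f hf
  intro P hP g hg hq
  set P' := P.map f with hP'
  have hinj := hf
  have hg' : (f g) ∈ normalizer (P' : Set G) := le_normalizer_map f ⟨g, hg, rfl⟩
  have hq' : ⁅⁅P', zpowers (f g)⁆, zpowers (f g)⁆ = ⊥ := by
    have := congrArg (Subgroup.map f) hq
    rwa [Subgroup.map_bot, map_commutator, map_commutator, MonoidHom.map_zpowers] at this
  have hG := hst P' (hP.map _) (f g) hg' hq'
  let ι : ↥(normalizer (P : Set H)) →* ↥(normalizer (P' : Set G)) :=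
    (f.comp (normalizer (P : Set H)).subtype).codRestrict _
      (fun x => le_normalizer_map f ⟨x, x.2, rfl⟩)
  have hC : ((centralizer (P' : Set G)).subgroupOf (normalizer (P' : Set G))).comap ι =
      (centralizer (P : Set H)).subgroupOf (normalizer (P : Set H)) := by
    ext x
    simp only [mem_comap, mem_subgroupOf, mem_centralizer_iff]
    constructor
    · intro h u hu
      exact hinj ((map_mul f _ _).trans ((h (f u) ⟨u, hu, rfl⟩).trans (map_mul f _ _).symm))
    · rintro h _ ⟨u, hu, rfl⟩
      exact (map_mul f _ _).symm.trans ((congrArg f (h u hu)).trans (map_mul f _ _))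
  let φ : ↥(normalizer (P : Set H)) ⧸ (centralizer (P : Set H)).subgroupOf (normalizer (P : Set H)) →*
      ↥(normalizer (P' : Set G)) ⧸ (centralizer (P' : Set G)).subgroupOf (normalizer (P' : Set G)) :=
    QuotientGroup.map _ _ ι hC.ge
  have hφ : Function.Injective φ := by
    rw [injective_iff_map_eq_one]
    intro q hq1
    obtain ⟨x, rfl⟩ := QuotientGroup.mk'_surjective _ q
    rw [QuotientGroup.mk'_apply, QuotientGroup.eq_one_iff, ← hC]
    exact (QuotientGroup.eq_one_iff (ι x)).1 hq1
  refine Cfsg.Agent.FittingCores.le_pCore (N := (Cfsg.pCore p _).comap φ) ?_ ?_ (hG : _)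
  · exact (Cfsg.Agent.FittingCores.pCore_normal p).comap φ
  · exact (Cfsg.Agent.FittingCores.pCore_isPGroup p).comap_of_injective φ hφ

variable {p : ℕ} [Fact p.Prime]

/-- In a constrained group with `p`-stable quotients both K-infinity subgroups are normal. -/
theorem kInf_normal_of_pStable {Y : Type u} [Group Y] [Finite Y] (hC : PConstr p Y)
    (hst : ∀ (N : Subgroup Y) [N.Normal], IsNormalizerPStable p (Y ⧸ N)) (S : Sylow p Y) :
    (inducedFunctor kInfLower (S : Subgroup Y)).Normal ∧ (inducedFunctor kInfUpper (S : Subgroup Y)).Normal := by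
  by_contra hK
  obtain ⟨g, -, -, -, -, hN⟩ := Cubic.kInf_consequences S (not_and_or.1 hK)
  obtain ⟨N, hNn, hns⟩ := hN hC
  exact hns (hst N)

/-- A functor normal in the constrained `p`-stable sections controls strong fusion. -/
theorem ctlSF_of_pStable_sections {W : ∀ (Q : Type u) [Group Q], Subgroup Q}
    (hW : IsCharPFunctor.{u} p W) (G : Type u) [Group G] [Finite G]
    (hst : ∀ (K R : Subgroup G) [(R.subgroupOf K).Normal], IsNormalizerPStable p (↥K ⧸ R.subgroupOf K))
    (hn : ∀ (Y : Type u) [Group Y] [Finite Y], PConstr p Y →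
      (∀ (N : Subgroup Y) [N.Normal], IsNormalizerPStable p (Y ⧸ N)) →
      ∀ S : Sylow p Y, (inducedFunctor W (S : Subgroup Y)).Normal) :
    CtlSF p {W} G := by
  refine ctlSF_of_sections (𝓦 := {W}) (by simpa using hW) G fun Y _ _ hY hC => ?_
  have hq : ∀ (N : Subgroup Y) [N.Normal], IsNormalizerPStable p (Y ⧸ N) := by
    intro N _
    obtain ⟨K, f, hf⟩ := hY
    have hs : IsSectionOf G (Y ⧸ N) :=
      (IsSectionOf.of_surjective hf (IsSectionOf.of_surjective (QuotientGroup.mk'_surjective N)
        IsSectionOf.refl)).of_subgroup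
    obtain ⟨K', R', hR', ⟨e⟩⟩ := hs.exists_equiv
    exact isNormalizerPStable_of_injective (f := e.symm.toMonoidHom) e.symm.injective (hst K' R')
  obtain ⟨S⟩ : Nonempty (Sylow p Y) := inferInstance
  haveI := hn Y hC hq S
  refine familySF_top_of_reach (S := S) fun A g hA hgA => ?_
  refine Reach.single hA ⟨_, ⟨_, ⟨W, rfl, rfl⟩, rfl⟩, ?_⟩ hgA
  dsimp only
  rw [Subgroup.normalizer_eq_top]
  exact Subgroup.mem_top g

theorem ctlSF_kInf (G : Type u) [Group G] [Finite G]
    (hst : ∀ (K R : Subgroup G) [(R.subgroupOf K).Normal], IsNormalizerPStable p (↥K ⧸ R.subgroupOf K)) :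
    CtlSF p {kInfLower} G ∧ CtlSF p {kInfUpper} G :=
  ⟨ctlSF_of_pStable_sections isCharPFunctor_kInfLower G hst fun _ _ _ hC h S => (kInf_normal_of_pStable hC h S).1,
    ctlSF_of_pStable_sections isCharPFunctor_kInfUpper G hst fun _ _ _ hC h S => (kInf_normal_of_pStable hC h S).2⟩

end Cfsg.Agent.Functors
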