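/-
Control of fusion by `N(Z(J(D)))` from constrained, `p`-stable local subgroups.
-/
import Cfsg.Agent.Lib.Functors.ClosedZJ
import Cfsg.Agent.Lib.PLocal.ZJStable
import Cfsg.Agent.Lib.Functors.PStableFusion
import Cfsg.Agent.Lib.Techniques.PConstrained

set_option autoImplicit false
set_option linter.style.haveILetI false
set_option linter.unusedSectionVars false

namespace Cfsg.Agent.ClosedZJ

open Cfsg Cfsg.Agent.Functors

universe u

variable {G : Type u} [Group G] [Finite G] {p : ℕ} [Fact p.Prime] {e : Prop}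

theorem isPStable_of_normalizer (hp : p ≠ 2) (hst : IsNormalizerPStable p G) (h : pCore p G ≠ ⊥) :
    IsPStable p G := by
  refine ⟨(Fact.out : p.Prime).odd_of_ne_two hp, h, fun A P _ hP _ _ _ hq => ?_⟩
  rintro _ ⟨a, ha, rfl⟩
  refine hst P hP a a.2 (eq_bot_iff.2 ?_)
  have hle : Subgroup.zpowers (a : G) ≤ A := Subgroup.zpowers_le.2 ha
  exact (Subgroup.commutator_mono (Subgroup.commutator_mono le_rfl hle) hle).trans hq.le

/-- Locally constrained, `p`-stable: `N(Z(J(D)))` controls strong fusion. -/
theorem ctl_of_local_constrained (hp : p ≠ 2) (hst : IsNormalizerPStable p G) (S : Sylow p G)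
    (hc : ∀ U : Subgroup G, U ≤ (S : Subgroup G) → U ≠ ⊥ →
      IsPConstrained p ↥(Subgroup.normalizer (U : Set G)))
    {D : Subgroup G} (hD : IsStronglyClosed D (S : Subgroup G)) (A : Set G)
    (hA : A ⊆ (S : Subgroup G)) :
    ControlsStrongFusionOf (Subgroup.normalizer (ZJ.zCore p e D : Set G)) (S : Subgroup G) A := by
  refine ⟨hA, fun g hg => ?_⟩
  obtain ⟨-, -, n, hn, hna⟩ := realised_of_local (e := e) S hD (fun V hV hext A g hg hA hgA => by
    set H := Subgroup.normalizer (V : Set G) with hH
    have hVH : V ≤ H := Subgroup.le_normalizer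
    have hOne : pCore p ↥H ≠ ⊥ := by
      intro h0
      haveI : (V.subgroupOf H).Normal := Subgroup.normal_in_normalizer
      have h1 : V.subgroupOf H ≤ pCore p ↥H :=
        PBasic.le_pCore inferInstance (S.isPGroup'.to_le hext.1).comap_subtype
      rw [h0, le_bot_iff, Subgroup.subgroupOf_eq_bot] at h1
      exact hV (by rw [← inf_eq_left.2 hVH]; exact h1.eq_bot)
    have hs : IsPStable p ↥H := isPStable_of_normalizer hp
      (Functors.isNormalizerPStable_of_injective H.subtype_injective hst) hOne
    have hctl : Ctl p e (↥H ⧸ pPrimeCore p ↥H) := fun T E hE B b hB hbB => by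
      haveI := ZJClosed.zCore_normal hp (ZJ.isQuad_quotient hs)
        (PConstr.isPConstrained_iff.1 (hc V hext.1 hV)) T hE e
      exact ⟨hB, hbB, b, by rw [Subgroup.normalizer_eq_top]; exact Subgroup.mem_top b, fun a _ => rfl⟩
    have hH' : Ctl p e ↥H := fun T E hE B b hB hbB =>
      ctl_pprime (PBasic.pPrimeCore_coprime p ↥H) hctl T hE B b hB hbB
    exact ctl_subgroup hH' S hD hext.2 hg hA hgA) A g hA hg
  exact ⟨n, hn, fun a ha => (hna a ha).symm⟩

end Cfsg.Agent.ClosedZJ
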