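/-
The Glauberman–Thompson normal `p`-complement criterion for strongly closed subgroups.
-/
import Cfsg.Agent.Lib.PLocal.ZJNPC
import Cfsg.Agent.Lib.Functors.ClosedZJ

set_option autoImplicit false
set_option linter.style.haveILetI false
set_option linter.unusedSectionVars false

namespace Cfsg.Agent.ClosedZJNPC

open Cfsg.Agent

universe u

variable {G : Type*} [Group G] {p : ℕ}

theorem normalizer_le_of_le [Finite G] {S : Sylow p G} {D Q : Subgroup G} {e : Prop}
    (hD : Cfsg.IsStronglyClosed D (S : Subgroup G)) (hQ : Q ≤ (S : Subgroup G)) :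
    Subgroup.normalizer (Q : Set G) ≤ Subgroup.normalizer (ZJ.zCore p e (D ⊓ Q) : Set G) := by
  refine le_trans (fun g hg => ?_)
    ((ZJ.normalizer_le_normalizer_zJ _).trans (ZJ.normalizer_zJ_le_normalizer_zCore _))
  have key : ∀ n ∈ Subgroup.normalizer (Q : Set G), ∀ x ∈ D ⊓ Q, n * x * n⁻¹ ∈ D ⊓ Q := by
    intro n hn x hx
    have h1 := (Subgroup.mem_normalizer_iff.1 hn x).1 (Subgroup.mem_inf.1 hx).2
    exact Subgroup.mem_inf.2 ⟨hD.2 x (Subgroup.mem_inf.1 hx).1 n (hQ h1), h1⟩
  refine Subgroup.mem_normalizer_iff.2 fun y => ⟨key g hg y, fun hy => ?_⟩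
  simpa [mul_assoc] using key g⁻¹ (inv_mem hg) _ hy

theorem exists_normal_pSubgroup [Finite G] [hp : Fact p.Prime] (e : Prop) (P : Sylow p G)
    {D : Subgroup G} (hD : Cfsg.IsStronglyClosed D (P : Subgroup G))
    (hJ : Cfsg.HasNormalPComplement p
      (Subgroup.normalizer (ZJ.zCore p e D : Set G)))
    (hIH : ∀ K : Subgroup G, K ≠ ⊤ → ∀ (S : Sylow p K) (E : Subgroup K),
      Cfsg.IsStronglyClosed E (S : Subgroup K) →
      Cfsg.HasNormalPComplement p
        (Subgroup.normalizer (ZJ.zCore p e E : Set K)) →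
      Cfsg.HasNormalPComplement p K)
    (hG : ¬ Cfsg.HasNormalPComplement p G) :
    ∃ U : Subgroup G, U.Normal ∧ IsPGroup p U ∧ U ≠ ⊥ := by
  classical
  have hbad : ∃ U : Subgroup G, IsPGroup p U ∧
      ¬ Cfsg.HasNormalPComplement p (Subgroup.normalizer (U : Set G)) ∧ U ≠ ⊥ := by
    by_contra h
    push Not at h
    refine hG (Fusion.hasNormalPComplement_of_frobenius fun D hD g hg hgo => ?_)
    by_cases hD1 : D = ⊥
    · intro x hx
      rw [hD1] at hx
      rw [Subgroup.mem_bot.1 hx, one_mul, mul_one]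
    · refine Fusion.mem_centralizer_of_hasNormalPComplement hD ?_ hg hgo
      by_contra hn
      exact hD1 (h D hD hn)
  obtain ⟨U, ⟨hUp, hUn, hU1⟩, hmax⟩ := Set.exists_max_image
    {U : Subgroup G | IsPGroup p U ∧
      ¬ Cfsg.HasNormalPComplement p (Subgroup.normalizer (U : Set G)) ∧ U ≠ ⊥}
    (fun U => (Nat.card (Subgroup.normalizer (U : Set G))).factorization p) (Set.toFinite _) hbad
  obtain ⟨S⟩ : Nonempty (Sylow p (Subgroup.normalizer (U : Set G))) := inferInstance
  obtain ⟨R, hR⟩ := (S.isPGroup'.map (Subgroup.normalizer (U : Set G)).subtype).exists_le_sylow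
  obtain ⟨g, hg⟩ := MulAction.exists_smul_eq G R P
  set c := (MulAut.conj g).toMonoidHom with hc
  set U' := U.map c with hU'
  have hN' : (Subgroup.normalizer (U : Set G)).map c = Subgroup.normalizer (U' : Set G) :=
    Subgroup.map_equiv_normalizer_eq U (MulAut.conj g)
  set N := Subgroup.normalizer (U' : Set G) with hN
  set S' := ((S : Subgroup _).map (Subgroup.normalizer (U : Set G)).subtype).map c with hS'
  have hS'P : S' ≤ (P : Subgroup G) := by
    rw [← hg, Sylow.coe_subgroup_smul]
    exact Subgroup.map_mono hR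
  have hS'N : S' ≤ N := hN' ▸ Subgroup.map_mono (Subgroup.map_subtype_le _)
  have hS'p : IsPGroup p S' := P.isPGroup'.to_le hS'P
  have hcardN : Nat.card N = Nat.card (Subgroup.normalizer (U : Set G)) := by
    rw [← hN', Subgroup.card_map_of_injective (f := c) (MulAut.conj g).injective]
  have hcardS' : Nat.card S' = p ^ (Nat.card N).factorization p := by
    rw [hS', Subgroup.card_map_of_injective (f := c) (MulAut.conj g).injective,
      Subgroup.card_map_of_injective Subtype.coe_injective, hcardN, ← S.card_eq_multiplicity]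
  have hU'bad : ¬ Cfsg.HasNormalPComplement p N := by
    rw [← hN', ← PBasic.hasNormalPComplement_congr
      (Subgroup.equivMapOfInjective _ c (MulAut.conj g).injective)]
    exact hUn
  have hU'p : IsPGroup p U' := hUp.map c
  have hU'1 : U' ≠ ⊥ := by
    rw [hU', Ne, Subgroup.map_eq_bot_iff_of_injective _ (f := c) (MulAut.conj g).injective]
    exact hU1
  let SN : Sylow p N := Sylow.ofCard (S'.subgroupOf N) (by
    rw [Nat.card_congr (Subgroup.subgroupOfEquivOfLe hS'N).toEquiv, hcardS'])
  have hSNmap : (SN : Subgroup N).map N.subtype = S' := Subgroup.map_subgroupOf_eq_of_le hS'N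
  by_cases hNtop : N = ⊤
  · exact ⟨U', Subgroup.normalizer_eq_top_iff.1 hNtop, hU'p, hU'1⟩
  exfalso
  apply hU'bad
  have hU'N : U' ≤ N := hN ▸ Subgroup.le_normalizer
  have hU'S : U' ≤ S' := by
    haveI : (U'.subgroupOf N).Normal := by rw [hN]; exact Subgroup.normal_in_normalizer
    have h1 := Subgroup.map_mono (f := N.subtype)
      (ZJ.le_sylow SN (B := U'.subgroupOf N) hU'p.comap_subtype)
    rwa [Subgroup.map_subgroupOf_eq_of_le hU'N, hSNmap] at h1
  have hS'eq : S' = (P : Subgroup G) ⊓ N := by
    refine Subgroup.eq_of_le_of_card_ge (le_inf hS'P hS'N) ?_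
    rw [hcardS']
    exact ThompsonNPC.pow_le_of_pSubgroup_le P.isPGroup'.to_inf_left inf_le_right
  have key : Cfsg.HasNormalPComplement p (Subgroup.normalizer (ZJ.zCore p e (D ⊓ S') : Set G)) := by
    by_cases hD1 : D = ⊥
    · have : D ⊓ S' = D := by rw [hD1, bot_inf_eq]
      rw [this]; exact hJ
    rcases eq_or_lt_of_le hS'P with heq | hlt
    · rw [heq, inf_eq_left.2 hD.1]; exact hJ
    have hS'1 : S' ≠ ⊥ := by
      intro hbot
      have h1 : Nat.card U' ≤ Nat.card S' := by
        rw [hcardS']
        exact ThompsonNPC.pow_le_of_pSubgroup_le hU'p (hN ▸ Subgroup.le_normalizer)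
      rw [hbot, Subgroup.card_bot] at h1
      exact hU'1 (Subgroup.card_eq_one.1 (le_antisymm h1 Nat.card_pos))
    have hgrow := Fusion.lt_inf_normalizer (Fusion.sylow_isNilpotent P) hlt
    set W := ZJ.zCore p e (D ⊓ S') with hW
    have hW1 : W ≠ ⊥ := ZJ.zCore_ne_bot (e := e) (hS'p.to_le inf_le_right)
      (ClosedZJ.inf_ne_bot hD hD1 (by
        rw [hS'eq]
        exact le_inf inf_le_left (inf_le_right.trans ((Subgroup.centralizer_le
          (SetLike.coe_subset_coe.2 (hU'S.trans hS'P))).trans (Subgroup.centralizer_le_normalizer _)))))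
    by_contra hn
    have h1 : (Nat.card (Subgroup.normalizer (W : Set G))).factorization p ≤
        (Nat.card (Subgroup.normalizer (U : Set G))).factorization p :=
      hmax W ⟨hS'p.to_le ((ClosedZJ.zCore_le _).trans inf_le_right), hn, hW1⟩
    rw [← hcardN] at h1
    have h2 := ThompsonNPC.pow_le_of_pSubgroup_le (p := p) (P.isPGroup'.to_inf_left
      (K := Subgroup.normalizer (S' : Set G))) (inf_le_right.trans (normalizer_le_of_le (e := e) hD hS'P))
    have h3 : Nat.card S' < Nat.card ↥((P : Subgroup G) ⊓ Subgroup.normalizer (S' : Set G)) :=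
      Set.ncard_lt_ncard (SetLike.coe_ssubset_coe.2 hgrow) (Set.toFinite _)
    rw [hcardS'] at h3
    exact absurd (h3.trans_le (h2.trans (Nat.pow_le_pow_right hp.out.pos h1))) (lt_irrefl _)
  refine hU'bad ?_ |>.elim
  have hmem : ∀ x : ↥N, x ∈ (SN : Subgroup ↥N) ↔ (x : G) ∈ S' := fun x => Iff.rfl
  refine hIH N hNtop SN ((D ⊓ S').subgroupOf N) ⟨fun x hx => (hmem x).2 (Subgroup.mem_inf.1 hx).2,
    fun x hx y hy => Subgroup.mem_inf.2 ⟨hD.2 _ (Subgroup.mem_inf.1 hx).1 y (hS'P ((hmem _).1 hy)),
      (hmem _).1 hy⟩⟩ (ThompsonNPC.npc_normalizer_of_injective N.subtype Subtype.coe_injective _ ?_)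
  rw [ZJ.zCore_map N.subtype N.subtype_injective.injOn,
    Subgroup.map_subgroupOf_eq_of_le (inf_le_right.trans hS'N)]
  exact key

/-- **The normal `p`-complement theorem of Glauberman and Thompson.** -/
theorem hasNormalPComplement_of_zCore {G : Type u} [Group G] [Finite G] [hp : Fact p.Prime]
    (hp2 : p ≠ 2) (e : Prop) (P : Sylow p G) {D : Subgroup G}
    (hD : Cfsg.IsStronglyClosed D (P : Subgroup G))
    (hJ : Cfsg.HasNormalPComplement p
      (Subgroup.normalizer (ZJ.zCore p e D : Set G))) :
    Cfsg.HasNormalPComplement p G := by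
  suffices h : ∀ n : ℕ, ∀ (G : Type u) [Group G] [Finite G], Nat.card G = n → ∀ (P : Sylow p G)
      (D : Subgroup G), Cfsg.IsStronglyClosed D (P : Subgroup G) →
      Cfsg.HasNormalPComplement p
        (Subgroup.normalizer (ZJ.zCore p e D : Set G)) →
      Cfsg.HasNormalPComplement p G from h _ G rfl P D hD hJ
  intro n
  induction n using Nat.strong_induction_on with
  | _ n ih =>
    intro G _ _ hn P D hD hJ
    by_contra hG
    have hIH : ∀ K : Subgroup G, K ≠ ⊤ → ∀ (S : Sylow p K) (E : Subgroup K),
        Cfsg.IsStronglyClosed E (S : Subgroup K) →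
        Cfsg.HasNormalPComplement p
          (Subgroup.normalizer (ZJ.zCore p e E : Set K)) →
        Cfsg.HasNormalPComplement p K := by
      intro K hK S E hE h1
      refine ih _ ?_ K rfl S E hE h1
      rw [← hn]
      exact lt_of_le_of_ne (Subgroup.card_le_card_group K) (fun h => hK (Subgroup.eq_top_of_card_eq K h))
    obtain ⟨U0, hU0n, hU0p, hU01⟩ := exists_normal_pSubgroup e P hD hJ hIH hG
    set U := Cfsg.pCore p G with hU
    have hU1 : U ≠ ⊥ := fun h => hU01 (le_bot_iff.1 (h ▸ PBasic.le_pCore hU0n hU0p))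
    have hUP : U ≤ (P : Subgroup G) := PBasic.pCore_le_sylow P
    have hproper : ∀ L : Subgroup G, (P : Subgroup G) ≤ L → L ≠ ⊤ →
        Cfsg.HasNormalPComplement p L := by
      intro L hPL hL
      have hmap : ((P.subtype hPL : Sylow p L) : Subgroup L).map L.subtype = (P : Subgroup G) :=
        Subgroup.map_subgroupOf_eq_of_le hPL
      refine hIH L hL (P.subtype hPL) (D.subgroupOf L)
        ⟨fun x hx => hD.1 hx, fun x hx y hy => hD.2 _ hx y hy⟩
        (ThompsonNPC.npc_normalizer_of_injective L.subtype Subtype.coe_injective _ ?_)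
      rw [ZJ.zCore_map L.subtype L.subtype_injective.injOn,
        Subgroup.map_subgroupOf_eq_of_le (hD.1.trans hPL)]
      exact hJ
    -- `O_{p'}(G) = 1`
    have hM : Cfsg.pPrimeCore p G = ⊥ := by
      by_contra hM1
      set M := Cfsg.pPrimeCore p G with hMdef
      set f := QuotientGroup.mk' M with hf
      have hfs : Function.Surjective f := QuotientGroup.mk'_surjective M
      have hker : (Nat.card f.ker).Coprime p := by
        rw [hf, QuotientGroup.ker_mk']; exact PBasic.pPrimeCore_coprime p G
      have hinj : Set.InjOn f (P : Subgroup G) := CoprimeQuotient.injOn_of_coprime_ker f hker P.isPGroup'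
      have hlt : Nat.card (G ⧸ M) < n := by
        rw [← hn]
        change M.index < _
        rw [← M.card_mul_index]
        exact lt_mul_of_one_lt_left (Nat.pos_of_ne_zero M.index_ne_zero_of_finite)
          (Subgroup.one_lt_card_iff_ne_bot M |>.2 hM1)
      have hq : Cfsg.HasNormalPComplement p (G ⧸ M) := by
        refine ih _ hlt (G ⧸ M) rfl (P.mapSurjective hfs) _
          (ClosedZJ.stronglyClosed_map P hD (Or.inl (PBasic.pPrimeCore_coprime p G))) ?_
        rw [← ZJ.zCore_map f (hinj.mono hD.1),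
          CoprimeQuotient.normalizer_map f hfs hker (P.isPGroup'.to_le ((ClosedZJ.zCore_le _).trans hD.1))]
        exact PBasic.hasNormalPComplement_of_surjective (f.subgroupMap _)
          (f.subgroupMap_surjective _) hJ
      apply hG
      rw [PBasic.hasNormalPComplement_iff_pResidual, PBasic.coprime_card_iff]
      intro x hx
      have h1 := (PBasic.mem_pResidual_iff hq).1 (PBasic.map_pResidual_le f (Subgroup.mem_map_of_mem f hx))
      have h2 : x ^ orderOf (f x) ∈ f.ker := by rw [MonoidHom.mem_ker, map_pow, pow_orderOf_eq_one]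
      have h3 : orderOf x ∣ orderOf (f x) * Nat.card f.ker :=
        orderOf_dvd_of_pow_eq_one (by
          rw [pow_mul]
          exact congrArg Subtype.val (pow_card_eq_one' (x := (⟨_, h2⟩ : f.ker))))
      exact Nat.Coprime.coprime_dvd_left h3 (Nat.Coprime.mul_left h1 hker)
    -- the quotient by `O_p(G)` has a normal complement
    set f := QuotientGroup.mk' U with hf
    have hfs : Function.Surjective f := QuotientGroup.mk'_surjective U
    have hO : Cfsg.pCore p (G ⧸ U) = ⊥ := PBasic.pCore_quotient_pCore p G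
    have hbar : Cfsg.HasNormalPComplement p (G ⧸ U) := by
      set Pbar := P.mapSurjective hfs with hPbar
      have hDbar := ClosedZJ.stronglyClosed_map P hD (Or.inr hUP)
      have hDbar1 : D.map f ≠ ⊥ := by
        intro h
        rw [Subgroup.map_eq_bot_iff, hf, QuotientGroup.ker_mk'] at h
        have h1 : Subgroup.normalizer (ZJ.zCore p e D : Set G) = ⊤ := by
          rw [eq_top_iff]
          refine le_trans (fun g _ => ?_) (ClosedZJ.normalizer_le D)
          refine Subgroup.mem_normalizer_iff.2 fun x => ⟨fun hx => ?_, fun hx => ?_⟩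
          · exact hD.2 x hx g (hUP (Subgroup.Normal.conj_mem (Cfsg.pCore_normal p G) x (h hx) g))
          · have h2 := hD.2 _ hx g⁻¹ (hUP (Subgroup.Normal.conj_mem (Cfsg.pCore_normal p G) _ (h hx) g⁻¹))
            rwa [show g⁻¹ * (g * x * g⁻¹) * g⁻¹⁻¹ = x by group] at h2
        rw [h1, PBasic.hasNormalPComplement_congr Subgroup.topEquiv] at hJ
        exact hG hJ
      refine ih _ ?_ (G ⧸ U) rfl Pbar _ hDbar ?_
      · rw [← hn]
        change U.index < _
        rw [← U.card_mul_index]
        exact lt_mul_of_one_lt_left (Nat.pos_of_ne_zero U.index_ne_zero_of_finite)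
          (Subgroup.one_lt_card_iff_ne_bot U |>.2 hU1)
      set W := ZJ.zCore p e (D.map f) with hW
      have hWp : IsPGroup p W := Pbar.isPGroup'.to_le ((ClosedZJ.zCore_le _).trans hDbar.1)
      have hW1 : W ≠ ⊥ := ZJ.zCore_ne_bot (e := e) (Pbar.isPGroup'.to_le hDbar.1) hDbar1
      set L := (Subgroup.normalizer (W : Set (G ⧸ U))).comap f with hL
      have hLtop : L ≠ ⊤ := by
        intro h
        have h1 : Subgroup.normalizer (W : Set (G ⧸ U)) = ⊤ := by
          rw [← Subgroup.map_comap_eq_self_of_surjective hfs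
            (Subgroup.normalizer (W : Set (G ⧸ U))), ← hL, h,
            Subgroup.map_top_of_surjective f hfs]
        exact hW1 (le_bot_iff.1 (hO ▸ PBasic.le_pCore (Subgroup.normalizer_eq_top_iff.1 h1) hWp))
      have h2 := hproper L (Subgroup.map_le_iff_le_comap.1 (ClosedZJ.sylow_le (S := Pbar) hDbar)) hLtop
      have h3 := PBasic.hasNormalPComplement_of_surjective (f.subgroupMap L)
        (f.subgroupMap_surjective L) h2
      rwa [hL, Subgroup.map_comap_eq_self_of_surjective hfs] at h3
    -- `C(O_p(G)) ≤ O_p(G)`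
    have hC : Subgroup.centralizer (U : Set G) ≤ U := by
      set C := Subgroup.centralizer (U : Set G) ⊓ (Cfsg.pResidual p (G ⧸ U)).comap f with hCdef
      haveI hCn : C.Normal := Subgroup.normal_inf_normal _ _
      obtain ⟨PC, hPC⟩ := PBasic.exists_sylow_subgroupOf P C
      have hcen : ∀ x : C, x ∈ (PC : Subgroup C) → (x : G) ∈ U := by
        intro x hx
        rw [hPC] at hx
        have h1 : f (x : G) ∈ Cfsg.pResidual p (G ⧸ U) ⊓ (P.mapSurjective hfs : Subgroup (G ⧸ U)) :=
          Subgroup.mem_inf.2 ⟨(Subgroup.mem_inf.1 x.2).2, Subgroup.mem_map_of_mem f hx⟩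
        rw [PBasic.inf_eq_bot_of_coprime (PBasic.hasNormalPComplement_iff_pResidual.1 hbar)
          (P.mapSurjective hfs).isPGroup', Subgroup.mem_bot] at h1
        exact (QuotientGroup.eq_one_iff _).1 h1
      have hCnpc : Cfsg.HasNormalPComplement p C := by
        refine Fusion.hasNormalPComplement_of_normalizer_le_centralizer PC fun y _ x hx => ?_
        exact Subtype.ext ((Subgroup.mem_inf.1 y.2).1 (x : G) (hcen x hx))
      have hres : (Cfsg.pResidual p C).map C.subtype = ⊥ := by
        rw [← le_bot_iff, ← hM]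
        refine le_trans (Subgroup.map_mono ?_) (PBasic.map_pPrimeCore_le_of_normal C)
        exact (PBasic.pPrimeCore_eq_pResidual hCnpc).ge
      rw [Subgroup.map_eq_bot_iff_of_injective _ Subtype.coe_injective] at hres
      have hCp : IsPGroup p C := by
        refine PBasic.isPGroup_iff_forall_coprime.2 fun x hx => ?_
        rw [← Subgroup.mem_bot, ← hres]
        exact PBasic.mem_pResidual hx
      have hCU : C ≤ U := PBasic.le_pCore hCn hCp
      haveI : ((Subgroup.centralizer (U : Set G)).map f).Normal :=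
        Subgroup.Normal.map inferInstance f hfs
      have h1 : (Subgroup.centralizer (U : Set G)).map f = ⊥ := by
        refine ThompsonNPC.eq_bot_of_inf_pResidual hO _ ?_
        rw [Subgroup.eq_bot_iff_forall]
        rintro _ ⟨⟨g, hg, rfl⟩, h2⟩
        exact (QuotientGroup.eq_one_iff g).2 (hCU ⟨hg, h2⟩)
      rwa [Subgroup.map_eq_bot_iff, hf, QuotientGroup.ker_mk'] at h1
    -- `P` is maximal
    have hmax : ∀ L : Subgroup G, (P : Subgroup G) ≤ L → L ≠ ⊤ → L = (P : Subgroup G) := by
      intro L hPL hL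
      have hnpc := hproper L hPL hL
      refine P.is_maximal' ?_ hPL
      refine PBasic.isPGroup_iff_forall_coprime.2 fun x hx => ?_
      have h1 : (x : G) ∈ Subgroup.centralizer (U : Set G) := by
        intro u hu
        have hu' : u ∈ L := hPL (hUP hu)
        have h2 : (⟨u, hu'⟩ : L) * x * (⟨u, hu'⟩ : L)⁻¹ * x⁻¹ = 1 := by
          refine PBasic.eq_one_of_isPGroup_of_coprime (p := p)
            (P := U.subgroupOf L) (PBasic.pCore_isPGroup p G).comap_subtype ?_ ?_
          · rw [Subgroup.mem_subgroupOf]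
            simp only [Subgroup.coe_mul, Subgroup.coe_inv, mul_assoc]
            refine U.mul_mem hu ?_
            simpa [mul_assoc] using (Cfsg.pCore_normal p G).conj_mem u⁻¹ (U.inv_mem hu) (x : G)
          · refine (PBasic.mem_pResidual_iff hnpc).1 ?_
            exact Subgroup.mul_mem _
              ((PBasic.pResidual_normal_inst p L).conj_mem x (PBasic.mem_pResidual hx) _)
              (Subgroup.inv_mem _ (PBasic.mem_pResidual hx))
        rw [mul_inv_eq_one, mul_inv_eq_iff_eq_mul] at h2
        exact congrArg Subtype.val h2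
      exact Subtype.ext (PBasic.eq_one_of_isPGroup_of_coprime (PBasic.pCore_isPGroup p G) (hC h1)
        (by rwa [Subgroup.orderOf_coe]))
    -- the end
    have hmaxbar : ∀ L : Subgroup (G ⧸ U), (P.mapSurjective hfs : Subgroup (G ⧸ U)) ≤ L → L ≠ ⊤ →
        L = (P.mapSurjective hfs : Subgroup (G ⧸ U)) := by
      intro L hL hLtop
      have h := hmax (L.comap f) (by rw [← Subgroup.map_le_iff_le_comap]; exact hL) (fun h => hLtop (by
        rw [← Subgroup.map_comap_eq_self_of_surjective hfs L, h,
          Subgroup.map_top_of_surjective f hfs]))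
      rw [Sylow.coe_mapSurjective, ← h, Subgroup.map_comap_eq_self_of_surjective hfs]
    have hK := ThompsonNPC.pResidual_commute_of_maximal (P.mapSurjective hfs) hbar hmaxbar
    haveI := ZJClosed.zCore_normal hp2 (ZJNPC.isQuad_of_abelian_residual hp2 hbar hK) hC P hD e
    rw [Subgroup.normalizer_eq_top, PBasic.hasNormalPComplement_congr Subgroup.topEquiv] at hJ
    exact hG hJ

end Cfsg.Agent.ClosedZJNPC
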