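import Cfsg.Agent.Lib.Functors.LocalGlobal

/-!
Control of strong fusion and of transfer by families of conjugacy functors: independence of the
Sylow subgroup, and passage from normalizers to the whole group.
-/

set_option autoImplicit false
set_option linter.style.haveILetI false

namespace Cfsg.Agent.Functors

open Cfsg

variable {G : Type*} [Group G] {p : ℕ}

/-- Control of strong fusion in `H` read at the Sylow subgroup `T`. -/
def SFAt (𝓦 : Set (Subgroup G → Subgroup G)) (H T : Subgroup G) : Prop :=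
  ∀ (A : Set G) (h : G), h ∈ H → A ⊆ T → (fun a => h * a * h⁻¹) '' A ⊆ T →
    ∃ (n : ℕ) (c : Fin (n + 1) → G), c 0 = 1 ∧
      (∀ i : Fin n, ∃ W ∈ 𝓦,
        c i.succ * (c i.castSucc)⁻¹ ∈ H ⊓ Subgroup.normalizer ((W T : Subgroup G) : Set G)) ∧
      (∀ i : Fin (n + 1), (fun a => c i * a * (c i)⁻¹) '' A ⊆ T) ∧
      ∀ a ∈ A, c (Fin.last n) * a * (c (Fin.last n))⁻¹ = h * a * h⁻¹

/-- `⨆ W, T ∩ N_H(W T)'`. -/
def transferPart (𝓦 : Set (Subgroup G → Subgroup G)) (H T : Subgroup G) : Subgroup G :=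
  ⨆ W ∈ 𝓦, T ⊓ ⁅H ⊓ Subgroup.normalizer ((W T : Subgroup G) : Set G),
    H ⊓ Subgroup.normalizer ((W T : Subgroup G) : Set G)⁆

theorem familySF_iff (𝓦 : Set (Subgroup G → Subgroup G)) (H : Subgroup G) :
    FamilyControlsStrongFusionIn p 𝓦 H ↔ ∃ T, IsSylowIn p T H ∧ SFAt 𝓦 H T :=
  ⟨fun ⟨T, h1, h2, h3, h4⟩ => ⟨T, ⟨h1, h2, h3⟩, h4⟩, fun ⟨T, ⟨h1, h2, h3⟩, h4⟩ => ⟨T, h1, h2, h3, h4⟩⟩

theorem familyTR_iff (𝓦 : Set (Subgroup G → Subgroup G)) (H : Subgroup G) :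
    FamilyControlsTransferIn p 𝓦 H ↔
      ∃ T, IsSylowIn p T H ∧ T ⊓ ⁅H, H⁆ = transferPart 𝓦 H T :=
  ⟨fun ⟨T, h1, h2, h3, h4⟩ => ⟨T, ⟨h1, h2, h3⟩, h4⟩, fun ⟨T, ⟨h1, h2, h3⟩, h4⟩ => ⟨T, h1, h2, h3, h4⟩⟩

theorem transferPart_le (𝓦 : Set (Subgroup G → Subgroup G)) (H T : Subgroup G) :
    transferPart 𝓦 H T ≤ T ⊓ ⁅H, H⁆ :=
  iSup₂_le fun _ _ => inf_le_inf_left _ (Subgroup.commutator_mono inf_le_left inf_le_left)

theorem map_cj_inf (A B : Subgroup G) (g : G) : (A ⊓ B).map (cj g) = A.map (cj g) ⊓ B.map (cj g) :=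
  Subgroup.map_inf A B _ (cj_injective g)

/-! ### a single functor -/

theorem singletonSF_iff (W : Subgroup G → Subgroup G) (H : Subgroup G) :
    FamilyControlsStrongFusionIn p {W} H ↔ ControlsStrongFusionIn p W H := by
  constructor
  · rintro ⟨T, h1, h2, h3, h4⟩
    refine ⟨T, h1, h2, h3, fun A h hh hA hAh => ?_⟩
    obtain ⟨n, c, hc0, hstep, -, hlast⟩ := h4 A h hh hA hAh
    refine ⟨c (Fin.last n), ?_, hlast⟩
    have key : ∀ i : Fin (n + 1), c i ∈ H ⊓ Subgroup.normalizer ((W T : Subgroup G) : Set G) := by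
      intro i
      induction i using Fin.induction with
      | zero => rw [hc0]; exact one_mem _
      | succ i ih =>
        obtain ⟨W', hW', hm⟩ := hstep i
        rw [Set.mem_singleton_iff.1 hW'] at hm
        have := mul_mem hm ih
        rwa [inv_mul_cancel_right] at this
    exact key _
  · rintro ⟨T, h1, h2, h3, h4⟩
    refine ⟨T, h1, h2, h3, fun A h hh hA hAh => ?_⟩
    obtain ⟨x, hx, hxa⟩ := h4 A h hh hA hAh
    refine ⟨1, ![1, x], rfl, fun i => ⟨W, rfl, ?_⟩, fun i => ?_, fun a ha => hxa a ha⟩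
    · fin_cases i
      simpa using hx
    · fin_cases i
      · simpa using hA
      · rintro _ ⟨a, ha, rfl⟩
        have := hAh ⟨a, ha, rfl⟩
        simpa [hxa a ha] using this

theorem singletonTR_iff (W : Subgroup G → Subgroup G) (H : Subgroup G) :
    FamilyControlsTransferIn p {W} H ↔ ControlsTransferIn p W H := by
  simp [FamilyControlsTransferIn, ControlsTransferIn]

variable [Finite G] [hp : Fact p.Prime]

theorem SFAt.conj {𝓦 : Set (Subgroup G → Subgroup G)} (h𝓦 : ∀ W ∈ 𝓦, IsConjugacyFunctor p W)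
    {H T T' : Subgroup G} (hT : IsSylowIn p T H) (h : SFAt 𝓦 H T) (hT' : IsSylowIn p T' H) :
    SFAt 𝓦 H T' := by
  obtain ⟨n, hn, hnT⟩ := exists_conj_eq_of_isSylowIn hT' hT
  intro A g hg hA hgA
  have hback : ∀ x ∈ T', n⁻¹ * x * n ∈ T := fun x hx => by
    rw [← hnT, mem_map_cj] at hx; exact hx
  have hforth : ∀ x ∈ T, n * x * n⁻¹ ∈ T' := fun x hx => by
    rw [← hnT]; exact ⟨x, hx, rfl⟩
  obtain ⟨m, c, hc0, hstep, hin, hlast⟩ := h (cj n⁻¹ '' A) (n⁻¹ * g * n)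
    (mul_mem (mul_mem (inv_mem hn) hg) hn)
    (by rintro _ ⟨a, ha, rfl⟩; rw [cj_apply, inv_inv]; exact hback a (hA ha))
    (by
      rintro _ ⟨_, ⟨a, ha, rfl⟩, rfl⟩
      have := hback _ (hgA ⟨a, ha, rfl⟩)
      simp only at this ⊢
      rw [cj_apply, show n⁻¹ * g * n * (n⁻¹ * a * n⁻¹⁻¹) * (n⁻¹ * g * n)⁻¹
        = n⁻¹ * (g * a * g⁻¹) * n by group]
      exact this)
  refine ⟨m, fun i => n * c i * n⁻¹, by simp [hc0], fun i => ?_, fun i => ?_, fun a ha => ?_⟩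
  · obtain ⟨W, hW, hm⟩ := hstep i
    refine ⟨W, hW, ?_⟩
    have h1 : cj n (c i.succ * (c i.castSucc)⁻¹) ∈
        (H ⊓ Subgroup.normalizer ((W T : Subgroup G) : Set G)).map (cj n) := Subgroup.mem_map_of_mem _ hm
    rw [map_cj_inf, map_cj_eq_iff.2 (Subgroup.le_normalizer hn), map_cj_normalizer,
      ← conjFunctor_map (h𝓦 W hW) hT.isPGroup n, hnT] at h1
    rw [show n * c i.succ * n⁻¹ * (n * c i.castSucc * n⁻¹)⁻¹ = cj n (c i.succ * (c i.castSucc)⁻¹) by
      rw [cj_apply]; group]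
    exact h1
  · rintro _ ⟨a, ha, rfl⟩
    have := hforth _ (hin i ⟨_, ⟨a, ha, rfl⟩, rfl⟩)
    simp only [cj_apply] at this ⊢
    rw [show n * c i * n⁻¹ * a * (n * c i * n⁻¹)⁻¹
      = n * (c i * (n⁻¹ * a * n⁻¹⁻¹) * (c i)⁻¹) * n⁻¹ by group]
    exact this
  · have := hlast _ ⟨a, ha, rfl⟩
    rw [cj_apply] at this
    calc n * c (Fin.last m) * n⁻¹ * a * (n * c (Fin.last m) * n⁻¹)⁻¹
        = n * (c (Fin.last m) * (n⁻¹ * a * n⁻¹⁻¹) * (c (Fin.last m))⁻¹) * n⁻¹ := by group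
      _ = g * a * g⁻¹ := by rw [this]; group

theorem transferPart_conj {𝓦 : Set (Subgroup G → Subgroup G)} (h𝓦 : ∀ W ∈ 𝓦, IsConjugacyFunctor p W)
    {H T T' : Subgroup G} (hT : IsSylowIn p T H) (hT' : IsSylowIn p T' H)
    (h : T ⊓ ⁅H, H⁆ = transferPart 𝓦 H T) : T' ⊓ ⁅H, H⁆ = transferPart 𝓦 H T' := by
  obtain ⟨n, hn, hnT⟩ := exists_conj_eq_of_isSylowIn hT' hT
  have hH : H.map (cj n) = H := map_cj_eq_iff.2 (Subgroup.le_normalizer hn)
  have h1 := congrArg (Subgroup.map (cj n)) h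
  rw [map_cj_inf, hnT, Subgroup.map_commutator, hH, transferPart, Subgroup.map_iSup] at h1
  rw [h1, transferPart]
  refine iSup_congr fun W => ?_
  rw [Subgroup.map_iSup]
  refine iSup_congr fun hW => ?_
  rw [map_cj_inf, hnT, Subgroup.map_commutator, map_cj_inf, hH, map_cj_normalizer,
    ← conjFunctor_map (h𝓦 W hW) hT.isPGroup n, hnT]

/-- Fusion: from suitable normalizers to `G`. -/
theorem strongFusion_local_to_global {S : Subgroup G} (hS : IsPGroup p ↥S)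
    (𝓦 : Set (Subgroup G → Subgroup G)) (h𝓦 : ∀ W ∈ 𝓦, IsConjugacyFunctor p W) (Φ : Subgroup G → Prop)
    (hΦ : ∀ V, Φ V → V ≤ S ∧ IsSylowIn p (S ⊓ Subgroup.normalizer (V : Set G)) (Subgroup.normalizer (V : Set G)))
    (hΦtop : ∀ V : Subgroup G, V ≤ S → S ≤ Subgroup.normalizer (V : Set G) → Φ V)
    (hex : ∀ V : Subgroup G, V ≠ ⊥ → V ≤ S → ∃ h : G, Φ (V.map (cj h)) ∧
      (S ⊓ Subgroup.normalizer (V : Set G)).map (cj h) ≤ S)
    (hloc : ∀ V : Subgroup G, V ≠ ⊥ → Φ V →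
      FamilyControlsStrongFusionIn p 𝓦 (Subgroup.normalizer (V : Set G))) :
    ∀ (A : Set G) (g : G), A ⊆ S → cj g '' A ⊆ S →
      Reach S ((fun W => Subgroup.normalizer ((W S : Subgroup G) : Set G)) '' 𝓦) A g := by
  set R := Reach S ((fun W => Subgroup.normalizer ((W S : Subgroup G) : Set G)) '' 𝓦)
  have hR : IsMapRel S R := isMapRel_reach _ _
  refine (local_to_global hS hR 𝓦 h𝓦
    (fun V => ∀ (A : Set G) (g : G), g ∈ Subgroup.normalizer (V : Set G) →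
      A ⊆ (S ⊓ Subgroup.normalizer (V : Set G) : Subgroup G) →
      cj g '' A ⊆ (S ⊓ Subgroup.normalizer (V : Set G) : Subgroup G) → R A g)
    Φ hΦ hΦtop hex ?_ ?_ ?_).1
  · intro X _ hX hloc x hx
    refine hloc _ x hx (le_inf hX Subgroup.le_normalizer) ?_
    rw [cj_image_coe, map_cj_eq_iff.2 hx]
    exact le_inf hX Subgroup.le_normalizer
  · intro V h _ _ rh hloc A g hg hA hgA
    have hh : ∀ a ∈ (S ⊓ Subgroup.normalizer (V : Set G) : Subgroup G), h * a * h⁻¹ ∈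
        (S ⊓ Subgroup.normalizer (V.map (cj h) : Set G) : Subgroup G) := fun a ha =>
      Subgroup.mem_inf.2 ⟨(hR.sub rh a ha).2, by
        rw [← map_cj_normalizer]; exact ⟨a, (Subgroup.mem_inf.1 ha).2, rfl⟩⟩
    have hx : h * g * h⁻¹ ∈ Subgroup.normalizer (V.map (cj h) : Set G) := by
      rw [← map_cj_normalizer]; exact ⟨g, hg, rfl⟩
    have r1 := hR.mono hA rh
    have r2 := hR.trans r1 (hloc _ _ hx
      (by rintro _ ⟨a, ha, rfl⟩; exact hh a (hA ha))
      (by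
        rintro _ ⟨_, ⟨a, ha, rfl⟩, rfl⟩
        have := hh _ (hgA ⟨a, ha, rfl⟩)
        simp only [cj_apply] at this ⊢
        rw [show h * g * h⁻¹ * (h * a * h⁻¹) * (h * g * h⁻¹)⁻¹ = h * (g * a * g⁻¹) * h⁻¹ by group]
        exact this))
    have e : h * g * h⁻¹ * h = h * g := by group
    rw [e] at r2
    have r3 : R (cj (h * g) '' A) h⁻¹ := by
      rw [← cj_image_image]
      exact hR.symm (hR.mono hgA rh)
    have r4 := hR.trans r2 r3
    rwa [inv_mul_cancel_left] at r4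
  · intro V hV hVΦ hclimb A g hg hA hgA
    obtain ⟨T, hT, hsf⟩ := (familySF_iff 𝓦 _).1 (hloc V hV hVΦ)
    obtain ⟨m, c, hc0, hstep, hin, hlast⟩ := (hsf.conj h𝓦 hT (hΦ V hVΦ).2) A g hg hA hgA
    set P := S ⊓ Subgroup.normalizer (V : Set G) with hP
    refine hR.of_fin (hA.trans (SetLike.coe_subset_coe.2 inf_le_left)) c hc0 (fun i => ?_) hlast
    obtain ⟨W, hW, hx⟩ := hstep i
    obtain ⟨hxV, hxW⟩ := Subgroup.mem_inf.1 hx
    have hsrc : cj (c i.castSucc) '' A ⊆ P := hin i.castSucc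
    have htgt : cj (c i.succ * (c i.castSucc)⁻¹) '' (cj (c i.castSucc) '' A) ⊆ P := by
      rw [cj_image_image, inv_mul_cancel_right]; exact hin i.succ
    rcases hclimb W hW with hPS | hL
    · rw [hPS] at hxW hsrc htgt
      exact Reach.single hsrc ⟨_, ⟨W, hW, rfl⟩, hxW⟩ htgt
    · have hPW : P ≤ S ⊓ Subgroup.normalizer ((W P : Subgroup G) : Set G) :=
        le_inf inf_le_left (le_normalizer_conjFunctor (h𝓦 W hW) (hS.to_le inf_le_left))
      exact hL _ _ hxW (hsrc.trans hPW) (htgt.trans hPW)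

theorem familySF_top_of_reach {S : Sylow p G} {𝓦 : Set (Subgroup G → Subgroup G)}
    (h : ∀ (A : Set G) (g : G), A ⊆ (S : Subgroup G) → cj g '' A ⊆ (S : Subgroup G) →
      Reach (S : Subgroup G) ((fun W => Subgroup.normalizer ((W (S : Subgroup G) : Subgroup G) : Set G)) '' 𝓦) A g) :
    FamilyControlsStrongFusionIn p 𝓦 ⊤ := by
  refine (familySF_iff 𝓦 ⊤).2 ⟨(S : Subgroup G), isSylowIn_sylow S, fun A g _ hA hgA => ?_⟩
  obtain ⟨n, c, hc0, hstep, hin, hlast⟩ := (h A g hA hgA).exists_fin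
  refine ⟨n, c, hc0, fun i => ?_, hin, hlast⟩
  obtain ⟨-, ⟨W, hW, rfl⟩, hx⟩ := hstep i
  exact ⟨W, hW, Subgroup.mem_inf.2 ⟨Subgroup.mem_top _, hx⟩⟩

/-- Transfer: from suitable normalizers to `G`. -/
theorem transfer_local_to_global (S : Sylow p G)
    (𝓦 : Set (Subgroup G → Subgroup G)) (h𝓦 : ∀ W ∈ 𝓦, IsConjugacyFunctor p W) (Φ : Subgroup G → Prop)
    (hΦ : ∀ V, Φ V → V ≤ (S : Subgroup G) ∧ IsSylowIn p ((S : Subgroup G) ⊓ Subgroup.normalizer (V : Set G)) (Subgroup.normalizer (V : Set G)))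
    (hΦtop : ∀ V : Subgroup G, V ≤ (S : Subgroup G) → (S : Subgroup G) ≤ Subgroup.normalizer (V : Set G) → Φ V)
    (hex : ∀ V : Subgroup G, V ≠ ⊥ → V ≤ (S : Subgroup G) → ∃ h : G, Φ (V.map (cj h)) ∧
      ((S : Subgroup G) ⊓ Subgroup.normalizer (V : Set G)).map (cj h) ≤ S)
    (hloc : ∀ V : Subgroup G, V ≠ ⊥ → Φ V →
      FamilyControlsTransferIn p 𝓦 (Subgroup.normalizer (V : Set G))) :
    FamilyControlsTransferIn p 𝓦 ⊤ := by
  set T₀ := transferPart 𝓦 ⊤ (S : Subgroup G) with hT₀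
  let R : Set G → G → Prop := fun A g =>
    ∀ a ∈ A, a ∈ (S : Subgroup G) ∧ g * a * g⁻¹ ∈ (S : Subgroup G) ∧ a⁻¹ * (g * a * g⁻¹) ∈ T₀
  have hR : IsMapRel (S : Subgroup G) R :=
    { sub := fun r a ha => ⟨(r a ha).1, (r a ha).2.1⟩
      triv := fun hA hg a ha => ⟨hA ha, by rw [hg a ha]; exact hA ha,
        by rw [hg a ha, inv_mul_cancel]; exact one_mem _⟩
      congr := fun r h a ha => by rw [h a ha]; exact r a ha
      mono := fun h r a ha => r a (h ha)
      trans := fun {A g h} r r' a ha => by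
        obtain ⟨h1, h2, h3⟩ := r a ha
        obtain ⟨-, h5, h6⟩ := r' _ ⟨a, ha, rfl⟩
        simp only [cj_apply] at h5 h6
        have e : h * g * a * (h * g)⁻¹ = h * (g * a * g⁻¹) * h⁻¹ := by group
        refine ⟨h1, by rw [e]; exact h5, ?_⟩
        rw [e]
        have := mul_mem h3 h6
        rwa [mul_assoc, mul_inv_cancel_left] at this
      symm := fun {A g} r => by
        rintro _ ⟨a, ha, rfl⟩
        obtain ⟨h1, h2, h3⟩ := r a ha
        have e : g⁻¹ * (g * a * g⁻¹) * g⁻¹⁻¹ = a := by group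
        simp only [cj_apply]
        refine ⟨h2, by rw [e]; exact h1, ?_⟩
        rw [e]
        have := inv_mem h3
        rwa [mul_inv_rev, inv_inv] at this }
  suffices hall : ∀ (A : Set G) (g : G), A ⊆ (S : Subgroup G) → cj g '' A ⊆ (S : Subgroup G) → R A g by
    refine (familyTR_iff 𝓦 ⊤).2 ⟨(S : Subgroup G), isSylowIn_sylow S,
      le_antisymm ?_ (transferPart_le _ _ _)⟩
    rw [inf_comm, ← commutator_def, Subgroup.commutator_inf_eq_focalSubgroup,
      Subgroup.focalSubgroup_def, Subgroup.closure_le]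
    rintro _ ⟨hz, x, hx, u, rfl⟩
    have hux : u * x⁻¹ * u⁻¹ ∈ (S : Subgroup G) := by
      have := mul_mem (inv_mem hx) hz
      simpa [commutatorElement_def, mul_assoc] using this
    have := ((hall {x⁻¹} u (by intro a ha; rw [Set.mem_singleton_iff] at ha; rw [ha]; exact inv_mem hx)
      (by rintro _ ⟨a, ha, rfl⟩; rw [Set.mem_singleton_iff] at ha; rw [ha]; exact hux)) x⁻¹ rfl).2.2
    rw [inv_inv] at this
    simpa [commutatorElement_def, mul_assoc] using this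
  refine (local_to_global S.isPGroup' hR 𝓦 h𝓦
    (fun V => (S : Subgroup G) ⊓ Subgroup.normalizer (V : Set G) ⊓
      ⁅Subgroup.normalizer (V : Set G), Subgroup.normalizer (V : Set G)⁆ ≤ T₀)
    Φ hΦ hΦtop hex ?_ ?_ ?_).1
  · intro X _ hX hloc x hx a ha
    have hxa : x * a * x⁻¹ ∈ X := (Subgroup.mem_normalizer_iff.1 hx a).1 ha
    refine ⟨hX ha, hX hxa, hloc (Subgroup.mem_inf.2 ⟨Subgroup.mem_inf.2
      ⟨mul_mem (inv_mem (hX ha)) (hX hxa),
        Subgroup.le_normalizer (mul_mem (inv_mem ha) hxa)⟩, ?_⟩)⟩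
    have := Subgroup.commutator_mem_commutator
      (inv_mem (Subgroup.le_normalizer ha) : a⁻¹ ∈ Subgroup.normalizer (X : Set G)) hx
    simpa [commutatorElement_def, mul_assoc] using this
  · intro V h _ _ rh hloc x hx
    obtain ⟨hxS, hxc⟩ := Subgroup.mem_inf.1 hx
    obtain ⟨h1, h2, h3⟩ := rh x hxS
    have h4 : h * x * h⁻¹ ∈ T₀ := by
      refine hloc (Subgroup.mem_inf.2 ⟨Subgroup.mem_inf.2 ⟨h2, ?_⟩, ?_⟩)
      · rw [← map_cj_normalizer]; exact ⟨x, (Subgroup.mem_inf.1 hxS).2, rfl⟩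
      · rw [← map_cj_normalizer, ← Subgroup.map_commutator]; exact ⟨x, hxc, rfl⟩
    have := mul_mem h4 (inv_mem h3)
    rwa [mul_inv_rev, inv_inv, mul_inv_cancel_left] at this
  · intro V hV hVΦ hclimb
    obtain ⟨T, hT, htr⟩ := (familyTR_iff 𝓦 _).1 (hloc V hV hVΦ)
    rw [transferPart_conj h𝓦 hT (hΦ V hVΦ).2 htr]
    refine iSup₂_le fun W hW => ?_
    rcases hclimb W hW with hPS | hL
    · rw [hPS]
      exact le_iSup₂_of_le W hW
        (inf_le_inf_left _ (Subgroup.commutator_mono (inf_le_inf_right _ le_top) (inf_le_inf_right _ le_top)))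
    · refine le_trans ?_ hL
      exact inf_le_inf (le_inf inf_le_left
          (le_normalizer_conjFunctor (h𝓦 W hW) (S.isPGroup'.to_le inf_le_left)))
        (Subgroup.commutator_mono inf_le_right inf_le_right)

/-! ### the default choice of `Φ` -/

/-- `V ≤ S` with `N_S(V)` Sylow in `N(V)`. -/
def Extremal (p : ℕ) (S V : Subgroup G) : Prop :=
  V ≤ S ∧ IsSylowIn p (S ⊓ Subgroup.normalizer (V : Set G)) (Subgroup.normalizer (V : Set G))

omit hp in
theorem extremal_of_normal (S : Sylow p G) [Fact p.Prime] {V : Subgroup G} (hV : V ≤ (S : Subgroup G))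
    (hn : (S : Subgroup G) ≤ Subgroup.normalizer (V : Set G)) : Extremal p (S : Subgroup G) V := by
  refine ⟨hV, ?_⟩
  rw [inf_eq_left.2 hn]
  exact (isSylowIn_sylow S).of_le hn le_top

theorem exists_extremal (S : Sylow p G) {V : Subgroup G} (hV : V ≤ (S : Subgroup G)) :
    ∃ h : G, Extremal p (S : Subgroup G) (V.map (cj h)) ∧
      ((S : Subgroup G) ⊓ Subgroup.normalizer (V : Set G)).map (cj h) ≤ S := by
  obtain ⟨P, hP, hle⟩ := exists_isSylowIn_ge (p := p)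
    (S.isPGroup'.to_le (inf_le_left : (S : Subgroup G) ⊓ Subgroup.normalizer (V : Set G) ≤ _)) inf_le_right
  obtain ⟨h, -, hh⟩ := exists_conj_le_of_isSylowIn (isSylowIn_sylow S) hP.isPGroup le_top
  have hVh : V.map (cj h) ≤ (S : Subgroup G) :=
    (Subgroup.map_mono ((le_inf hV Subgroup.le_normalizer).trans hle)).trans hh
  refine ⟨h, ⟨hVh, ?_⟩, (Subgroup.map_mono hle).trans hh⟩
  have h1 := hP.map_cj h
  rw [map_cj_normalizer] at h1
  have h2 := h1.eq_of_le (R := (S : Subgroup G) ⊓ Subgroup.normalizer (V.map (cj h) : Set G))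
    (S.isPGroup'.to_le inf_le_left) (le_inf hh h1.le) inf_le_right
  rwa [← h2]

end Cfsg.Agent.Functors
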