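import Cfsg.Agent.Lib.Functors.ChiefP
import Cfsg.Agent.Lib.Functors.KInfinity
import Cfsg.Agent.Lib.Functors.Induced

/-!
A cubic element from a non-normal K-infinity subgroup.
-/

set_option autoImplicit false
set_option linter.style.haveILetI false
set_option linter.unusedSectionVars false

namespace Cfsg.Agent.Cubic

open Cfsg Cfsg.Agent.ChiefAct Cfsg.Agent.KInf
open scoped commutatorElement

universe u

variable {G : Type u} [Group G] [Finite G] {p : ℕ} [Fact p.Prime]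

/-- The conclusion asked of `g`. -/
def Good (p : ℕ) (S : Subgroup G) (A : Subgroup G) (g : G) : Prop :=
  g ∈ S ∧ g ∉ pCore p G ∧ iterCommutator A (Subgroup.zpowers g) 3 ≤ zc A ∧
    ⁅⁅zc A, Subgroup.zpowers g⁆, Subgroup.zpowers g⁆ = ⊥ ∧
    (Subgroup.centralizer ((pCore p G : Subgroup G) : Set G) ≤ pCore p G →
      ∃ U V : Subgroup G, IsChiefFactor U V ∧ U ≤ A ∧
        ⁅⁅U, Subgroup.zpowers g⁆, Subgroup.zpowers g⁆ ≤ V ∧ ¬ ⁅U, Subgroup.zpowers g⁆ ≤ V)

variable {A : Subgroup G} [hAn : A.Normal]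

theorem ab_zc (hA2 : ⁅A, A⁆ ≤ Subgroup.centralizer (A : Set G)) : ⁅A, A⁆ ≤ zc A :=
  le_inf (Subgroup.commutator_le_left A A) hA2

theorem zc_abelian (B : Subgroup G) : ⁅zc B, zc B⁆ ≤ ⊥ := by
  rw [le_bot_iff, Subgroup.commutator_eq_bot_iff_le_centralizer]
  exact inf_le_right.trans (Subgroup.centralizer_le (SetLike.coe_subset_coe.2 inf_le_left))

theorem quad_zc_iff (g : G) :
    ⁅⁅zc A, Subgroup.zpowers g⁆, Subgroup.zpowers g⁆ = ⊥ ↔ ∀ x ∈ zc A, ⁅⁅x, g⁆, g⁆ = 1 := by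
  rw [← le_bot_iff, quadratic_le_iff (X := zc A) (Y := ⊥) bot_le (zc_abelian A) le_rfl]
  simp only [Subgroup.mem_bot]

theorem facKer_inf_le_pCore (hAT : A ≤ pCore p G)
    (hA5 : ∀ φ : MulAut ↥(pCore p G), (orderOf φ).Coprime p →
      (∀ a : ↥(pCore p G), (a : G) ∈ A → φ a = a) → φ = 1)
    (hC : Subgroup.centralizer ((pCore p G : Subgroup G) : Set G) ≤ pCore p G) :
    facKer (zc A) A ⊓ facKer ⊥ (zc A) ≤ pCore p G := by
  refine PBasic.le_pCore inferInstance ?_
  rw [PBasic.isPGroup_iff_forall_coprime]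
  rintro ⟨x, hx⟩ hxc
  rw [Subgroup.orderOf_mk] at hxc
  obtain ⟨h1, h2⟩ := Subgroup.mem_inf.1 hx
  have hTp : IsPGroup p ↥(pCore p G) := PBasic.pCore_isPGroup p G
  have hxA := mem_centralizer_of_facKer (hTp.to_le hAT) inf_le_left hxc h1 h2
  have hφ : MulAut.conjNormal (H := pCore p G) x = 1 := by
    refine hA5 _ (Nat.Coprime.coprime_dvd_left (orderOf_map_dvd _ x) hxc) fun a ha => Subtype.ext ?_
    rw [MulAut.conjNormal_apply, ← Subgroup.mem_centralizer_iff.1 hxA a ha, mul_inv_cancel_right]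
  have hxT : x ∈ Subgroup.centralizer ((pCore p G : Subgroup G) : Set G) := by
    refine Subgroup.mem_centralizer_iff.2 fun t ht => ?_
    have h := congrArg Subtype.val (DFunLike.congr_fun hφ ⟨t, ht⟩)
    rw [MulAut.conjNormal_apply, MulAut.one_apply] at h
    calc t * x = x * t * x⁻¹ * x := by rw [h]
      _ = x * t := by group
  exact Subtype.ext (PBasic.eq_one_of_isPGroup_of_coprime hTp (hC hxT) hxc)

/-- With no good element, a suitable element of `S` lies in `O_p(G)`. -/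
theorem mem_pCore_of_noGood {S : Subgroup G} (hno : ∀ g, ¬ Good p S A g) (hAT : A ≤ pCore p G)
    (hA2 : ⁅A, A⁆ ≤ Subgroup.centralizer (A : Set G))
    (hA5 : ∀ φ : MulAut ↥(pCore p G), (orderOf φ).Coprime p →
      (∀ a : ↥(pCore p G), (a : G) ∈ A → φ a = a) → φ = 1)
    {a : G} (haS : a ∈ S) (h3 : ∀ u ∈ A, ⁅⁅⁅u, a⁆, a⁆, a⁆ ∈ zc A)
    (h2 : ∀ x ∈ zc A, ⁅⁅x, a⁆, a⁆ = 1)
    (hq : Subgroup.centralizer ((pCore p G : Subgroup G) : Set G) ≤ pCore p G → a ∈ facKer ⊥ (zc A) →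
      ∀ U V : Subgroup G, IsChiefFactor U V → zc A ≤ V → U ≤ A → ∀ u ∈ U, ⁅⁅u, a⁆, a⁆ ∈ V) :
    a ∈ pCore p G := by
  by_contra haT
  refine hno a ⟨haS, haT, (iterCommutator_le_iff inf_le_left (ab_zc hA2) le_rfl a 3).2 h3,
    (quad_zc_iff a).2 h2, fun hC => ?_⟩
  have mk : ∀ U V : Subgroup G, IsChiefFactor U V → U ≤ A → ⁅U, U⁆ ≤ V →
      (∀ u ∈ U, ⁅⁅u, a⁆, a⁆ ∈ V) → ∀ u ∈ U, ⁅u, a⁆ ∉ V →
      ∃ U V : Subgroup G, IsChiefFactor U V ∧ U ≤ A ∧
        ⁅⁅U, Subgroup.zpowers a⁆, Subgroup.zpowers a⁆ ≤ V ∧ ¬ ⁅U, Subgroup.zpowers a⁆ ≤ V := by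
    intro U V h hUA hab hquad u hu hne
    haveI := h.2.1
    haveI := h.2.2.1
    exact ⟨U, V, h, hUA, (quadratic_le_iff h.1.le hab le_rfl a).2 hquad,
      fun hle => hne (commutator_zpowers_le_iff.1 hle u hu)⟩
  by_cases h0 : a ∈ facKer ⊥ (zc A)
  · by_cases h1 : a ∈ facKer (zc A) A
    · exact absurd (facKer_inf_le_pCore hAT hA5 hC ⟨h1, h0⟩) haT
    · rw [mem_facKer] at h1
      push Not at h1
      obtain ⟨U, V, h, hZV, hUA, u, hu, hne⟩ := h1
      exact mk U V h hUA ((Subgroup.commutator_mono hUA hUA).trans ((ab_zc hA2).trans hZV))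
        (hq hC h0 U V h hZV hUA) u hu hne
  · rw [mem_facKer] at h0
    push Not at h0
    obtain ⟨U, V, h, -, hUZ, u, hu, hne⟩ := h0
    exact mk U V h (hUZ.trans inf_le_left)
      ((Subgroup.commutator_mono hUZ hUZ).trans ((zc_abelian A).trans bot_le))
      (fun v hv => by rw [h2 v (hUZ hv)]; exact one_mem _) u hu hne

/-- Inside `facKer ⊥ Z`, chief factors are generated by atoms for every subgroup above `C(Z)`. -/
theorem genByAtoms_facKer (S : Sylow p G) {Z : Subgroup G} [hZn : Z.Normal] (hZ : IsPGroup p ↥Z)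
    {X Y : Subgroup G} (hXY : IsChiefFactor X Y) (H : Subgroup G)
    (hCH : Subgroup.centralizer (Z : Set G) ≤ H) (hHK : H ≤ facKer ⊥ Z) : GenByAtoms H X Y := by
  haveI := hXY.2.2.1
  set C := Subgroup.centralizer (Z : Set G) with hC
  set K := facKer ⊥ Z with hK
  have hcop : ∀ x ∈ K, (orderOf x).Coprime p → x ∈ C := fun x hx hxc => by
    have e : ⁅Subgroup.zpowers x, Z⁆ = ⊥ := by
      rw [Subgroup.commutator_comm, eq_bot_iff]
      exact commutator_le_of_facKer hZ bot_le hxc hx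
    exact Subgroup.commutator_eq_bot_iff_le_centralizer.1 e (Subgroup.mem_zpowers x)
  set P := (S : Subgroup G) ⊓ K with hP
  have hKP : ∀ x ∈ K, x ∈ C ⊔ P := by
    obtain ⟨Q, hQ⟩ := PBasic.exists_sylow_subgroupOf S K
    have hq : IsPGroup p (↥K ⧸ C.subgroupOf K) := fun q => by
      induction q using QuotientGroup.induction_on with
      | _ x =>
        obtain ⟨k, hk⟩ := exists_pow_mem_of_coprime_mem hcop x.2
        refine ⟨k, ?_⟩
        rw [← QuotientGroup.mk_pow, QuotientGroup.eq_one_iff, Subgroup.mem_subgroupOf]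
        simpa using hk
    have h := PBasic.sylow_sup_eq_top Q hq
    intro x hx
    obtain ⟨q, hq', c, hc, hqc⟩ :=
      Subgroup.mem_sup_of_normal_right.1 (h.ge (Subgroup.mem_top (⟨x, hx⟩ : ↥K)))
    rw [hQ, Subgroup.mem_subgroupOf] at hq'
    have e : (q : G) * c = x := congrArg Subtype.val hqc
    rw [← e]
    exact mul_mem (Subgroup.mem_sup_right (Subgroup.mem_inf.2 ⟨hq', q.2⟩))
      (Subgroup.mem_sup_left (Subgroup.mem_subgroupOf.1 hc))
  induction H using (wellFounded_gt (α := Subgroup G)).induction with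
  | _ H ih =>
    rcases eq_or_lt_of_le hHK with h | h
    · subst h
      exact (genByAtoms_top hXY).of_normalized le_top (by rw [Subgroup.normalizer_eq_top])
    · have hPH : H ⊓ P < P := lt_of_le_of_ne inf_le_right fun e => h.not_ge fun x hx =>
        sup_le hCH (inf_eq_right.1 e) (hKP x hx)
      have hlt := Functors.lt_inf_normalizer_of_lt (S.isPGroup'.to_le inf_le_left) hPH
      obtain ⟨n, hn, hnH⟩ := SetLike.exists_of_lt hlt
      obtain ⟨hnP, hnN⟩ := Subgroup.mem_inf.1 hn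
      have hH : H = C ⊔ (H ⊓ P) := by
        refine le_antisymm (fun x hx => ?_) (sup_le hCH inf_le_left)
        obtain ⟨c, hc, q, hq, rfl⟩ := Subgroup.mem_sup_of_normal_left.1 (hKP x (hHK hx))
        have : q ∈ H := by simpa using mul_mem (inv_mem (hCH hc)) hx
        exact mul_mem (Subgroup.mem_sup_left hc) (Subgroup.mem_sup_right (Subgroup.mem_inf.2 ⟨this, hq⟩))
      have hle : Subgroup.normalizer ((H ⊓ P : Subgroup G) : Set G) ≤ Subgroup.normalizer (H : Set G) := by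
        conv_rhs => rw [hH]
        exact sup_le_normalizer (A := C) (le_top.trans_eq (Subgroup.normalizer_eq_top (H := C)).symm) le_rfl
      have hlt' : H < K ⊓ Subgroup.normalizer (H : Set G) :=
        lt_of_le_of_ne (le_inf hHK Subgroup.le_normalizer) fun e => hnH (Subgroup.mem_inf.2
          ⟨e.ge (Subgroup.mem_inf.2 ⟨(Subgroup.mem_inf.1 hnP).2, hle hnN⟩), hnP⟩)
      exact (ih _ hlt' (hCH.trans hlt'.le) inf_le_left).of_normalized hlt'.le inf_le_right

/-- A member `B` of a lower family with `A` in its range of test groups is quadratic on the factors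
of `A` above `Z(A)` once it is trivial on those below. -/
theorem quadratic_above (S : Sylow p G) (hAT : A ≤ pCore p G)
    (hA2 : ⁅A, A⁆ ≤ Subgroup.centralizer (A : Set G)) (hA3 : ⁅pCore p G, A⁆ ≤ zc A)
    {R B : Subgroup G} (hB : B ∈ kLowerStarFamily R) (hAR : A ≤ R) (hZB : zc B ≤ pCore p G)
    {b : G} (hb : b ∈ B) (hbK : b ∈ facKer ⊥ (zc A)) {U V : Subgroup G} (h : IsChiefFactor U V)
    (hZV : zc A ≤ V) (hUA : U ≤ A) {u : G} (hu : u ∈ U) : ⁅⁅u, b⁆, b⁆ ∈ V := by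
  obtain ⟨hB2, hRN, htest⟩ := hB
  haveI := h.2.1
  haveI := h.2.2.1
  have hAB : A ≤ Subgroup.normalizer (B : Set G) := hAR.trans hRN
  have hcent : ∀ c ∈ zc A, ∀ a ∈ A, a * c = c * a := fun c hc a ha =>
    Subgroup.mem_centralizer_iff.1 (Subgroup.mem_inf.1 hc).2 a ha
  have hcm : ∀ a ∈ A, ∀ a' ∈ A, ⁅a, a'⁆ ∈ zc A := fun a ha a' ha' =>
    ab_zc hA2 (Subgroup.commutator_mem_commutator ha ha')
  let As : Subgroup G :=
    { carrier := {a | a ∈ A ∧ ∀ a' ∈ A, ⁅a, a'⁆ ∈ Subgroup.centralizer (B : Set G)}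
      one_mem' := ⟨one_mem _, fun a' _ => by simp⟩
      mul_mem' := fun {x y} hx hy => ⟨mul_mem hx.1 hy.1, fun a' ha' => by
        rw [show ⁅x * y, a'⁆ = x * ⁅y, a'⁆ * x⁻¹ * ⁅x, a'⁆ by
            simp only [commutatorElement_def]; group, hcent _ (hcm y hy.1 a' ha') x hx.1,
          mul_inv_cancel_right]
        exact mul_mem (hy.2 a' ha') (hx.2 a' ha')⟩
      inv_mem' := fun {x} hx => ⟨inv_mem hx.1, fun a' ha' => by
        rw [show ⁅x⁻¹, a'⁆ = x⁻¹ * ⁅x, a'⁆⁻¹ * x by simp only [commutatorElement_def]; group,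
          hcent _ (inv_mem (hcm x hx.1 a' ha')) x⁻¹ (inv_mem hx.1), inv_mul_cancel_right]
        exact inv_mem (hx.2 a' ha')⟩ }
  have hAsA : As ≤ A := fun a ha => ha.1
  set C0 := Subgroup.centralizer (zc A : Set G) with hC0
  set H := C0 ⊔ (B ⊓ Subgroup.zpowers b) with hHdef
  have hbH : b ∈ H := Subgroup.mem_sup_right (Subgroup.mem_inf.2 ⟨hb, Subgroup.mem_zpowers b⟩)
  have hconj : ∀ x, (x ∈ B ∨ x ∈ C0) → ∀ a ∈ As, x * a * x⁻¹ ∈ As := by
    rintro x hx a ⟨haA, haC⟩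
    refine ⟨hAn.conj_mem a haA x, fun a' ha' => ?_⟩
    have ha'' : x⁻¹ * a' * x ∈ A := by simpa using hAn.conj_mem a' ha' x⁻¹
    rw [show ⁅x * a * x⁻¹, a'⁆ = x * ⁅a, x⁻¹ * a' * x⁆ * x⁻¹ by
      simp only [commutatorElement_def]; group]
    rcases hx with hx | hx
    · have hcB := haC _ ha''
      rwa [Subgroup.mem_centralizer_iff.1 hcB x hx, mul_inv_cancel_right]
    · rw [← Subgroup.mem_centralizer_iff.1 hx _ (hcm a haA _ ha''), mul_inv_cancel_right]
      exact haC _ ha''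
  have hBAs : B ≤ Subgroup.normalizer (As : Set G) := fun x hx =>
    Subgroup.mem_normalizer_iff.2 fun a => ⟨fun ha => hconj x (Or.inl hx) a ha, fun ha => by
      simpa [mul_assoc] using hconj x⁻¹ (Or.inl (inv_mem hx)) _ ha⟩
  have hCAs : C0 ≤ Subgroup.normalizer (As : Set G) := fun x hx =>
    Subgroup.mem_normalizer_iff.2 fun a => ⟨fun ha => hconj x (Or.inr hx) a ha, fun ha => by
      simpa [mul_assoc] using hconj x⁻¹ (Or.inr (inv_mem hx)) _ ha⟩
  -- the test group `As`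
  have hcl : As ∈ classTwoSubgroups G :=
    ((Subgroup.commutator_mono hAsA hAsA).trans hA2).trans (Subgroup.centralizer_le hAsA)
  have h1 : ⁅B, ⁅As, As⁆⁆ = ⊥ := by
    rw [Subgroup.commutator_comm, Subgroup.commutator_eq_bot_iff_le_centralizer, Subgroup.commutator_le]
    exact fun x hx y hy => hx.2 y hy.1
  have h2 : ⁅⁅zc B, As⁆, As⁆ = ⊥ := by
    rw [Subgroup.commutator_eq_bot_iff_le_centralizer]
    exact ((Subgroup.commutator_mono hZB hAsA).trans hA3).trans
      (inf_le_right.trans (Subgroup.centralizer_le hAsA))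
  have hquad : ∀ a ∈ As, ⁅⁅a, b⁆, b⁆ = 1 := by
    intro a ha
    have h3 := htest As hcl (hAsA.trans hAR) hBAs h1 h2 (Subgroup.commutator_mem_commutator hb ha)
    rw [commutatorElement_eq_one_iff_mul_comm, ← commutatorElement_inv b a]
    exact (Subgroup.mem_centralizer_iff.1 (Subgroup.mem_inf.1 (inv_mem h3)).2 b hb).symm
  have hin : ∀ a ∈ A, ⁅⁅a, b⁆, b⁆ ∈ As := by
    intro a ha
    have hcA : ⁅⁅a, b⁆, b⁆ ∈ A := dg_iterate_mem (g := b) ha 2
    have hab : ⁅a, b⁆ ∈ B := by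
      rw [commutatorElement_def]
      exact mul_mem ((Subgroup.mem_normalizer_iff.1 (hAB ha) b).1 hb) (inv_mem hb)
    have hcB : ⁅⁅a, b⁆, b⁆ ∈ zc B := Subgroup.mem_inf.2
      ⟨Subgroup.commutator_le_self B (Subgroup.commutator_mem_commutator hab hb),
        hB2 (Subgroup.commutator_mem_commutator hab hb)⟩
    refine ⟨hcA, fun a' ha' => ?_⟩
    rw [show ⁅⁅⁅a, b⁆, b⁆, a'⁆ = ⁅⁅a, b⁆, b⁆ * (a' * ⁅⁅a, b⁆, b⁆⁻¹ * a'⁻¹) by
      rw [commutatorElement_def ⁅⁅a, b⁆, b⁆]; group]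
    exact (mul_mem hcB (zc_conj_mem (hAB ha') (inv_mem hcB)) : _ ∈ zc B).2
  -- semisimplicity
  have hss : GenByAtoms H U V := by
    refine genByAtoms_facKer S ((PBasic.pCore_isPGroup p G).to_le (inf_le_left.trans hAT)) h H
      le_sup_left (sup_le (fun x hx => mem_facKer.2 fun U' V' h' _ hU' v hv => ?_)
        (inf_le_right.trans ((Subgroup.zpowers_le (H := facKer ⊥ (zc A))).2 hbK)))
    rw [commutatorElement_eq_one_iff_mul_comm.2 (Subgroup.mem_centralizer_iff.1 hx v (hU' hv))]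
    exact one_mem _
  have hab' : ⁅U, U⁆ ≤ V := (Subgroup.commutator_mono hUA hUA).trans ((ab_zc hA2).trans hZV)
  set U0 := (As ⊓ U) ⊔ V with hU0
  have hHU0 : H ≤ Subgroup.normalizer (U0 : Set G) :=
    sup_le_normalizer (inf_le_normalizer (sup_le hCAs (inf_le_left.trans hBAs))
      (by rw [Subgroup.normalizer_eq_top]; exact le_top)) (by rw [Subgroup.normalizer_eq_top]; exact le_top)
  obtain ⟨U1, hVU1, hU1U, hHU1, hinf, hcover⟩ :=
    hss.exists_complement hab' le_sup_right (sup_le inf_le_right h.1.le) hHU0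
  obtain ⟨D, hVD, -, hD⟩ := exists_dker U V h.1.le hab' b 2
  have hU0D : U0 ≤ D := sup_le (fun x hx => (hD x (Subgroup.mem_inf.1 hx).2).2
    (by rw [show (dg b)^[2] x = ⁅⁅x, b⁆, b⁆ from rfl, hquad x (Subgroup.mem_inf.1 hx).1]; exact one_mem _)) hVD
  have hU1D : U1 ≤ D := fun x hx => by
    refine (hD x (hU1U hx)).2 ?_
    change ⁅⁅x, b⁆, b⁆ ∈ V
    have hbn := hHU1 hbH
    have hstep : ∀ y ∈ U1, ⁅y, b⁆ ∈ U1 := fun y hy => by
      rw [commutatorElement_def, mul_assoc, mul_assoc, ← mul_assoc b]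
      exact mul_mem hy ((Subgroup.mem_normalizer_iff.1 hbn _).1 (inv_mem hy))
    rw [← hinf]
    exact Subgroup.mem_inf.2 ⟨Subgroup.mem_sup_left (Subgroup.mem_inf.2
      ⟨hin x (hUA (hU1U hx)), dg_iterate_mem (g := b) (hU1U hx) 2⟩), hstep _ (hstep x hx)⟩
  exact (hD u hu).1 (sup_le hU0D hU1D (hcover hu))

theorem kEven_le (S : Sylow p G) (hno : ∀ g, ¬ Good p (S : Subgroup G) A g)
    (hAT : A ≤ pCore p G)
    (hA2 : ⁅A, A⁆ ≤ Subgroup.centralizer (A : Set G)) (hA3 : ⁅pCore p G, A⁆ ≤ zc A)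
    (hA5 : ∀ φ : MulAut ↥(pCore p G), (orderOf φ).Coprime p →
      (∀ a : ↥(pCore p G), (a : G) ∈ A → φ a = a) → φ = 1) (m : ℕ)
    (hA : A ≤ (kSeqOdd ↥(S : Subgroup G) m).map (S : Subgroup G).subtype) :
    (kSeqEven ↥(S : Subgroup G) m).map (S : Subgroup G).subtype ≤ pCore p G := by
  set f := (S : Subgroup G).subtype with hf
  have hfi : Function.Injective f := (S : Subgroup G).subtype_injective
  rw [kSeqEven_eq, map_sSup_family hfi _ _ (fun B R => map_mem_lower_iff hfi)]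
  refine sSup_le fun B ⟨hB, hBS⟩ => ?_
  rw [hf, Subgroup.range_subtype] at hBS
  have hAB : A ≤ Subgroup.normalizer (B : Set G) := hA.trans hB.2.1
  have hab : ∀ a ∈ A, ∀ b ∈ B, ⁅a, b⁆ ∈ B := fun a ha b hb => by
    rw [commutatorElement_def]
    exact mul_mem ((Subgroup.mem_normalizer_iff.1 (hAB ha) b).1 hb) (inv_mem hb)
  have hone : ∀ z ∈ zc B, ∀ y ∈ B, ⁅y, z⁆ = 1 ∧ ⁅z, y⁆ = 1 := fun z hz y hy =>
    ⟨commutatorElement_eq_one_iff_mul_comm.2 (Subgroup.mem_centralizer_iff.1 hz.2 y hy),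
      commutatorElement_eq_one_iff_mul_comm.2 (Subgroup.mem_centralizer_iff.1 hz.2 y hy).symm⟩
  have hZB : zc B ≤ pCore p G := fun z hz =>
    mem_pCore_of_noGood hno hAT hA2 hA5 (hBS hz.1)
      (fun u hu => by rw [(hone z hz _ (hab u hu z hz.1)).1]; simp)
      (fun x hx => (hone z hz _ (hab x hx.1 z hz.1)).1)
      (fun _ _ U V _ _ hUA u hu => by
        rw [(hone z hz _ (hab u (hUA hu) z hz.1)).1]; exact one_mem _)
  intro b hb
  have hcz : ∀ a ∈ A, ⁅⁅a, b⁆, b⁆ ∈ zc B := fun a ha =>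
    Subgroup.mem_inf.2 ⟨Subgroup.commutator_le_self B (Subgroup.commutator_mem_commutator (hab a ha b hb) hb),
      hB.1 (Subgroup.commutator_mem_commutator (hab a ha b hb) hb)⟩
  have hquadZ : ∀ x ∈ zc A, ⁅⁅x, b⁆, b⁆ = 1 := by
    intro x hx
    have hB' : B ≤ Subgroup.normalizer (zc A : Set G) := by
      rw [Subgroup.normalizer_eq_top]; exact le_top
    have hz0 : ⁅zc A, zc A⁆ = ⊥ := le_bot_iff.1 (zc_abelian A)
    have h1 : ⁅B, ⁅zc A, zc A⁆⁆ = ⊥ := by rw [hz0, Subgroup.commutator_bot_right]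
    have h2 : ⁅⁅zc B, zc A⁆, zc A⁆ = ⊥ := by
      rw [eq_bot_iff]
      exact (Subgroup.commutator_mono (Subgroup.commutator_le_right _ _) le_rfl).trans (zc_abelian A)
    have hcl : zc A ∈ classTwoSubgroups G := by
      rw [mem_classTwo, hz0, Subgroup.commutator_bot_left]
    have h := hB.2.2 _ hcl (inf_le_left.trans hA) hB' h1 h2 (Subgroup.commutator_mem_commutator hb hx)
    have h' : ⁅x, b⁆ ∈ zc B := by rw [← commutatorElement_inv b x]; exact inv_mem h
    exact (hone _ h' b hb).2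
  exact mem_pCore_of_noGood hno hAT hA2 hA5 (hBS hb)
    (fun u hu => by rw [(hone _ (hcz u hu) b hb).2]; exact one_mem _) hquadZ
    (fun _ hbK U V h hZV hUA u hu => quadratic_above S hAT hA2 hA3 hB hA hZB hb hbK h hZV hUA hu)

/-- With no good element the K-sequence of `S` lies inside `O_p(G)`. -/
theorem kSeq_le_pCore (S : Sylow p G) (hno : ∀ g, ¬ Good p (S : Subgroup G) A g)
    (hAT : A ≤ pCore p G)
    (hA2 : ⁅A, A⁆ ≤ Subgroup.centralizer (A : Set G)) (hA3 : ⁅pCore p G, A⁆ ≤ zc A)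
    (hA5 : ∀ φ : MulAut ↥(pCore p G), (orderOf φ).Coprime p →
      (∀ a : ↥(pCore p G), (a : G) ∈ A → φ a = a) → φ = 1) (n : ℕ) :
    (kSeqEven ↥(S : Subgroup G) n).map (S : Subgroup G).subtype ≤ pCore p G ∧
      (kSeqOdd ↥(S : Subgroup G) (n + 1)).map (S : Subgroup G).subtype ≤ pCore p G := by
  set f := (S : Subgroup G).subtype with hf
  have hfi : Function.Injective f := (S : Subgroup G).subtype_injective
  have hAS : A ≤ (S : Subgroup G) := hAT.trans (PBasic.pCore_le_sylow S)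
  have hAf : A ≤ f.range := by rwa [hf, Subgroup.range_subtype]
  have hSf : ∀ {B : Subgroup G}, B ≤ f.range → B ≤ (S : Subgroup G) := fun {B} h => by
    rwa [hf, Subgroup.range_subtype] at h
  have hAA : ∀ a ∈ A, ∀ x : G, x ∈ Subgroup.centralizer (A : Set G) → ⁅a, x⁆ = 1 := fun a ha x hx =>
    commutatorElement_eq_one_iff_mul_comm.2 (Subgroup.mem_centralizer_iff.1 hx a ha)
  -- `A` is in every lower family
  have hlow : ∀ R : Subgroup G, R ≤ (S : Subgroup G) → A ∈ kLowerStarFamily R := by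
    intro R hR
    refine ⟨hA2, by rw [Subgroup.normalizer_eq_top]; exact le_top, fun A1 hA1 hA1R hN h1 h2 => ?_⟩
    refine le_trans ?_ hA3
    rw [Subgroup.commutator_comm]
    refine Subgroup.commutator_mono (fun a ha => ?_) le_rfl
    have hc2 : ∀ u ∈ A, ⁅⁅u, a⁆, a⁆ ∈ zc A := by
      intro u hu
      have hua : ⁅u, a⁆ ∈ A1 := by
        rw [commutatorElement_def]
        exact mul_mem ((Subgroup.mem_normalizer_iff.1 (hN hu) a).1 ha) (inv_mem ha)
      refine Subgroup.mem_inf.2 ⟨dg_iterate_mem (g := a) hu 2, ?_⟩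
      rw [Subgroup.commutator_comm, Subgroup.commutator_eq_bot_iff_le_centralizer] at h1
      exact h1 (Subgroup.commutator_mem_commutator hua ha)
    refine mem_pCore_of_noGood hno hAT hA2 hA5 (hR (hA1R ha))
      (fun u hu => dg_mem (g := a) (hc2 u hu)) (fun x hx => ?_)
      (fun _ _ U V _ hZV hUA u hu => hZV (hc2 u (hUA hu)))
    rw [← Subgroup.mem_bot, ← h2]
    exact Subgroup.commutator_mem_commutator (Subgroup.commutator_mem_commutator hx ha) ha
  have hev : ∀ m, A ≤ (kSeqEven ↥(S : Subgroup G) m).map f := fun m => by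
    rw [kSeqEven_eq, map_sSup_family hfi _ _ (fun B R => map_mem_lower_iff hfi)]
    exact le_sSup ⟨hlow _ (hSf (Subgroup.map_le_range _ _)), hAf⟩
  -- the upper members
  have hodd : ∀ m, (kSeqOdd ↥(S : Subgroup G) (m + 1)).map f ≤ pCore p G := by
    intro m
    rw [kSeqOdd_succ, map_sSup_family hfi _ _ (fun B R => map_mem_upper_iff hfi)]
    refine sSup_le fun B ⟨⟨hB2, hBE⟩, hBS⟩ b hb => ?_
    have hq : ∀ u ∈ A, ⁅⁅u, b⁆, b⁆ = 1 := fun u hu => by
      have h := hBE (Subgroup.commutator_mem_commutator hb (hev m hu))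
      rw [commutatorElement_eq_one_iff_mul_comm, ← commutatorElement_inv b u]
      exact (Subgroup.mem_centralizer_iff.1 (Subgroup.mem_inf.1 (inv_mem h)).2 b hb).symm
    exact mem_pCore_of_noGood hno hAT hA2 hA5 (hSf hBS hb)
      (fun u hu => by rw [hq u hu]; simp) (fun x hx => hq x hx.1)
      (fun _ _ U V _ _ hUA u hu => by rw [hq u (hUA hu)]; exact one_mem _)
  suffices heven : ∀ m, (kSeqEven ↥(S : Subgroup G) m).map f ≤ pCore p G from ⟨heven n, hodd n⟩
  intro m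
  induction m with
  | zero =>
    refine kEven_le S hno hAT hA2 hA3 hA5 0 ?_
    change A ≤ (⊤ : Subgroup ↥(S : Subgroup G)).map f
    rwa [← MonoidHom.range_eq_map]
  | succ m ih =>
    refine kEven_le S hno hAT hA2 hA3 hA5 (m + 1) ?_
    rw [kSeqOdd_succ, map_sSup_family hfi _ _ (fun B R => map_mem_upper_iff hfi)]
    refine le_sSup ⟨⟨hA2, ?_⟩, hAf⟩
    rw [Subgroup.commutator_comm]
    exact (Subgroup.commutator_mono ih le_rfl).trans hA3

/-- A non-normal K-infinity subgroup produces a good element. -/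
theorem exists_good (S : Sylow p G) (hAT : A ≤ pCore p G)
    (hA2 : ⁅A, A⁆ ≤ Subgroup.centralizer (A : Set G)) (hA3 : ⁅pCore p G, A⁆ ≤ zc A)
    (hA5 : ∀ φ : MulAut ↥(pCore p G), (orderOf φ).Coprime p →
      (∀ a : ↥(pCore p G), (a : G) ∈ A → φ a = a) → φ = 1)
    (hK : ¬ (inducedFunctor kInfLower (S : Subgroup G)).Normal ∨
      ¬ (inducedFunctor kInfUpper (S : Subgroup G)).Normal) :
    ∃ g, Good p (S : Subgroup G) A g := by
  by_contra hno
  have hall := kSeq_le_pCore S (fun g hg => hno ⟨g, hg⟩) hAT hA2 hA3 hA5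
  have hTS : pCore p G ≤ (S : Subgroup G) := PBasic.pCore_le_sylow S
  have hcomp : ((S : Subgroup G).subtype).comp (Subgroup.inclusion hTS) = (pCore p G).subtype := rfl
  have hran : ∀ X : Subgroup ↥(S : Subgroup G), X.map (S : Subgroup G).subtype ≤ pCore p G →
      X ≤ (Subgroup.inclusion hTS).range := fun X hX x hx =>
    ⟨⟨x, hX (Subgroup.mem_map_of_mem _ hx)⟩, rfl⟩
  obtain ⟨e1, e2⟩ := map_kInf (Subgroup.inclusion_injective hTS) fun n =>
    ⟨hran _ (hall n).1, hran _ (hall n).2⟩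
  have hnormal : ∀ W : ∀ (Q : Type u) [Group Q], Subgroup Q, IsCharPFunctor.{u} p W →
      (W ↥(pCore p G)).map (Subgroup.inclusion hTS) = W ↥(S : Subgroup G) →
      (inducedFunctor W (S : Subgroup G)).Normal := by
    intro W hW e
    have : inducedFunctor W (S : Subgroup G) = inducedFunctor W (pCore p G) := by
      rw [inducedFunctor, ← e, Subgroup.map_map, hcomp]; rfl
    rw [this, ← Subgroup.normalizer_eq_top_iff, eq_top_iff, ← Subgroup.normalizer_eq_top (H := pCore p G)]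
    exact Functors.normalizer_le_normalizer_conjFunctor (Functors.inducedFunctor_isConjugacyFunctor hW)
      (PBasic.pCore_isPGroup p G)
  rcases hK with h | h
  · exact h (hnormal _ Functors.isCharPFunctor_kInfLower e1)
  · exact h (hnormal _ Functors.isCharPFunctor_kInfUpper e2)

end Cfsg.Agent.Cubic
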