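import Cfsg.Agent.Lib.Functors.WeakClosureElem
import Cfsg.Agent.Lib.Functors.KInfCubic
import Cfsg.Agent.Lib.Functors.TransferApps

/-!
K-infinity and weak closure: the local hypotheses.
-/

set_option autoImplicit false
set_option linter.style.haveILetI false
set_option linter.unusedSectionVars false

namespace Cfsg.Agent.Functors

open Cfsg
open scoped commutatorElement

universe u

variable {G : Type u} [Group G] [Finite G] {p : ℕ} [Fact p.Prime]

/-- The local quadratic element for `K_∞`. -/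
theorem exists_quadratic_kInfLower {H T : Subgroup G} (hT : IsSylowIn p T H)
    (hns : ¬ H ≤ Subgroup.normalizer ((inducedFunctor kInfLower T : Subgroup G) : Set G)) :
    ∃ g : ↥H, (g : G) ∈ T ∧ g ∉ pCore p ↥H ∧
      ⁅⁅pCore p ↥H ⊓ Subgroup.centralizer ((pCore p ↥H : Subgroup ↥H) : Set ↥H), Subgroup.zpowers g⁆,
        Subgroup.zpowers g⁆ = ⊥ := by
  obtain ⟨S, hS⟩ := hT.exists_sylow
  have hmap : (S : Subgroup ↥H).map H.subtype = T := by
    rw [hS, Subgroup.map_subgroupOf_eq_of_le hT.le]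
  have hW := inducedFunctor_map_of_injective (isCharPFunctor_kInfLower (p := p)) S.isPGroup'
    H.subtype_injective
  rw [hmap] at hW
  obtain ⟨g, hgS, hgO, -, hq, -⟩ := Cubic.kInf_consequences S
    (Or.inl fun hn => hns (hW ▸ AxB.le_normalizer_map_subtype hn))
  exact ⟨g, by rw [hS] at hgS; exact hgS, hgO, hq⟩

theorem locKill_kInfLower (hp : p ≠ 2) :
    LocKill p (inducedFunctor (G := G) kInfLower) := by
  intro H T h1 h2 h3 hns
  obtain ⟨g, hgT, hgO, hq⟩ := exists_quadratic_kInfLower ⟨h1, h2, h3⟩ hns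
  refine ⟨g, hgT, ?_, fun U V hUV hUle => ?_⟩
  · rintro ⟨g', hg', he⟩
    exact hgO (Subtype.ext he ▸ hg')
  haveI := hUV.2.2.1
  have hU : U ≤ pCore p ↥H ⊓ Subgroup.centralizer ((pCore p ↥H : Subgroup ↥H) : Set ↥H) := by
    intro u hu
    obtain ⟨hu1, hu2⟩ := Subgroup.mem_inf.1 (hUle ⟨u, hu, rfl⟩)
    obtain ⟨u', hu', he⟩ := hu1
    refine Subgroup.mem_inf.2 ⟨Subtype.ext he ▸ hu', Subgroup.mem_centralizer_iff.2 fun o ho => ?_⟩
    exact Subtype.ext (Subgroup.mem_centralizer_iff.1 hu2 o ⟨o, ho, rfl⟩)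
  have h2' : iterCommutator U (Subgroup.zpowers g) 2 ≤ V :=
    le_trans ((Subgroup.commutator_mono (Subgroup.commutator_mono hU le_rfl) le_rfl).trans hq.le) bot_le
  have hp2 : 2 ≤ p - 1 := by
    have := (Fact.out : p.Prime).two_le
    omega
  obtain ⟨k, hk⟩ := Nat.exists_eq_add_of_le hp2
  have h := Subgroup.map_mono (f := H.subtype) (iterCommutator_le_of_le (Subgroup.zpowers g) h2' k)
  rw [iterCommutator_map, MonoidHom.map_zpowers, ← hk] at h
  exact h

end Cfsg.Agent.Functors
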