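import Cfsg.Agent.Lib.Functors.Reach
import Mathlib.GroupTheory.Focal

/-!
From local to global: a property of the conjugation maps inside a Sylow subgroup `S` that holds in
suitable normalizers holds everywhere.
-/

set_option autoImplicit false
set_option linter.style.haveILetI false

namespace Cfsg.Agent.Functors

open Cfsg

variable {G : Type*} [Group G] [Finite G] {p : ℕ} [hp : Fact p.Prime]

omit [Finite G] hp in
theorem cj_subset_of_map_le {S X : Subgroup G} {g : G} (h : X.map (cj g) ≤ S) :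
    cj g '' (X : Set G) ⊆ S := by rw [cj_image_coe]; exact h

/-- Abstract local-to-global principle. -/
theorem local_to_global {S : Subgroup G} (hS : IsPGroup p ↥S) {R : Set G → G → Prop}
    (hR : IsMapRel S R) (𝓦 : Set (Subgroup G → Subgroup G)) (h𝓦 : ∀ W ∈ 𝓦, IsConjugacyFunctor p W)
    (Loc Φ : Subgroup G → Prop)
    (hΦ : ∀ V, Φ V → V ≤ S ∧ IsSylowIn p (S ⊓ Subgroup.normalizer (V : Set G)) (Subgroup.normalizer (V : Set G)))
    (hΦtop : ∀ V : Subgroup G, V ≤ S → S ≤ Subgroup.normalizer (V : Set G) → Φ V)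
    (hex : ∀ V : Subgroup G, V ≠ ⊥ → V ≤ S → ∃ h : G, Φ (V.map (cj h)) ∧
      (S ⊓ Subgroup.normalizer (V : Set G)).map (cj h) ≤ S)
    (hmid : ∀ X : Subgroup G, X ≠ ⊥ → X ≤ S → Loc X →
      ∀ x ∈ Subgroup.normalizer (X : Set G), R (X : Set G) x)
    (htransport : ∀ (V : Subgroup G) (h : G), V ≠ ⊥ → V ≤ S →
      R ((S ⊓ Subgroup.normalizer (V : Set G) : Subgroup G) : Set G) h → Loc (V.map (cj h)) → Loc V)
    (hstep : ∀ V : Subgroup G, V ≠ ⊥ → Φ V →
      (∀ W ∈ 𝓦, S ⊓ Subgroup.normalizer (V : Set G) = S ∨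
        Loc (W (S ⊓ Subgroup.normalizer (V : Set G)))) → Loc V) :
    (∀ (A : Set G) (g : G), A ⊆ S → cj g '' A ⊆ S → R A g) ∧
      ∀ V : Subgroup G, V ≠ ⊥ → V ≤ S → Loc V := by
  suffices key : ∀ (d m : ℕ), Nat.card ↥S ≤ d + m →
      (∀ (X : Subgroup G) (g : G), m ≤ Nat.card ↥X → X ≤ S → X.map (cj g) ≤ S → R (X : Set G) g) ∧
      ∀ V : Subgroup G, V ≠ ⊥ → V ≤ S →
        m ≤ Nat.card ↥(S ⊓ Subgroup.normalizer (V : Set G)) → Loc V by
    obtain ⟨h1, h2⟩ := key (Nat.card ↥S) 0 le_rfl
    refine ⟨fun A g hA hgA => ?_, fun V hV hVS => h2 V hV hVS (Nat.zero_le _)⟩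
    refine hR.mono Subgroup.subset_closure (h1 (Subgroup.closure A) g (Nat.zero_le _)
      ((Subgroup.closure_le _).2 hA) ?_)
    rw [MonoidHom.map_closure, Subgroup.closure_le]
    exact hgA
  intro d
  induction d with
  | zero =>
    intro m hm
    rw [Nat.zero_add] at hm
    have hloc : ∀ V : Subgroup G, V ≠ ⊥ → V ≤ S →
        m ≤ Nat.card ↥(S ⊓ Subgroup.normalizer (V : Set G)) → Loc V := by
      intro V hV hVS hVm
      have hN : S ⊓ Subgroup.normalizer (V : Set G) = S :=
        Subgroup.eq_of_le_of_card_ge inf_le_left (hm.trans hVm)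
      exact hstep V hV (hΦtop V hVS (inf_eq_left.1 hN)) fun W _ => Or.inl hN
    refine ⟨fun X g hXm hX hXg => ?_, hloc⟩
    have hXS : X = S := Subgroup.eq_of_le_of_card_ge hX (hm.trans hXm)
    subst hXS
    by_cases hbot : X = ⊥
    · subst hbot
      exact hR.triv (by simp) fun a ha => by
        rw [SetLike.mem_coe, Subgroup.mem_bot] at ha
        simp [ha]
    refine hmid X hbot le_rfl (hloc X hbot le_rfl ?_) g ?_
    · rw [inf_eq_left.2 Subgroup.le_normalizer]
      exact hXm
    · exact map_cj_eq_iff.1 (Subgroup.eq_of_le_of_card_ge hXg (card_map_cj _ _).ge)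
  | succ d ih =>
    intro m hm
    obtain ⟨ihR, ihL⟩ := ih (m + 1) (by omega)
    have grow : ∀ X : Subgroup G, X ≤ S → X ≠ S →
        Nat.card ↥X < Nat.card ↥(S ⊓ Subgroup.normalizer (X : Set G)) := fun X hX hne =>
      Nat.lt_of_not_ge fun hle => (lt_inf_normalizer_of_lt hS (lt_of_le_of_ne hX hne)).ne
        (Subgroup.eq_of_le_of_card_ge (le_inf hX Subgroup.le_normalizer) hle)
    have hRm : ∀ (X : Subgroup G) (g : G), m ≤ Nat.card ↥X → X ≤ S → X.map (cj g) ≤ S →
        R (X : Set G) g := by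
      intro X g hXm hX hXg
      by_cases hlt : m + 1 ≤ Nat.card ↥X
      · exact ihR X g hlt hX hXg
      by_cases hbot : X = ⊥
      · subst hbot
        exact hR.triv (by simp) fun a ha => by
          rw [SetLike.mem_coe, Subgroup.mem_bot] at ha
          simp [ha]
      by_cases hXS : X = S
      · subst hXS
        refine hmid X hbot le_rfl ?_ g
          (map_cj_eq_iff.1 (Subgroup.eq_of_le_of_card_ge hXg (card_map_cj _ _).ge))
        refine hstep X hbot (hΦtop X le_rfl Subgroup.le_normalizer) fun W _ => Or.inl ?_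
        exact inf_eq_left.2 Subgroup.le_normalizer
      set Y := X.map (cj g) with hY
      have hYbot : Y ≠ ⊥ := map_cj_ne_bot hbot g
      have hYS : Y ≠ S := fun h => hXS (Subgroup.eq_of_le_of_card_ge hX
        (by rw [← card_map_cj X g, ← hY, h]))
      obtain ⟨h, hX', hh⟩ := hex X hbot hX
      obtain ⟨k, hY', hk⟩ := hex Y hYbot hXg
      set X' := X.map (cj h) with hX'def
      set Y' := Y.map (cj k) with hY'def
      obtain ⟨hX'S, -⟩ := hΦ X' hX'
      obtain ⟨hY'S, hY'syl⟩ := hΦ Y' hY'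
      have rh : R (X : Set G) h := hR.mono (le_inf hX Subgroup.le_normalizer)
        (ihR _ h (by have := grow X hX hXS; omega) inf_le_left hh)
      have rk : R (Y : Set G) k := hR.mono (le_inf hXg Subgroup.le_normalizer)
        (ihR _ k (by have := grow Y hXg hYS; have := card_map_cj X g; rw [← hY] at this; omega)
          inf_le_left hk)
      set x := k * g * h⁻¹ with hx
      have hxX' : X'.map (cj x) = Y' := by
        rw [hX'def, hY'def, hY, map_map_cj, map_map_cj, hx, inv_mul_cancel_right]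
      have hN1 : (S ⊓ Subgroup.normalizer (X' : Set G)).map (cj x) ≤ Subgroup.normalizer (Y' : Set G) := by
        rw [← hxX', ← map_cj_normalizer X']
        exact Subgroup.map_mono (f := cj x) (inf_le_right : S ⊓ Subgroup.normalizer (X' : Set G) ≤ _)
      obtain ⟨n, hn, hnle⟩ := exists_conj_le_of_isSylowIn hY'syl
        ((hS.to_le inf_le_left).map _) hN1
      rw [map_map_cj] at hnle
      have hX'card : m = Nat.card ↥X' := by rw [hX'def, card_map_cj]; omega
      have hX'neS : X' ≠ S := fun h' => hXS (Subgroup.eq_of_le_of_card_ge hX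
        (by rw [← card_map_cj X h, ← hX'def, h']))
      have hY'neS : Y' ≠ S := fun h' => hYS (Subgroup.eq_of_le_of_card_ge hXg
        (by rw [← card_map_cj Y k, ← hY'def, h']))
      have rnx : R (X' : Set G) (n * x) := hR.mono (le_inf hX'S Subgroup.le_normalizer)
        (ihR _ (n * x) (by have := grow X' hX'S hX'neS; omega) inf_le_left (hnle.trans inf_le_left))
      have hY'card : Nat.card ↥Y' = m := by
        rw [hY'def, card_map_cj, hY, card_map_cj]; omega
      have rn : R (Y' : Set G) n⁻¹ := hmid Y' (map_cj_ne_bot hYbot k) hY'S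
        (ihL Y' (map_cj_ne_bot hYbot k) hY'S (by have := grow Y' hY'S hY'neS; omega)) n⁻¹ (inv_mem hn)
      have r1 : R (X : Set G) (n * x * h) := hR.trans rh (by rw [cj_image_coe, ← hX'def]; exact rnx)
      have e1 : X.map (cj (n * x * h)) = Y' := by
        rw [← map_map_cj X, ← hX'def, ← map_map_cj X', hxX', map_cj_eq_iff.2 hn]
      have r2 : R (X : Set G) (n⁻¹ * (n * x * h)) := hR.trans r1 (by rw [cj_image_coe, e1]; exact rn)
      have e2 : X.map (cj (n⁻¹ * (n * x * h))) = Y' := by
        rw [← map_map_cj X, e1, map_cj_eq_iff.2 (inv_mem hn)]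
      have rk' : R (Y' : Set G) k⁻¹ := by rw [hY'def, ← cj_image_coe]; exact hR.symm rk
      have r3 := hR.trans r2 (by rw [cj_image_coe, e2]; exact rk')
      exact hR.congr r3 fun a _ => by rw [hx]; group
    refine ⟨hRm, fun V hV hVS hVm => ?_⟩
    by_cases hlt : m + 1 ≤ Nat.card ↥(S ⊓ Subgroup.normalizer (V : Set G))
    · exact ihL V hV hVS hlt
    obtain ⟨h, hV', hh⟩ := hex V hV hVS
    refine htransport V h hV hVS (hRm _ h hVm inf_le_left hh) ?_
    obtain ⟨hV'S, hV'syl⟩ := hΦ _ hV'
    refine hstep _ (map_cj_ne_bot hV h) hV' fun W hW => ?_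
    by_cases hP : S ⊓ Subgroup.normalizer (V.map (cj h) : Set G) = S
    · exact Or.inl hP
    right
    set P := S ⊓ Subgroup.normalizer (V.map (cj h) : Set G) with hPdef
    have hPp : IsPGroup p ↥P := hS.to_le inf_le_left
    have hPbot : P ≠ ⊥ := fun h0 => map_cj_ne_bot hV h
      (le_bot_iff.1 (h0 ▸ le_inf hV'S Subgroup.le_normalizer))
    have hWP := conjFunctor_le (h𝓦 W hW) hPp
    refine ihL _ (conjFunctor_ne_bot (h𝓦 W hW) hPp hPbot) (hWP.trans inf_le_left) ?_
    have h1 : (S ⊓ Subgroup.normalizer (V : Set G)).map (cj h) ≤ P := by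
      refine le_inf hh ?_
      rw [← map_cj_normalizer]
      exact Subgroup.map_mono inf_le_right
    have h2 : Nat.card ↥P < Nat.card ↥(S ⊓ Subgroup.normalizer (P : Set G)) :=
      grow P inf_le_left hP
    have h3 : S ⊓ Subgroup.normalizer (P : Set G) ≤ S ⊓ Subgroup.normalizer (W P : Set G) :=
      inf_le_inf_left _ (normalizer_le_normalizer_conjFunctor (h𝓦 W hW) hPp)
    have h4 := Subgroup.card_le_of_le h3
    have h5 := Subgroup.card_le_of_le h1
    rw [card_map_cj] at h5
    omega

end Cfsg.Agent.Functors
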