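import Mathlib.Dynamics.PeriodicPts.Defs
import Mathlib.Algebra.Polynomial.AlgebraMap
import Mathlib.Algebra.Module.Pi
import Mathlib.RingTheory.Polynomial.Basic
import Mathlib.FieldTheory.Finite.Basic

/-!
Sums over orbits of a permutation of `p`-power order twisted by an operator.
-/

set_option autoImplicit false
set_option linter.style.haveILetI false

namespace Cfsg.Agent.OrbitZero

variable {M : Type*} [AddCommGroup M]

/-- `∑_{i<p} σ^i v = 0` spreads to every multiple of `p`. -/
theorem sum_iterate_eq_zero {σ : M →+ M} {v : M} {p : ℕ}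
    (h : ∀ n : ℕ, ∑ i ∈ Finset.range p, σ^[i] (σ^[n] v) = 0) :
    ∀ m : ℕ, ∑ i ∈ Finset.range (p * m), σ^[i] v = 0 := by
  intro m
  induction m with
  | zero => simp
  | succ m ih =>
    rw [Nat.mul_succ, Finset.sum_range_add, ih, zero_add]
    refine Eq.trans (Finset.sum_congr rfl fun i _ => ?_) (h (p * m))
    rw [add_comm, Function.iterate_add_apply]

/-- The sum over an invariant set without fixed points vanishes. -/
theorem sum_eq_zero_of_no_fixed {Ω : Type*} [Finite Ω] {p k : ℕ} (hp : p.Prime) {π : Ω → Ω}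
    (hπ : ∀ c, π^[p ^ k] c = c) {σ : M →+ M} {f : Ω → M} (hf : ∀ c, f (π c) = σ (f c))
    (hz : ∀ c, ∑ i ∈ Finset.range p, σ^[i] (f c) = 0) (O : Finset Ω)
    (hO : ∀ c ∈ O, π c ∈ O) (hfix : ∀ c ∈ O, π c ≠ c) : ∑ c ∈ O, f c = 0 := by
  classical
  induction O using Finset.strongInduction with
  | H O ih =>
    rcases O.eq_empty_or_nonempty with rfl | ⟨c, hc⟩
    · simp
    have hper : Function.IsPeriodicPt π (p ^ k) c := hπ c
    obtain ⟨j, -, hj⟩ := (Nat.dvd_prime_pow hp).1 hper.minimalPeriod_dvd
    set m := Function.minimalPeriod π c with hm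
    have hj0 : j ≠ 0 := by
      rintro rfl
      refine hfix c hc ?_
      have h1 : m = 1 := by simpa using hj
      exact Function.minimalPeriod_eq_one_iff_isFixedPt.1 h1
    have hiter : ∀ i, f (π^[i] c) = σ^[i] (f c) := by
      intro i
      induction i with
      | zero => rfl
      | succ i ihi => rw [Function.iterate_succ_apply', hf, ihi, Function.iterate_succ_apply']
    set Q := (Finset.range m).image (fun i => π^[i] c) with hQ
    have hmem : ∀ i, π^[i] c ∈ O := by
      intro i
      induction i with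
      | zero => exact hc
      | succ i ihi => rw [Function.iterate_succ_apply']; exact hO _ ihi
    have hQO : Q ⊆ O := by
      intro x hx
      obtain ⟨i, -, rfl⟩ := Finset.mem_image.1 hx
      exact hmem i
    have hQsum : ∑ x ∈ Q, f x = 0 := by
      rw [hQ, Finset.sum_image]
      · simp only [hiter]
        obtain ⟨j, rfl⟩ : ∃ j', j = j' + 1 := ⟨j - 1, by omega⟩
        rw [hj, pow_succ']
        refine sum_iterate_eq_zero (fun n => ?_) _
        rw [← hiter n]
        exact hz _
      · intro a ha b hb hab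
        exact Function.iterate_injOn_Iio_minimalPeriod (Finset.mem_range.1 ha) (Finset.mem_range.1 hb) hab
    have hcm : π^[m] c = c := Function.iterate_minimalPeriod
    have hclosed : ∀ x ∈ O \ Q, π x ∈ O \ Q := by
      intro x hx
      obtain ⟨hxO, hxQ⟩ := Finset.mem_sdiff.1 hx
      refine Finset.mem_sdiff.2 ⟨hO x hxO, fun h => hxQ ?_⟩
      obtain ⟨i, hi, hie⟩ := Finset.mem_image.1 h
      have hxpre : x = π^[(i + (m - 1)) % m] c := by
        have hinj : Function.Injective π^[p ^ k] := by
          rw [show π^[p ^ k] = id from funext hπ]; exact Function.injective_id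
        have hπi : Function.Injective π := by
          intro a b hab
          apply hinj
          have hpk : p ^ k = (p ^ k - 1) + 1 := (Nat.succ_pred_eq_of_pos (pow_pos hp.pos k)).symm
          rw [hpk, Function.iterate_succ_apply, Function.iterate_succ_apply, hab]
        apply hπi
        have hm1 : 1 ≤ m := by have := Finset.mem_range.1 hi; omega
        rw [← hie, hm, Function.iterate_mod_minimalPeriod_eq, ← Function.iterate_succ_apply' π,
          show (i + (Function.minimalPeriod π c - 1)).succ = i + Function.minimalPeriod π c by omega,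
          Function.iterate_add_apply, Function.iterate_minimalPeriod]
      rw [hxpre]
      exact Finset.mem_image.2 ⟨_, Finset.mem_range.2 (Nat.mod_lt _ (by
        have := Finset.mem_range.1 hi; omega)), rfl⟩
    rw [← Finset.sum_sdiff hQO, hQsum, add_zero]
    refine ih _ ?_ hclosed fun x hx => hfix x (Finset.mem_sdiff.1 hx).1
    exact Finset.sdiff_ssubset hQO ⟨c, Finset.mem_image.2 ⟨0, Finset.mem_range.2 (by
      rw [hj]; exact pow_pos hp.pos j), rfl⟩⟩

/-- In characteristic `p`, `∑_{i<p} σ^i = (σ - 1)^(p-1)`. -/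
theorem sum_pow_eq_sub_one_pow {p : ℕ} [hp : Fact p.Prime] {A : Type*} [Ring A] [Algebra (ZMod p) A]
    (σ : A) : ∑ i ∈ Finset.range p, σ ^ i = (σ - 1) ^ (p - 1) := by
  have key : ∑ i ∈ Finset.range p, (Polynomial.X : Polynomial (ZMod p)) ^ i =
      (Polynomial.X - 1) ^ (p - 1) := by
    have h1 := geom_sum_mul (Polynomial.X : Polynomial (ZMod p)) p
    have h2 : (Polynomial.X - 1 : Polynomial (ZMod p)) ^ p = Polynomial.X ^ p - 1 := by
      rw [sub_pow_char, one_pow]
    have hne : (Polynomial.X - 1 : Polynomial (ZMod p)) ≠ 0 := by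
      rw [← Polynomial.C_1]; exact Polynomial.X_sub_C_ne_zero 1
    refine mul_right_cancel₀ hne ?_
    rw [h1, ← pow_succ, Nat.sub_add_cancel hp.out.one_le, h2]
  have := congrArg (Polynomial.aeval σ) key
  simpa using this

theorem sum_pow_eq_neg_one_pow_mul {p : ℕ} [Fact p.Prime] {A : Type*} [Ring A] [Algebra (ZMod p) A]
    (σ : A) : ∑ i ∈ Finset.range p, σ ^ i = (-1) ^ (p - 1) * (1 - σ) ^ (p - 1) := by
  rw [sum_pow_eq_sub_one_pow, ← neg_sub (1 : A), neg_pow]

end Cfsg.Agent.OrbitZero
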