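import Cfsg.Agent.Lib.Functors.SectionApps
import Cfsg.Agent.Lib.Functors.ChiefP
import Cfsg.Agent.Lib.Functors.OrbitZero
import Mathlib.GroupTheory.IndexNormal

/-!
The structure of a minimal group in which a family of functors does not control transfer.
-/

set_option autoImplicit false
set_option linter.style.haveILetI false
set_option linter.unusedSectionVars false

namespace Cfsg.Agent.Functors

open Cfsg
open scoped commutatorElement

universe u

variable {G : Type u} [Group G] [Finite G] {p : ℕ} [Fact p.Prime]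
  {𝓦 : Set (∀ (Q : Type u) [Group Q], Subgroup Q)}

/-- An element of `S ∩ G'` central modulo a normal `R ≤ S` lies in `S' R`. -/
theorem mem_sup_of_central_mod (S : Sylow p G) {R : Subgroup G} [R.Normal] {t : G}
    (htS : t ∈ (S : Subgroup G)) (htc : t ∈ commutator G) (hcen : ∀ g : G, ⁅t, g⁆ ∈ R) :
    t ∈ ⁅(S : Subgroup G), (S : Subgroup G)⁆ ⊔ R := by
  set π := QuotientGroup.mk' R with hπ
  have hπs : Function.Surjective π := QuotientGroup.mk'_surjective R
  set P : Sylow p (G ⧸ R) := S.mapSurjective hπs with hP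
  have hcomm : ∀ y : G ⧸ R, y * π t = π t * y := by
    intro y
    obtain ⟨g, rfl⟩ := hπs y
    have h2 : Commute (π t) (π g) := by
      rw [← commutatorElement_eq_one_iff_commute, ← map_commutatorElement]
      exact (QuotientGroup.eq_one_iff _).2 (hcen g)
    exact h2.symm
  let φ : ↥(P : Subgroup (G ⧸ R)) →* Abelianization ↥(P : Subgroup (G ⧸ R)) := Abelianization.of
  have key : ∀ (k : ℕ) (g₀ : G ⧸ R), g₀⁻¹ * π t ^ k * g₀ ∈ (P : Subgroup (G ⧸ R)) →
      g₀⁻¹ * π t ^ k * g₀ = π t ^ k := by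
    intro k g₀ _
    have : Commute g₀⁻¹ (π t ^ k) := Commute.pow_right (hcomm g₀⁻¹) k
    rw [this.eq, inv_mul_cancel_right]
  have h0 : MonoidHom.transfer φ (π t) = 1 := by
    have h : π t ∈ commutator (G ⧸ R) := by
      rw [commutator_def, ← Subgroup.map_top_of_surjective π hπs, ← Subgroup.map_commutator]
      exact ⟨t, htc, rfl⟩
    exact Abelianization.commutator_subset_ker _ h
  rw [MonoidHom.transfer_eq_pow φ (π t) key] at h0
  have hn : π t ^ (P : Subgroup (G ⧸ R)).index ∈ ⁅(P : Subgroup (G ⧸ R)), (P : Subgroup (G ⧸ R))⁆ := by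
    rw [← Subgroup.map_subtype_commutator]
    exact ⟨_, (QuotientGroup.eq_one_iff _).1 h0, rfl⟩
  rw [show (P : Subgroup (G ⧸ R)) = (S : Subgroup G).map π from rfl, ← Subgroup.map_commutator] at hn
  obtain ⟨z, hz, hze⟩ := hn
  have hpow : t ^ ((S : Subgroup G).map π).index ∈ ⁅(S : Subgroup G), (S : Subgroup G)⁆ ⊔ R := by
    have h3 : z⁻¹ * t ^ ((S : Subgroup G).map π).index ∈ R := by
      rw [← QuotientGroup.eq, QuotientGroup.mk_pow]
      exact hze
    simpa using mul_mem (Subgroup.mem_sup_left (T := R) hz) (Subgroup.mem_sup_right h3)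
  have hcop : (orderOf t).Coprime ((S : Subgroup G).map π).index := by
    obtain ⟨k, hk⟩ := S.isPGroup' ⟨t, htS⟩
    refine Nat.Coprime.coprime_dvd_left (orderOf_dvd_of_pow_eq_one
      (congrArg Subtype.val hk : t ^ p ^ k = 1)) (Nat.Coprime.pow_left k ?_)
    exact (Fact.out : p.Prime).coprime_iff_not_dvd.2 P.not_dvd_index
  obtain ⟨m, hm⟩ := exists_pow_eq_self_of_coprime hcop.symm
  rw [← hm]
  exact pow_mem hpow m

theorem le_transferPart_commutator (h𝓦 : ∀ W ∈ 𝓦, IsCharPFunctor.{u} p W) (hne : 𝓦.Nonempty)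
    (S : Sylow p G) :
    ⁅(S : Subgroup G), (S : Subgroup G)⁆ ≤ transferPart (indSet G 𝓦) ⊤ (S : Subgroup G) := by
  obtain ⟨W, hW⟩ := hne
  refine le_iSup₂_of_le (inducedFunctor (G := G) W) ⟨W, hW, rfl⟩
    (le_inf (Subgroup.commutator_le_self _) ?_)
  have := le_normalizer_conjFunctor (inducedFunctor_isConjugacyFunctor (G := G) (h𝓦 W hW)) S.isPGroup'
  exact Subgroup.commutator_mono (le_inf le_top this) (le_inf le_top this)

theorem equiv_of_section_card {Y : Type u} [Group Y] [Finite Y] (h : IsSectionOf G Y) :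
    Nat.card Y < Nat.card G ∨ Nonempty (G ≃* Y) := by
  obtain ⟨K, f, hf⟩ := h
  have h1 : Nat.card Y ≤ Nat.card ↥K := Nat.card_le_card_of_surjective f hf
  have h2 : Nat.card ↥K ≤ Nat.card G := Subgroup.card_le_card_group K
  by_cases hlt : Nat.card Y < Nat.card G
  · exact Or.inl hlt
  · have hK : K = ⊤ := Subgroup.eq_top_of_card_eq K (by omega)
    have hbij : Function.Bijective f := ⟨(Finite.injective_iff_surjective_of_equiv
      (Finite.equivFinOfCardEq (n := Nat.card Y) (α := ↥K) (by omega) |>.trans (Finite.equivFin Y).symm)).2 hf, hf⟩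
    exact Or.inr ⟨((MulEquiv.subgroupCongr hK).trans Subgroup.topEquiv).symm.trans
      (MulEquiv.ofBijective f hbij)⟩

/-- `(u - 1)^(p-1)` kills every chief factor inside `T`. -/
def KillsFactors (p : ℕ) (T : Subgroup G) (u : G) : Prop :=
  ∀ U V : Subgroup G, IsChiefFactor U V → U ≤ T → iterCommutator U (Subgroup.zpowers u) (p - 1) ≤ V

theorem IsChiefFactor.map_cj {U V : Subgroup G} (h : IsChiefFactor U V) (g : G) :
    U.map (cj g) = U ∧ V.map (cj g) = V :=
  ⟨ChiefAct.map_conj_of_normal (hY := h.2.1) U g, ChiefAct.map_conj_of_normal (hY := h.2.2.1) V g⟩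

theorem iterCommutator_map (U H : Subgroup G) {G' : Type u} [Group G'] (f : G →* G') (n : ℕ) :
    (iterCommutator U H n).map f = iterCommutator (U.map f) (H.map f) n := by
  induction n with
  | zero => rfl
  | succ n ih => rw [iterCommutator, iterCommutator, Subgroup.map_commutator, ih]

theorem KillsFactors.conj {T : Subgroup G} {u : G} (h : KillsFactors p T u) (g : G) :
    KillsFactors p T (g * u * g⁻¹) := by
  intro U V hUV hUT
  obtain ⟨eU, eV⟩ := IsChiefFactor.map_cj hUV g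
  have := Subgroup.map_mono (f := cj g) (h U V hUV hUT)
  rw [iterCommutator_map, eU, eV, MonoidHom.map_zpowers] at this
  exact this

/-- A functional on `X₁/Y₀` fixed by `M` is fixed by all of `G`, when a suitable weakly closed
subgroup moves every other coset of `M`. -/
theorem fixed_of_orbit_sums {X₁ Y₀ M E : Subgroup G} [hX : X₁.Normal] [hY : Y₀.Normal]
    (hE : IsPGroup p ↥E) {Δ : Set G} (hΔE : E = Subgroup.closure Δ)
    (hΔ : ∀ u ∈ Δ, ∀ x ∈ X₁, (ChiefAct.dg u)^[p - 1] x ∈ Y₀)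
    (hEM : E ≤ M) (hmove : ∀ g : G, (∀ e ∈ E, g⁻¹ * e * g ∈ M) → g ∈ M)
    (l : ↥X₁ → ZMod p) (hadd : ∀ a b, l (a * b) = l a + l b)
    (hY0 : ∀ y : ↥X₁, (y : G) ∈ Y₀ → l y = 0)
    (hM : ∀ m ∈ M, ∀ x : ↥X₁, l (MulAut.conjNormal m x) = l x) :
    ∀ (g : G) (x : ↥X₁), l (MulAut.conjNormal g x) = l x := by
  classical
  have hwd : ∀ g k : G, g⁻¹ * k ∈ M → (fun x => l (MulAut.conjNormal g⁻¹ x)) =
      fun x => l (MulAut.conjNormal k⁻¹ x) := by
    intro g k h
    funext x
    rw [show g⁻¹ = (g⁻¹ * k) * k⁻¹ by group, map_mul, MulAut.mul_apply, hM _ h]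
  let f : G ⧸ M → (↥X₁ → ZMod p) := fun c => Quotient.liftOn' c
    (fun g x => l (MulAut.conjNormal g⁻¹ x)) fun g k h => hwd g k (QuotientGroup.leftRel_apply.1 h)
  have hf : ∀ (g : G) (x : ↥X₁), f (QuotientGroup.mk g) x = l (MulAut.conjNormal g⁻¹ x) := fun _ _ => rfl
  have hfadd : ∀ (c : G ⧸ M) (a b : ↥X₁), f c (a * b) = f c a + f c b := by
    intro c a b
    induction c using QuotientGroup.induction_on with
    | _ g => rw [hf, hf, hf, map_mul, hadd]
  have hfY : ∀ (c : G ⧸ M) (y : ↥X₁), (y : G) ∈ Y₀ → f c y = 0 := by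
    intro c y hy
    induction c using QuotientGroup.induction_on with
    | _ g =>
      rw [hf]
      refine hY0 _ ?_
      rw [MulAut.conjNormal_apply]
      exact hY.conj_mem _ hy _
  have hshift : ∀ (h : G) (c : G ⧸ M) (x : ↥X₁), f (h • c) x = f c (MulAut.conjNormal h⁻¹ x) := by
    intro h c x
    induction c using QuotientGroup.induction_on with
    | _ g =>
      rw [MulAction.Quotient.smul_mk, hf, hf, smul_eq_mul, mul_inv_rev, map_mul, MulAut.mul_apply]
  haveI : Fintype (G ⧸ M) := Fintype.ofFinite _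
  have hc0 : ∀ m ∈ M, m • ((1 : G) : G ⧸ M) = ((1 : G) : G ⧸ M) := by
    intro m hm
    rw [MulAction.Quotient.smul_mk, smul_eq_mul, mul_one, QuotientGroup.eq]
    simpa using hm
  -- the twisted sums vanish away from the base point
  have hzero : ∑ c ∈ Finset.univ.erase ((1 : G) : G ⧸ M), f c = 0 := by
    haveI : Fintype (Quotient (MulAction.orbitRel ↥E (G ⧸ M))) := Fintype.ofFinite _
    rw [← Finset.sum_fiberwise (Finset.univ.erase ((1 : G) : G ⧸ M))
      (Quotient.mk (MulAction.orbitRel ↥E (G ⧸ M))) f]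
    refine Finset.sum_eq_zero fun q _ => ?_
    rcases (Finset.filter (fun c => Quotient.mk (MulAction.orbitRel ↥E (G ⧸ M)) c = q)
      (Finset.univ.erase ((1 : G) : G ⧸ M))).eq_empty_or_nonempty with h | ⟨c₀, hc₀⟩
    · rw [h, Finset.sum_empty]
    obtain ⟨hne₀, hq₀⟩ := Finset.mem_filter.1 hc₀
    have hne₀' := (Finset.mem_erase.1 hne₀).1
    have hstab : MulAction.stabilizer ↥E c₀ ≠ ⊤ := by
      intro htop
      induction c₀ using QuotientGroup.induction_on with
      | _ g =>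
        refine hne₀' ?_
        rw [QuotientGroup.eq, mul_one]
        refine inv_mem (hmove g fun e he => ?_)
        have h1 : (⟨e, he⟩ : ↥E) • (QuotientGroup.mk g : G ⧸ M) = QuotientGroup.mk g :=
          MulAction.mem_stabilizer_iff.1 (htop ▸ Subgroup.mem_top _)
        replace h1 : e • (QuotientGroup.mk g : G ⧸ M) = QuotientGroup.mk g := h1
        rw [MulAction.Quotient.smul_mk, smul_eq_mul, QuotientGroup.eq] at h1
        simpa [mul_assoc] using inv_mem h1
    obtain ⟨E₂, hE₂, hle₂⟩ := (eq_top_or_exists_le_coatom (MulAction.stabilizer ↥E c₀)).resolve_left hstab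
    haveI := hE.isNilpotent
    haveI : E₂.Normal := Subgroup.NormalizerCondition.normal_of_coatom E₂ (Group.normalizerCondition_of_isNilpotent (G := ↥E)) hE₂
    obtain ⟨u, huΔ, huE, hu2⟩ : ∃ u ∈ Δ, ∃ h : u ∈ E, (⟨u, h⟩ : ↥E) ∉ E₂ := by
      by_contra hc
      push Not at hc
      refine hE₂.1 (eq_top_iff.2 fun z _ => ?_)
      have hle : E ≤ E₂.map E.subtype := by
        conv_lhs => rw [hΔE]
        rw [Subgroup.closure_le]
        intro v hv
        have hvE : v ∈ E := hΔE ▸ Subgroup.subset_closure hv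
        exact ⟨⟨v, hvE⟩, hc v hv hvE, rfl⟩
      obtain ⟨w, hw, hwz⟩ := hle z.2
      rwa [show w = z from Subtype.ext hwz] at hw
    let σ : Module.End (ZMod p) (↥X₁ → ZMod p) :=
      LinearMap.funLeft (ZMod p) (ZMod p) (MulAut.conjNormal (H := X₁) u)
    have hσ : ∀ (F : ↥X₁ → ZMod p) x, σ F x = F (MulAut.conjNormal u x) := fun _ _ => rfl
    have hiter : ∀ (c : G ⧸ M) (n : ℕ) (x : ↥X₁), ((1 - σ) ^ n) (f c) x =
        f c ⟨(ChiefAct.dg u)^[n] x, ChiefAct.dg_iterate_mem x.2 n⟩ := by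
      intro c n
      induction n with
      | zero => intro x; rfl
      | succ n ihn =>
        intro x
        rw [pow_succ', Module.End.mul_apply, LinearMap.sub_apply, Module.End.one_apply, Pi.sub_apply,
          hσ, ihn, ihn, sub_eq_iff_eq_add, ← hfadd]
        congr 1
        refine Subtype.ext ?_
        simp only [Subgroup.coe_mul, Function.iterate_succ_apply', MulAut.conjNormal_apply,
          ChiefAct.dg_iterate_conj]
        simp only [ChiefAct.dg, commutatorElement_def]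
        group
    obtain ⟨k, hk⟩ := hE ⟨u, huE⟩
    have huk : u ^ p ^ k = 1 := congrArg Subtype.val hk
    refine OrbitZero.sum_eq_zero_of_no_fixed (p := p) (k := k) (Fact.out : p.Prime)
      (π := fun c : G ⧸ M => u⁻¹ • c) (σ := σ.toAddMonoidHom) ?_ ?_ ?_ _ ?_ ?_
    · intro c
      simp [smul_iterate, inv_pow, huk]
    · intro c
      funext x
      change f (u⁻¹ • c) x = σ (f c) x
      rw [hσ, hshift, inv_inv]
    · intro c
      have hD : ((1 - σ) ^ (p - 1)) (f c) = 0 := funext fun x => by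
        rw [hiter, hfY _ _ (hΔ u huΔ _ x.2)]; rfl
      have h1 := LinearMap.congr_fun (OrbitZero.sum_pow_eq_neg_one_pow_mul (p := p) σ) (f c)
      rw [Module.End.mul_apply, hD, map_zero, LinearMap.sum_apply] at h1
      refine Eq.trans (Finset.sum_congr rfl fun i _ => ?_) h1
      rw [Module.End.coe_pow]
      rfl
    · intro c hc
      obtain ⟨hc1, hc2⟩ := Finset.mem_filter.1 hc
      refine Finset.mem_filter.2 ⟨Finset.mem_erase.2 ⟨fun h => (Finset.mem_erase.1 hc1).1 ?_,
        Finset.mem_univ _⟩, hc2 ▸ Quotient.sound ⟨(⟨u, huE⟩ : ↥E)⁻¹, rfl⟩⟩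
      have h' : u • (u⁻¹ • c) = u • ((1 : G) : G ⧸ M) := congrArg (u • ·) h
      rwa [smul_inv_smul, hc0 u (hEM huE)] at h'
    · intro c hc h
      obtain ⟨hc1, hc2⟩ := Finset.mem_filter.1 hc
      obtain ⟨e, he⟩ : ∃ e : ↥E, e • c₀ = c := Quotient.exact (hc2.trans hq₀.symm)
      have hfix : (⟨u, huE⟩ : ↥E)⁻¹ • c = c := h
      rw [← he] at hfix
      have hmem : e⁻¹ * ((⟨u, huE⟩ : ↥E)⁻¹ * e) ∈ E₂ := hle₂ (MulAction.mem_stabilizer_iff.2 (by
        rw [mul_smul, mul_smul, hfix, inv_smul_smul]))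
      refine hu2 ?_
      have h2 := (inferInstance : E₂.Normal).conj_mem _ (inv_mem hmem) e
      simpa [mul_assoc] using h2
  have hτ : ∀ (x : ↥X₁), ∑ c, f c x = l x := by
    intro x
    rw [← Finset.add_sum_erase _ _ (Finset.mem_univ ((1 : G) : G ⧸ M)), ← Finset.sum_apply, hzero,
      Pi.zero_apply, add_zero, hf]
    simp
  intro g x
  rw [← hτ x, ← hτ (MulAut.conjNormal g x)]
  refine Fintype.sum_equiv (MulAction.toPerm g⁻¹) _ _ fun c => ?_
  rw [MulAction.toPerm_apply, hshift, inv_inv]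

/-- A nonzero functional on a finite `p`-group vanishing on a proper subgroup. -/
theorem exists_functional {X : Type u} [Group X] [Finite X] (hX : IsPGroup p X) {Z : Subgroup X}
    (hZ : Z ≠ ⊤) : ∃ (l : X → ZMod p), (∀ a b, l (a * b) = l a + l b) ∧ (∀ z ∈ Z, l z = 0) ∧
      ∃ x, l x ≠ 0 := by
  obtain ⟨n, hn⟩ := hX.exists_card_eq
  obtain ⟨m, hm⟩ := (hX.to_subgroup Z).exists_card_eq
  have hmn : m < n := by
    have hlt := card_lt_of_ne_top hZ
    rw [hn, hm] at hlt
    exact (Nat.pow_lt_pow_iff_right (Fact.out : p.Prime).one_lt).1 hlt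
  obtain ⟨K, hKc, hZK⟩ := Sylow.exists_subgroup_card_pow_prime_le p
    (show p ^ (n - 1) ∣ Nat.card X by rw [hn]; exact pow_dvd_pow p (Nat.sub_le n 1)) Z hm (by omega)
  have hidx : K.index = p := by
    have := K.card_mul_index
    rw [hKc, hn, show n = (n - 1) + 1 by omega, pow_succ] at this
    exact Nat.eq_of_mul_eq_mul_left (pow_pos (Fact.out : p.Prime).pos _) this
  haveI : K.Normal := Subgroup.normal_of_index_eq_minFac_card (by
    rw [hidx, hn, (Fact.out : p.Prime).pow_minFac (by omega)])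
  have e : X ⧸ K ≃* Multiplicative (ZMod p) := mulEquivOfPrimeCardEq (p := p)
    (by rw [← Subgroup.index_eq_card]; exact hidx) (by simp)
  refine ⟨fun x => Multiplicative.toAdd (e (QuotientGroup.mk x)), fun a b => by simp, fun z hz => ?_, ?_⟩
  · simp [(QuotientGroup.eq_one_iff z).2 (hZK hz)]
  · obtain ⟨x, hx⟩ := QuotientGroup.mk_surjective (e.symm (Multiplicative.ofAdd 1))
    exact ⟨x, by simp [hx]⟩

/-- A minimal group without control of transfer. -/
theorem counterexample_structure (h𝓦 : ∀ W ∈ 𝓦, IsCharPFunctor.{u} p W) (hne : 𝓦.Nonempty)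
    (S : Sylow p G)
    (hprop : ∀ (Y : Type u) [Group Y] [Finite Y], IsSectionOf G Y → Nat.card Y < Nat.card G → CtlTR p 𝓦 Y)
    (hG : ¬ CtlTR p 𝓦 G) {R M : Subgroup G}
    (hR : R = transferPart (indSet G 𝓦) ⊤ (S : Subgroup G) ⊓ pCore p G)
    (hM : M = Subgroup.normalizer (R : Set G)) :
    PConstr p G ∧ (M ≠ ⊤ ∧ ∀ H : Subgroup G, (S : Subgroup G) ≤ H → H ≠ ⊤ → H ≤ M) ∧
      (⁅pCore p G, M⁆ ≤ pCore p G ⊓ ⁅M, M⁆ ∧
        pCore p G ⊓ ⁅M, M⁆ ≤ pCore p G ⊓ transferPart (indSet G 𝓦) ⊤ (S : Subgroup G)) ∧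
      ∀ u : G, u ∈ (S : Subgroup G) → u ∉ pCore p G →
        ∃ U V : Subgroup G, IsChiefFactor U V ∧ U ≤ pCore p G ∧
          ¬ iterCommutator U (Subgroup.zpowers u) (p - 1) ≤ V := by
  set T := pCore p G with hT
  set T₀ := transferPart (indSet G 𝓦) ⊤ (S : Subgroup G) with hT₀
  have hTn : T.Normal := Cfsg.pCore_normal p G
  have hTS : T ≤ (S : Subgroup G) := PBasic.pCore_le_sylow S
  have hC : PConstr p G := by
    by_contra hC
    refine hG (ctlTR_of_sections h𝓦 G fun Y _ _ hY hCY S' => ?_)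
    rcases equiv_of_section_card hY with h | ⟨⟨e⟩⟩
    · rw [← tr_top_of_ctl h𝓦 S' (hprop Y hY h), ← commutator_def]
      exact inf_le_inf_right _ (PBasic.pCore_le_sylow S')
    · exact absurd (pConstr_congr e hCY) hC
  have hsub : ∀ H : Subgroup G, H ≠ ⊤ → CtlTR p 𝓦 ↥H := fun H hH =>
    hprop ↥H IsSectionOf.refl.of_subgroup (card_lt_of_ne_top hH)
  have hS' := le_transferPart_commutator h𝓦 hne S
  have hTnle : ¬ T ⊓ commutator G ≤ T₀ := by
    intro h
    refine hG ((familyTR_iff _ ⊤).2 ⟨(S : Subgroup G), isSylowIn_sylow S,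
      le_antisymm ?_ (transferPart_le _ _ _)⟩)
    rw [← commutator_def]
    refine inf_commutator_le_of_pCore_part h𝓦 S hsub (fun hne' => ?_) h
    refine hprop _ (IsSectionOf.of_surjective (QuotientGroup.mk'_surjective _) IsSectionOf.refl)
      (card_quotient_lt fun hbot => hne' ?_)
    rw [← hT] at hbot
    rw [PConstr, ← hT, hbot] at hC
    have htop : (⊤ : Subgroup G) ≤ ⊥ := le_trans (fun x _ => Subgroup.mem_centralizer_iff.2 fun y hy => by
      rw [SetLike.mem_coe, Subgroup.mem_bot] at hy; simp [hy]) hC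
    rw [← hT, hbot]
    exact le_bot_iff.1 (le_top.trans htop)
  have hbound : ∀ H : Subgroup G, (S : Subgroup G) ≤ H → H ≠ ⊤ → T ⊓ ⁅H, H⁆ ≤ R := fun H hSH hH => by
    rw [hR]
    exact le_inf ((inf_le_inf_right _ hTS).trans (inf_commutator_le_of_ctl_subgroup h𝓦 S hSH (hsub H hH)))
      inf_le_left
  have hTH : ∀ H : Subgroup G, (S : Subgroup G) ≤ H → H ≠ ⊤ → ⁅T, H⁆ ≤ R := fun H hSH hH =>
    le_trans (le_inf (Subgroup.commutator_le_left T H) (Subgroup.commutator_mono (hTS.trans hSH) le_rfl))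
      (hbound H hSH hH)
  have hRT : R ≤ T := hR ▸ inf_le_right
  have hRnorm : ∀ H : Subgroup G, (S : Subgroup G) ≤ H → H ≠ ⊤ → H ≤ M := fun H hSH hH => by
    rw [hM]
    exact KInf.le_normalizer_of_commutator_le ((Subgroup.commutator_mono hRT le_rfl).trans (hTH H hSH hH))
  -- transfer of an element central modulo a normal subgroup inside `R`
  have hcentral : ∀ Y : Subgroup G, Y.Normal → Y ≤ R → ∀ t ∈ T, t ∈ commutator G →
      (∀ g : G, ⁅t, g⁆ ∈ Y) → t ∈ T₀ := by
    intro Y hY hYR t htT htc hcen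
    haveI := hY
    exact (sup_le hS' (hYR.trans (hR ▸ inf_le_left))) (mem_sup_of_central_mod S (hTS htT) htc hcen)
  have hMtop : M ≠ ⊤ := by
    intro htop
    haveI hRn : R.Normal := Subgroup.normalizer_eq_top_iff.1 (hM ▸ htop)
    have hSnot : ¬ (S : Subgroup G).Normal := by
      intro hn
      obtain ⟨W, hW⟩ := hne
      refine hG ((familyTR_iff _ ⊤).2 ⟨(S : Subgroup G), isSylowIn_sylow S,
        le_antisymm ?_ (transferPart_le _ _ _)⟩)
      have hWn : Subgroup.normalizer ((inducedFunctor W (S : Subgroup G) : Subgroup G) : Set G) = ⊤ :=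
        eq_top_iff.2 ((Subgroup.normalizer_eq_top (H := (S : Subgroup G))).ge.trans
          (normalizer_le_normalizer_conjFunctor (inducedFunctor_isConjugacyFunctor (h𝓦 W hW)) S.isPGroup'))
      refine le_iSup₂_of_le (inducedFunctor (G := G) W) ⟨W, hW, rfl⟩ ?_
      rw [hWn, inf_idem]
    have hcen : ⁅T, (⊤ : Subgroup G)⁆ ≤ R := by
      set N := Subgroup.normalClosure ((S : Subgroup G) : Set G) with hN
      have hSN : (S : Subgroup G) ≤ N := Subgroup.le_normalClosure
      haveI : N.Normal := Subgroup.normalClosure_normal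
      by_cases hNtop : N = ⊤
      · have hle : N ≤ ChiefAct.modCent T R := by
          haveI := hTn
          refine Subgroup.normalClosure_le_normal fun s hs t ht => ?_
          rw [hR]
          refine Subgroup.mem_inf.2 ⟨hS' (Subgroup.commutator_mem_commutator (hTS ht) hs), ?_⟩
          exact Subgroup.commutator_le_left T (⊤ : Subgroup G)
            (Subgroup.commutator_mem_commutator ht (Subgroup.mem_top s))
        refine Subgroup.commutator_le.2 fun t ht g _ => hle (hNtop.ge (Subgroup.mem_top g)) t ht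
      · have hNG : Subgroup.normalizer ((S : Subgroup G) : Set G) ≠ ⊤ := fun h =>
          hSnot (Subgroup.normalizer_eq_top_iff.1 h)
        have h1 := hTH N hSN hNtop
        have h2 := hTH _ Subgroup.le_normalizer hNG
        have hsup : Subgroup.normalizer ((S : Subgroup G) : Set G) ⊔ N = ⊤ :=
          Sylow.normalizer_sup_eq_top' S hSN
        haveI := hTn
        have hle : (⊤ : Subgroup G) ≤ ChiefAct.modCent T R := hsup ▸ sup_le
          (fun g hg t ht => h2 (Subgroup.commutator_mem_commutator ht hg))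
          (fun g hg t ht => h1 (Subgroup.commutator_mem_commutator ht hg))
        exact Subgroup.commutator_le.2 fun t ht g _ => hle (Subgroup.mem_top g) t ht
    refine hTnle fun t ht => ?_
    obtain ⟨htT, htc⟩ := Subgroup.mem_inf.1 ht
    exact hcentral R hRn le_rfl t htT htc fun g =>
      hcen (Subgroup.commutator_mem_commutator htT (Subgroup.mem_top g))
  have hSM : (S : Subgroup G) ≤ M := by
    rw [hM]
    refine KInf.le_normalizer_of_commutator_le ?_
    rw [hR]
    refine le_inf ((Subgroup.commutator_mono (inf_le_right.trans hTS) le_rfl).trans hS') ?_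
    exact (Subgroup.commutator_mono inf_le_right le_rfl).trans (Subgroup.commutator_le_left T _)
  refine ⟨hC, ⟨hMtop, hRnorm⟩, ⟨le_inf (Subgroup.commutator_le_left T M)
    (Subgroup.commutator_mono (hTS.trans hSM) le_rfl), le_inf inf_le_left ?_⟩, ?_⟩
  · exact (hbound M hSM hMtop).trans (hR ▸ inf_le_left)
  intro u huS huT
  by_contra hall
  push Not at hall
  -- the weakly closed subgroup
  set Δ := {v : G | v ∈ (S : Subgroup G) ∧ KillsFactors p T v} with hΔ
  set E := Subgroup.closure Δ with hE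
  have hES : E ≤ (S : Subgroup G) := (Subgroup.closure_le _).2 fun v hv => hv.1
  have hEp : IsPGroup p ↥E := S.isPGroup'.to_le hES
  have hEN : (S : Subgroup G) ≤ Subgroup.normalizer (E : Set G) := by
    intro s hs
    rw [← map_cj_eq_iff]
    refine Subgroup.eq_of_le_of_card_ge ?_ (card_map_cj _ _).ge
    rw [hE, MonoidHom.map_closure, Subgroup.closure_le]
    rintro _ ⟨v, hv, rfl⟩
    exact Subgroup.subset_closure ⟨mul_mem (mul_mem hs hv.1) (inv_mem hs), hv.2.conj s⟩
  have hENM : Subgroup.normalizer (E : Set G) ≤ M := hRnorm _ hEN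
    (normalizer_ne_top_of_not_le hEp fun h => huT (h (Subgroup.subset_closure ⟨huS, fun U V a b => hall U V a b⟩)))
  have hmove : ∀ g : G, (∀ e ∈ E, g⁻¹ * e * g ∈ M) → g ∈ M := by
    intro g hg
    have hle : E.map (cj g⁻¹) ≤ M := by
      rintro _ ⟨e, he, rfl⟩
      rw [cj_apply, inv_inv]
      exact hg e he
    obtain ⟨n, hn, hnE⟩ := exists_conj_le_of_isSylowIn ((isSylowIn_sylow S).of_le hSM le_top)
      (hEp.map _) hle
    rw [map_map_cj] at hnE
    have heq : E.map (cj (n * g⁻¹)) = E := by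
      refine Subgroup.eq_of_le_of_card_ge ?_ (card_map_cj _ _).ge
      conv_lhs => rw [hE]
      rw [MonoidHom.map_closure, Subgroup.closure_le]
      rintro _ ⟨v, hv, rfl⟩
      exact Subgroup.subset_closure ⟨hnE ⟨v, Subgroup.subset_closure hv, rfl⟩, hv.2.conj _⟩
    have h1 := hENM (map_cj_eq_iff.1 heq)
    have h2 := inv_mem (mul_mem (inv_mem hn) h1)
    simpa using h2
  -- the chief factor
  set Y₀ := (R ⊓ commutator G).normalCore with hY₀
  have hY₀R : Y₀ ≤ R := (Subgroup.normalCore_le _).trans inf_le_left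
  have hY₀c : Y₀ ≤ T ⊓ commutator G := le_inf (hY₀R.trans hRT) ((Subgroup.normalCore_le _).trans inf_le_right)
  haveI : Y₀.Normal := Subgroup.normalCore_normal _
  haveI := hTn
  have hlt : Y₀ < T ⊓ commutator G := lt_of_le_of_ne hY₀c fun e =>
    hTnle (e.ge.trans (hY₀R.trans (hR ▸ inf_le_left)))
  obtain ⟨X₁, ⟨hX₁n, hX₁le, hX₁lt⟩, hX₁min⟩ := (Set.toFinite
    {X : Subgroup G | X.Normal ∧ X ≤ T ⊓ commutator G ∧ Y₀ < X}).exists_minimal
    ⟨T ⊓ commutator G, inferInstance, le_rfl, hlt⟩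
  haveI := hX₁n
  have hX₁R : ¬ X₁ ≤ R := fun h => hX₁lt.not_ge
    (Subgroup.normal_le_normalCore.2 (le_inf h (hX₁le.trans inf_le_right)))
  have hch : IsChiefFactor X₁ Y₀ := by
    refine ⟨hX₁lt, hX₁n, inferInstance, fun N hN hYN hNX => ?_⟩
    rcases eq_or_lt_of_le hYN with h | h
    · exact Or.inl h.symm
    · exact Or.inr (le_antisymm hNX (hX₁min ⟨hN, hNX.trans hX₁le, h⟩ hNX))
  have hX₁T : X₁ ≤ T := hX₁le.trans inf_le_left
  obtain ⟨l, hadd, hvan, x₀, hx₀⟩ := exists_functional (p := p)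
    ((PBasic.pCore_isPGroup p G).to_le hX₁T) (Z := R.subgroupOf X₁)
    (fun h => hX₁R (Subgroup.subgroupOf_eq_top.1 h))
  have hX₁ab : ⁅X₁, X₁⁆ ≤ Y₀ := ChiefAct.commutator_self_le_of_chief (PBasic.pCore_isPGroup p G) hch hX₁T
  have hone : l 1 = 0 := by have := hadd 1 1; rw [one_mul] at this; exact left_eq_add.1 this
  have hfix := fixed_of_orbit_sums (p := p) (M := M) (E := E) (Δ := Δ) hEp rfl
    (fun v hv x hx => (hv.2 X₁ Y₀ hch hX₁T) (ChiefAct.dg_iterate_mem_iterCommutator hx _))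
    (hES.trans hSM) hmove l hadd (fun y hy => hvan y (hY₀R hy))
    (fun m hm x => by
      have hd : (MulAut.conjNormal m x : ↥X₁) * x⁻¹ ∈ R.subgroupOf X₁ := by
        rw [Subgroup.mem_subgroupOf]
        have h1 := hbound M hSM hMtop (Subgroup.mem_inf.2 ⟨
          Subgroup.commutator_le_right (⊤ : Subgroup G) T
            (Subgroup.commutator_mem_commutator (Subgroup.mem_top m) (hX₁T x.2)),
          Subgroup.commutator_mem_commutator hm ((hTS.trans hSM) (hX₁T x.2))⟩)
        simpa [MulAut.conjNormal_apply, commutatorElement_def] using h1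
      have := hadd ((MulAut.conjNormal m x : ↥X₁) * x⁻¹) x
      rw [inv_mul_cancel_right, hvan _ hd, zero_add] at this
      exact this)
  -- its kernel is `Y₀`, so the factor is central
  let K : Subgroup G :=
    { carrier := {g | ∃ h : g ∈ X₁, l ⟨g, h⟩ = 0}
      one_mem' := ⟨one_mem _, hone⟩
      mul_mem' := fun {a b} ⟨ha, ha'⟩ ⟨hb, hb'⟩ => ⟨mul_mem ha hb, by
        have := hadd ⟨a, ha⟩ ⟨b, hb⟩; rw [ha', hb', add_zero] at this; exact this⟩
      inv_mem' := fun {a} ⟨ha, ha'⟩ => ⟨inv_mem ha, by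
        have := hadd ⟨a, ha⟩ ⟨a, ha⟩⁻¹
        rw [mul_inv_cancel, hone, ha', zero_add] at this
        exact this.symm⟩ }
  have hKn : K.Normal := ⟨fun a ⟨ha, ha'⟩ g => ⟨hX₁n.conj_mem a ha g, by
    have := hfix g ⟨a, ha⟩
    rw [ha'] at this
    convert this using 2
    exact (Subtype.ext (MulAut.conjNormal_apply _ _)).symm⟩⟩
  have hKY : K ≤ Y₀ := by
    rcases hch.2.2.2 K hKn (fun y hy => ⟨hX₁lt.le hy, hvan _ (hY₀R hy)⟩) (fun y hy => hy.1) with h | h
    · exact h.le
    · exact absurd (h.ge x₀.2).2 hx₀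
  have hcen : ∀ x ∈ X₁, ∀ g : G, ⁅x, g⁆ ∈ Y₀ := fun x hx g => by
    refine hKY ⟨ChiefAct.dg_mem (g := g) hx, ?_⟩
    have h1 := hfix g ⟨x, hx⟩⁻¹
    have h2 := hadd ⟨x, hx⟩ ⟨x, hx⟩⁻¹
    rw [mul_inv_cancel, hone] at h2
    have h3 := hadd ⟨x, hx⟩ (MulAut.conjNormal g ⟨x, hx⟩⁻¹)
    rw [h1, ← h2] at h3
    convert h3 using 2
    refine Subtype.ext ?_
    simp [MulAut.conjNormal_apply, commutatorElement_def, mul_assoc]
  refine hX₁R fun x hx => ?_
  rw [hR]
  exact Subgroup.mem_inf.2 ⟨hcentral Y₀ inferInstance hY₀R x (hX₁T hx) (hX₁le hx).2 (hcen x hx), hX₁T hx⟩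

end Cfsg.Agent.Functors
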