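import Cfsg.Agent.Lib.Functors.Control
import Cfsg.Agent.Lib.Functors.Induced
import Cfsg.Agent.Lib.Functors.ChiefAct
import Cfsg.Agent.Lib.Techniques.PConstrained

/-!
Tools for inductions over sections: sections, restriction to subgroups, quotients by normal
`p'`-subgroups.
-/

set_option autoImplicit false
set_option linter.style.haveILetI false
set_option linter.unusedSectionVars false

namespace Cfsg.Agent.Functors

open Cfsg

universe u

/-- `Y` is a section of `G`. -/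
def IsSectionOf (G : Type u) [Group G] (Y : Type u) [Group Y] : Prop :=
  ∃ (K : Subgroup G) (f : ↥K →* Y), Function.Surjective f

/-- `C(O_p(Y)) ≤ O_p(Y)`. -/
def PConstr (p : ℕ) (Y : Type u) [Group Y] : Prop :=
  Subgroup.centralizer ((pCore p Y : Subgroup Y) : Set Y) ≤ pCore p Y

section sections

variable {G : Type u} [Group G]

theorem IsSectionOf.refl : IsSectionOf G G :=
  ⟨⊤, (⊤ : Subgroup G).subtype, fun x => ⟨⟨x, Subgroup.mem_top x⟩, rfl⟩⟩

theorem IsSectionOf.of_surjective {Y Z : Type u} [Group Y] [Group Z] {f : G →* Y}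
    (hf : Function.Surjective f) (h : IsSectionOf Y Z) : IsSectionOf G Z := by
  obtain ⟨K, φ, hφ⟩ := h
  refine ⟨K.comap f, φ.comp ((f.comp (K.comap f).subtype).codRestrict K fun x => x.2), fun z => ?_⟩
  obtain ⟨⟨y, hy⟩, rfl⟩ := hφ z
  obtain ⟨x, rfl⟩ := hf y
  exact ⟨⟨x, hy⟩, rfl⟩

theorem IsSectionOf.of_subgroup {H : Subgroup G} {Z : Type u} [Group Z] (h : IsSectionOf ↥H Z) :
    IsSectionOf G Z := by
  obtain ⟨K, φ, hφ⟩ := h
  refine ⟨K.map H.subtype, φ.comp (K.equivMapOfInjective H.subtype H.subtype_injective).symm.toMonoidHom,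
    fun z => ?_⟩
  obtain ⟨k, rfl⟩ := hφ z
  exact ⟨K.equivMapOfInjective H.subtype H.subtype_injective k, by simp⟩

theorem IsSectionOf.exists_equiv {Y : Type u} [Group Y] (h : IsSectionOf G Y) :
    ∃ (K R : Subgroup G) (_ : (R.subgroupOf K).Normal), Nonempty (↥K ⧸ R.subgroupOf K ≃* Y) := by
  obtain ⟨K, f, hf⟩ := h
  have e : (f.ker.map K.subtype).subgroupOf K = f.ker :=
    Subgroup.comap_map_eq_self_of_injective K.subtype_injective _
  haveI : ((f.ker.map K.subtype).subgroupOf K).Normal := by rw [e]; infer_instance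
  exact ⟨K, f.ker.map K.subtype, inferInstance,
    ⟨(QuotientGroup.quotientMulEquivOfEq e).trans (QuotientGroup.quotientKerEquivOfSurjective f hf)⟩⟩

theorem isSectionOf_quotient (K R : Subgroup G) [(R.subgroupOf K).Normal] :
    IsSectionOf G (↥K ⧸ R.subgroupOf K) :=
  ⟨K, QuotientGroup.mk' _, QuotientGroup.mk'_surjective _⟩

end sections

/-- The conjugacy functors induced on `G`. -/
abbrev indSet (G : Type u) [Group G] (𝓦 : Set (∀ (Q : Type u) [Group Q], Subgroup Q)) :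
    Set (Subgroup G → Subgroup G) :=
  (fun W => inducedFunctor (G := G) W) '' 𝓦

/-- `𝓦` controls strong fusion in the whole group. -/
def CtlSF (p : ℕ) (𝓦 : Set (∀ (Q : Type u) [Group Q], Subgroup Q)) (Y : Type u) [Group Y] : Prop :=
  FamilyControlsStrongFusionIn p (indSet Y 𝓦) ⊤

/-- `𝓦` controls transfer in the whole group. -/
def CtlTR (p : ℕ) (𝓦 : Set (∀ (Q : Type u) [Group Q], Subgroup Q)) (Y : Type u) [Group Y] : Prop :=
  FamilyControlsTransferIn p (indSet Y 𝓦) ⊤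

variable {G : Type u} [Group G] [Finite G] {p : ℕ} [Fact p.Prime]
  {𝓦 : Set (∀ (Q : Type u) [Group Q], Subgroup Q)}

theorem indSet_isConjugacyFunctor (h𝓦 : ∀ W ∈ 𝓦, IsCharPFunctor.{u} p W) :
    ∀ W ∈ indSet G 𝓦, IsConjugacyFunctor p W := by
  rintro _ ⟨W, hW, rfl⟩
  exact inducedFunctor_isConjugacyFunctor (h𝓦 W hW)

/-- The normalizers steering the chains at `S`. -/
abbrev stepSet (𝓦 : Set (∀ (Q : Type u) [Group Q], Subgroup Q)) (S : Subgroup G) : Set (Subgroup G) :=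
  (fun W => Subgroup.normalizer ((W S : Subgroup G) : Set G)) '' indSet G 𝓦

theorem map_normalizer_inf_range {Y : Type u} [Group Y] {f : Y →* G} (hf : Function.Injective f)
    (H : Subgroup Y) :
    (Subgroup.normalizer (H : Set Y)).map f = Subgroup.normalizer (H.map f : Set G) ⊓ f.range := by
  refine le_antisymm (le_inf (Subgroup.le_normalizer_map f) (Subgroup.map_le_range _ _)) ?_
  rintro _ ⟨hx, y, rfl⟩
  refine ⟨y, Subgroup.mem_normalizer_iff.2 fun z => ?_, rfl⟩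
  have h1 := Subgroup.mem_normalizer_iff.1 hx (f z)
  rw [← map_inv, ← map_mul, ← map_mul] at h1
  simp only [Subgroup.mem_map_iff_mem hf] at h1
  exact h1

theorem reach_of_sfAt {H S : Subgroup G} {𝓕 : Set (Subgroup G → Subgroup G)} (h : SFAt 𝓕 H S)
    {A : Set G} {g : G} (hg : g ∈ H) (hA : A ⊆ S) (hgA : cj g '' A ⊆ S) :
    Reach S ((fun W => Subgroup.normalizer ((W S : Subgroup G) : Set G)) '' 𝓕) A g := by
  obtain ⟨n, c, hc0, hstep, hin, hlast⟩ := h A g hg hA hgA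
  refine (isMapRel_reach S _).of_fin hA c hc0 (fun i => ?_) hlast
  obtain ⟨W, hW, hx⟩ := hstep i
  exact Reach.single (hin i.castSucc) ⟨_, ⟨W, hW, rfl⟩, (Subgroup.mem_inf.1 hx).2⟩
    (by rw [cj_image_image, inv_mul_cancel_right]; exact hin i.succ)

theorem familySF_map {Y : Type u} [Group Y] [Finite Y] (h𝓦 : ∀ W ∈ 𝓦, IsCharPFunctor.{u} p W)
    {f : Y →* G} (hf : Function.Injective f) {H : Subgroup Y}
    (h : FamilyControlsStrongFusionIn p (indSet Y 𝓦) H) :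
    FamilyControlsStrongFusionIn p (indSet G 𝓦) (H.map f) := by
  obtain ⟨T, hT, hsf⟩ := (familySF_iff _ _).1 h
  refine (familySF_iff _ _).2 ⟨T.map f, ⟨Subgroup.map_mono hT.le, hT.isPGroup.map _,
    by rw [Subgroup.relIndex_map_map_of_injective _ _ hf]; exact hT.2.2⟩, fun A g hg hA hgA => ?_⟩
  obtain ⟨g, hgH, rfl⟩ := hg
  obtain ⟨n, c, hc0, hstep, hin, hlast⟩ := hsf (f ⁻¹' A) g hgH
    (fun a ha => (Subgroup.mem_map_iff_mem hf).1 (hA ha))
    (by
      rintro _ ⟨a, ha, rfl⟩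
      refine (Subgroup.mem_map_iff_mem hf).1 (hgA ⟨f a, ha, ?_⟩)
      simp)
  refine ⟨n, fun i => f (c i), by simp [hc0], fun i => ?_, fun i => ?_, fun a ha => ?_⟩
  · obtain ⟨_, ⟨W, hW, rfl⟩, hx⟩ := hstep i
    refine ⟨_, ⟨W, hW, rfl⟩, ?_⟩
    rw [← map_inv, ← map_mul]
    refine Subgroup.mem_inf.2 ⟨Subgroup.mem_map_of_mem _ hx.1, ?_⟩
    dsimp only
    rw [inducedFunctor_map_of_injective (h𝓦 W hW) hT.isPGroup hf]
    exact Subgroup.le_normalizer_map f (Subgroup.mem_map_of_mem _ hx.2)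
  · rintro _ ⟨a, ha, rfl⟩
    obtain ⟨b, -, rfl⟩ := hA ha
    exact ⟨c i * b * (c i)⁻¹, hin i ⟨b, ha, rfl⟩, by simp⟩
  · obtain ⟨b, -, rfl⟩ := hA ha
    simpa using congrArg f (hlast b ha)

theorem familyTR_map {Y : Type u} [Group Y] [Finite Y] (h𝓦 : ∀ W ∈ 𝓦, IsCharPFunctor.{u} p W)
    {f : Y →* G} (hf : Function.Injective f) {H : Subgroup Y}
    (h : FamilyControlsTransferIn p (indSet Y 𝓦) H) :
    FamilyControlsTransferIn p (indSet G 𝓦) (H.map f) := by
  obtain ⟨T, hT, htr⟩ := (familyTR_iff _ _).1 h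
  refine (familyTR_iff _ _).2 ⟨T.map f, ⟨Subgroup.map_mono hT.le, hT.isPGroup.map _,
    by rw [Subgroup.relIndex_map_map_of_injective _ _ hf]; exact hT.2.2⟩,
    le_antisymm ?_ (transferPart_le _ _ _)⟩
  rw [← Subgroup.map_commutator, ← Subgroup.map_inf _ _ _ hf, htr, transferPart, Subgroup.map_iSup]
  refine iSup_le fun W' => ?_
  rw [Subgroup.map_iSup]
  refine iSup_le ?_
  rintro ⟨W, hW, rfl⟩
  refine le_iSup₂_of_le (inducedFunctor (G := G) W) ⟨W, hW, rfl⟩ ?_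
  have hle : (H ⊓ Subgroup.normalizer ((inducedFunctor W T : Subgroup Y) : Set Y)).map f ≤
      H.map f ⊓ Subgroup.normalizer ((inducedFunctor W (T.map f) : Subgroup G) : Set G) := by
    refine le_inf (Subgroup.map_mono inf_le_left) ?_
    rw [inducedFunctor_map_of_injective (h𝓦 W hW) hT.isPGroup hf]
    exact (Subgroup.map_mono inf_le_right).trans (Subgroup.le_normalizer_map f)
  rw [Subgroup.map_inf _ _ _ hf, Subgroup.map_commutator]
  exact inf_le_inf_left _ (Subgroup.commutator_mono hle hle)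

theorem familySF_of_ctl (h𝓦 : ∀ W ∈ 𝓦, IsCharPFunctor.{u} p W) {H : Subgroup G} (h : CtlSF p 𝓦 ↥H) :
    FamilyControlsStrongFusionIn p (indSet G 𝓦) H := by
  have h' := familySF_map h𝓦 H.subtype_injective h
  rwa [← MonoidHom.range_eq_map, Subgroup.range_subtype] at h'

theorem familyTR_of_ctl (h𝓦 : ∀ W ∈ 𝓦, IsCharPFunctor.{u} p W) {H : Subgroup G} (h : CtlTR p 𝓦 ↥H) :
    FamilyControlsTransferIn p (indSet G 𝓦) H := by
  have h' := familyTR_map h𝓦 H.subtype_injective h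
  rwa [← MonoidHom.range_eq_map, Subgroup.range_subtype] at h'

theorem CtlSF.congr {Y : Type u} [Group Y] [Finite Y] (h𝓦 : ∀ W ∈ 𝓦, IsCharPFunctor.{u} p W)
    (e : Y ≃* G) (h : CtlSF p 𝓦 Y) : CtlSF p 𝓦 G := by
  have h' := familySF_map h𝓦 (f := e.toMonoidHom) e.injective h
  rwa [Subgroup.map_top_of_surjective _ e.surjective] at h'

theorem CtlTR.congr {Y : Type u} [Group Y] [Finite Y] (h𝓦 : ∀ W ∈ 𝓦, IsCharPFunctor.{u} p W)
    (e : Y ≃* G) (h : CtlTR p 𝓦 Y) : CtlTR p 𝓦 G := by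
  have h' := familyTR_map h𝓦 (f := e.toMonoidHom) e.injective h
  rwa [Subgroup.map_top_of_surjective _ e.surjective] at h'

theorem sfAt_top_of_ctl (h𝓦 : ∀ W ∈ 𝓦, IsCharPFunctor.{u} p W) (S : Sylow p G) (h : CtlSF p 𝓦 G) :
    SFAt (indSet G 𝓦) ⊤ (S : Subgroup G) := by
  obtain ⟨T, hT, hsf⟩ := (familySF_iff _ _).1 h
  exact hsf.conj (indSet_isConjugacyFunctor h𝓦) hT (isSylowIn_sylow S)

theorem tr_top_of_ctl (h𝓦 : ∀ W ∈ 𝓦, IsCharPFunctor.{u} p W) (S : Sylow p G) (h : CtlTR p 𝓦 G) :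
    (S : Subgroup G) ⊓ ⁅(⊤ : Subgroup G), ⊤⁆ = transferPart (indSet G 𝓦) ⊤ (S : Subgroup G) := by
  obtain ⟨T, hT, htr⟩ := (familyTR_iff _ _).1 h
  exact transferPart_conj (indSet_isConjugacyFunctor h𝓦) hT (isSylowIn_sylow S) htr

/-- Control in a subgroup containing `S` gives chains at `S`. -/
theorem reach_of_ctl_subgroup (h𝓦 : ∀ W ∈ 𝓦, IsCharPFunctor.{u} p W) (S : Sylow p G) {H : Subgroup G}
    (hSH : (S : Subgroup G) ≤ H) (h : CtlSF p 𝓦 ↥H) {A : Set G} {g : G} (hg : g ∈ H)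
    (hA : A ⊆ (S : Subgroup G)) (hgA : cj g '' A ⊆ (S : Subgroup G)) :
    Reach (S : Subgroup G) (stepSet 𝓦 (S : Subgroup G)) A g := by
  obtain ⟨T, hT, hsf⟩ := (familySF_iff _ _).1 (familySF_of_ctl h𝓦 h)
  exact reach_of_sfAt (hsf.conj (indSet_isConjugacyFunctor h𝓦) hT
    ((isSylowIn_sylow S).of_le hSH le_top)) hg hA hgA

theorem inf_commutator_le_of_ctl_subgroup (h𝓦 : ∀ W ∈ 𝓦, IsCharPFunctor.{u} p W) (S : Sylow p G)
    {H : Subgroup G} (hSH : (S : Subgroup G) ≤ H) (h : CtlTR p 𝓦 ↥H) :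
    (S : Subgroup G) ⊓ ⁅H, H⁆ ≤ transferPart (indSet G 𝓦) ⊤ (S : Subgroup G) := by
  obtain ⟨T, hT, htr⟩ := (familyTR_iff _ _).1 (familyTR_of_ctl h𝓦 h)
  rw [transferPart_conj (indSet_isConjugacyFunctor h𝓦) hT ((isSylowIn_sylow S).of_le hSH le_top) htr]
  exact iSup₂_mono fun W hW => inf_le_inf_left _
    (Subgroup.commutator_mono (inf_le_inf_right _ le_top) (inf_le_inf_right _ le_top))

theorem mul_mem_transfer_step {H S : Subgroup G} {a g : G} (hg : g ∈ H) (haS : a ∈ S)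
    (ha : a ∈ H) (hga : g * a * g⁻¹ ∈ S) : a⁻¹ * (g * a * g⁻¹) ∈ S ⊓ ⁅H, H⁆ := by
  refine Subgroup.mem_inf.2 ⟨mul_mem (inv_mem haS) hga, ?_⟩
  have := Subgroup.commutator_mem_commutator (inv_mem ha) hg
  simpa [commutatorElement_def, mul_assoc] using this

/-- The focal subgroup theorem, packaged. -/
theorem familyTR_top_of_forall {S : Sylow p G} (𝓕 : Set (Subgroup G → Subgroup G))
    (h : ∀ a g : G, a ∈ (S : Subgroup G) → g * a * g⁻¹ ∈ (S : Subgroup G) →
      a⁻¹ * (g * a * g⁻¹) ∈ transferPart 𝓕 ⊤ (S : Subgroup G)) :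
    FamilyControlsTransferIn p 𝓕 ⊤ := by
  refine (familyTR_iff 𝓕 ⊤).2 ⟨(S : Subgroup G), isSylowIn_sylow S,
    le_antisymm ?_ (transferPart_le _ _ _)⟩
  rw [inf_comm, ← commutator_def, Subgroup.commutator_inf_eq_focalSubgroup,
    Subgroup.focalSubgroup_def, Subgroup.closure_le]
  rintro _ ⟨hz, x, hx, u, rfl⟩
  have hux : u * x⁻¹ * u⁻¹ ∈ (S : Subgroup G) := by
    have := mul_mem (inv_mem hx) hz
    simpa [commutatorElement_def, mul_assoc] using this
  have := h x⁻¹ u (inv_mem hx) hux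
  rw [inv_inv] at this
  simpa [commutatorElement_def, mul_assoc] using this

/-! ### quotient by a normal subgroup of order prime to `p` -/

section pprime

variable (S : Sylow p G) {N : Subgroup G} [N.Normal]

theorem mk_injOn (hN : (Nat.card ↥N).Coprime p) {a b : G} (ha : a ∈ (S : Subgroup G))
    (hb : b ∈ (S : Subgroup G)) (h : QuotientGroup.mk' N a = QuotientGroup.mk' N b) : a = b := by
  rw [QuotientGroup.mk'_apply, QuotientGroup.mk'_apply, QuotientGroup.eq] at h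
  have := PBasic.eq_one_of_isPGroup_of_coprime S.isPGroup' (mul_mem (inv_mem ha) hb)
    (PBasic.coprime_orderOf_of_mem hN h)
  exact inv_mul_eq_one.1 this

theorem inducedFunctor_map_mk (hN : (Nat.card ↥N).Coprime p)
    {W : ∀ (Q : Type u) [Group Q], Subgroup Q} (hW : IsCharPFunctor.{u} p W) :
    inducedFunctor W ((S : Subgroup G).map (QuotientGroup.mk' N)) =
      (inducedFunctor W (S : Subgroup G)).map (QuotientGroup.mk' N) := by
  have hinj : Function.Injective ((QuotientGroup.mk' N).comp (S : Subgroup G).subtype) :=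
    fun a b hab => Subtype.ext (mk_injOn S hN a.2 b.2 hab)
  have e1 := inducedFunctor_map_of_injective hW (G := ↥(S : Subgroup G)) (P := ⊤)
    (S.isPGroup'.to_subgroup ⊤) hinj
  have e2 := inducedFunctor_map_of_injective hW (G := ↥(S : Subgroup G)) (P := ⊤)
    (S.isPGroup'.to_subgroup ⊤) (f := (S : Subgroup G).subtype) (Subgroup.subtype_injective _)
  rw [← Subgroup.map_map, ← MonoidHom.range_eq_map, Subgroup.range_subtype] at e1
  rw [← MonoidHom.range_eq_map, Subgroup.range_subtype] at e2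
  rw [e1, ← Subgroup.map_map, e2]

theorem ker_mk_coprime (hN : (Nat.card ↥N).Coprime p) :
    (Nat.card ↥(QuotientGroup.mk' N).ker).Coprime p := by rwa [QuotientGroup.ker_mk']

theorem reach_lift_pprime (h𝓦 : ∀ W ∈ 𝓦, IsCharPFunctor.{u} p W) (hN : (Nat.card ↥N).Coprime p)
    {Ab : Set (G ⧸ N)} {gb : G ⧸ N}
    (r : Reach ((S : Subgroup G).map (QuotientGroup.mk' N))
      (stepSet 𝓦 ((S : Subgroup G).map (QuotientGroup.mk' N))) Ab gb) :
    ∀ B : Subgroup G, B ≤ (S : Subgroup G) → QuotientGroup.mk' N '' (B : Set G) ⊆ Ab →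
      ∃ g : G, Reach (S : Subgroup G) (stepSet 𝓦 (S : Subgroup G)) (B : Set G) g ∧
        ∀ b ∈ B, QuotientGroup.mk' N (g * b * g⁻¹) = gb * QuotientGroup.mk' N b * gb⁻¹ := by
  set π := QuotientGroup.mk' N with hπ
  induction r with
  | refl hA hg =>
    intro B hB hBA
    exact ⟨1, .refl hB fun b _ => by group, fun b hb => by
      rw [one_mul, inv_one, mul_one, hg _ (hBA ⟨b, hb, rfl⟩)]⟩
  | @cons Ab nb gb kb hA hn h hk ih =>
    intro B hB hBA
    obtain ⟨_, ⟨_, ⟨W, hW, rfl⟩, rfl⟩, hnW⟩ := hn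
    have hWS : IsPGroup p ↥(inducedFunctor W (S : Subgroup G)) :=
      S.isPGroup'.to_le (Subgroup.map_subtype_le _)
    have hlift : Subgroup.normalizer ((inducedFunctor W ((S : Subgroup G).map π) : Subgroup (G ⧸ N)) : Set (G ⧸ N)) =
        (Subgroup.normalizer ((inducedFunctor W (S : Subgroup G) : Subgroup G) : Set G)).map π := by
      rw [inducedFunctor_map_mk S hN (h𝓦 W hW),
        Cfsg.Agent.PConstr.map_normalizer_eq π (QuotientGroup.mk'_surjective N) (ker_mk_coprime hN) hWS]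
    obtain ⟨n, hnN, rfl⟩ := hlift.le hnW
    set NW := Subgroup.normalizer ((inducedFunctor W (S : Subgroup G) : Subgroup G) : Set G) with hNW
    have hSNW : (S : Subgroup G) ≤ NW :=
      le_normalizer_conjFunctor (inducedFunctor_isConjugacyFunctor (h𝓦 W hW)) S.isPGroup'
    have hnB : B.map (cj n) ≤ ((S : Subgroup G) ⊔ N) ⊓ NW := by
      rintro _ ⟨b, hb, rfl⟩
      refine Subgroup.mem_inf.2 ⟨?_, mul_mem (mul_mem hnN (hSNW (hB hb))) (inv_mem hnN)⟩
      obtain ⟨s, hs, hse⟩ := h.left ⟨_, hBA ⟨b, hb, rfl⟩, rfl⟩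
      have hs' : s⁻¹ * cj n b ∈ N := by
        rw [← QuotientGroup.eq, ← QuotientGroup.mk'_apply, ← QuotientGroup.mk'_apply, ← hπ, hse]
        simp
      have := mul_mem (Subgroup.mem_sup_left (T := N) hs) (Subgroup.mem_sup_right hs')
      rwa [mul_inv_cancel_left] at this
    have hsyl : IsSylowIn p (S : Subgroup G) (((S : Subgroup G) ⊔ N) ⊓ NW) :=
      (isSylowIn_sylow S).of_le (le_inf le_sup_left hSNW) le_top
    obtain ⟨x, hx, hxB⟩ := exists_conj_le_of_isSylowIn hsyl ((S.isPGroup'.to_le hB).map _) hnB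
    obtain ⟨s, hs, m, hm, rfl⟩ := Subgroup.mem_sup_of_normal_right.1 (Subgroup.mem_inf.1 hx).1
    have hmW : m ∈ NW := by simpa using mul_mem (inv_mem (hSNW hs)) (Subgroup.mem_inf.1 hx).2
    have hmB : B.map (cj (m * n)) ≤ (S : Subgroup G) := by
      rintro _ ⟨b, hb, rfl⟩
      have h1 := hxB ⟨_, ⟨b, hb, rfl⟩, rfl⟩
      have h2 := mul_mem (mul_mem (inv_mem hs) h1) hs
      simpa [cj_apply, mul_assoc] using h2
    have himg : π '' ((B.map (cj (m * n)) : Subgroup G) : Set G) ⊆ cj (π n) '' Ab := by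
      rintro _ ⟨_, ⟨b, hb, rfl⟩, rfl⟩
      refine ⟨π b, hBA ⟨b, hb, rfl⟩, ?_⟩
      have hm1 : π m = 1 := (QuotientGroup.eq_one_iff m).2 hm
      simp [hm1]
    obtain ⟨g, rg, hg⟩ := ih (B.map (cj (m * n))) hmB himg
    refine ⟨g * (m * n), .cons hB ⟨_, ⟨_, ⟨W, hW, rfl⟩, rfl⟩, mul_mem hmW hnN⟩
      (by rw [cj_image_coe]; exact rg) (fun _ _ => rfl), fun b hb => ?_⟩
    have hm1 : π m = 1 := (QuotientGroup.eq_one_iff m).2 hm
    have := hg _ ⟨b, hb, rfl⟩
    rw [hk _ (hBA ⟨b, hb, rfl⟩)]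
    calc π (g * (m * n) * b * (g * (m * n))⁻¹) = π (g * cj (m * n) b * g⁻¹) := by
          congr 1; simp only [cj_apply]; group
      _ = gb * π (cj (m * n) b) * gb⁻¹ := this
      _ = _ := by simp [hm1, mul_assoc]

theorem ctlSF_of_pprime (h𝓦 : ∀ W ∈ 𝓦, IsCharPFunctor.{u} p W) (hN : (Nat.card ↥N).Coprime p)
    (h : CtlSF p 𝓦 (G ⧸ N)) : CtlSF p 𝓦 G := by
  obtain ⟨S⟩ : Nonempty (Sylow p G) := inferInstance
  refine familySF_top_of_reach (S := S) fun A g hA hgA => ?_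
  have hle : Subgroup.closure A ≤ (S : Subgroup G) := (Subgroup.closure_le _).2 hA
  have hgle : (Subgroup.closure A).map (cj g) ≤ (S : Subgroup G) := by
    rw [MonoidHom.map_closure, Subgroup.closure_le]; exact hgA
  set π := QuotientGroup.mk' N with hπ
  set Sb : Sylow p (G ⧸ N) := S.mapSurjective (QuotientGroup.mk'_surjective N) with hSb
  have hSb' : (Sb : Subgroup (G ⧸ N)) = (S : Subgroup G).map π := rfl
  have r := reach_of_sfAt (sfAt_top_of_ctl h𝓦 Sb h) (Subgroup.mem_top (π g))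
    (A := π '' ((Subgroup.closure A : Subgroup G) : Set G))
    (by rintro _ ⟨a, ha, rfl⟩; exact ⟨a, hle ha, rfl⟩)
    (by rintro _ ⟨_, ⟨a, ha, rfl⟩, rfl⟩; exact ⟨_, hgle ⟨a, ha, rfl⟩, by simp [hπ]⟩)
  rw [hSb'] at r
  obtain ⟨g', rg, hg'⟩ := reach_lift_pprime S h𝓦 hN r _ hle subset_rfl
  refine (rg.congr fun a ha => ?_).mono Subgroup.subset_closure
  refine mk_injOn S hN (hgle ⟨a, ha, rfl⟩) (rg.right ⟨a, ha, rfl⟩) ?_
  rw [hg' a ha]
  simp [hπ]

theorem ctlTR_of_pprime (h𝓦 : ∀ W ∈ 𝓦, IsCharPFunctor.{u} p W) (hN : (Nat.card ↥N).Coprime p)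
    (h : CtlTR p 𝓦 (G ⧸ N)) : CtlTR p 𝓦 G := by
  obtain ⟨S⟩ : Nonempty (Sylow p G) := inferInstance
  refine (familyTR_iff _ ⊤).2 ⟨(S : Subgroup G), isSylowIn_sylow S,
    le_antisymm (fun x hx => ?_) (transferPart_le _ _ _)⟩
  set π := QuotientGroup.mk' N with hπ
  have hπs : Function.Surjective π := QuotientGroup.mk'_surjective N
  set Sb : Sylow p (G ⧸ N) := S.mapSurjective hπs with hSb
  have hSb' : (Sb : Subgroup (G ⧸ N)) = (S : Subgroup G).map π := rfl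
  have e := tr_top_of_ctl h𝓦 Sb h
  rw [hSb'] at e
  have hle : transferPart (indSet (G ⧸ N) 𝓦) ⊤ ((S : Subgroup G).map π) ≤
      (transferPart (indSet G 𝓦) ⊤ (S : Subgroup G)).map π := by
    refine iSup₂_le ?_
    rintro _ ⟨W, hW, rfl⟩
    set NW := Subgroup.normalizer ((inducedFunctor W (S : Subgroup G) : Subgroup G) : Set G) with hNW
    have hWS : IsPGroup p ↥(inducedFunctor W (S : Subgroup G)) :=
      S.isPGroup'.to_le (Subgroup.map_subtype_le _)
    simp only [hπ]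
    rw [inducedFunctor_map_mk S hN (h𝓦 W hW), top_inf_eq,
      ← Cfsg.Agent.PConstr.map_normalizer_eq π hπs (ker_mk_coprime hN) hWS, ← Subgroup.map_commutator]
    rintro _ ⟨⟨y, hy, rfl⟩, c, hc, hce⟩
    refine ⟨y, Subgroup.mem_iSup_of_mem (inducedFunctor (G := G) W) (Subgroup.mem_iSup_of_mem ⟨W, hW, rfl⟩
      (Subgroup.mem_inf.2 ⟨hy, ?_⟩)), rfl⟩
    rw [top_inf_eq]
    have hSNW : (S : Subgroup G) ≤ NW :=
      le_normalizer_conjFunctor (inducedFunctor_isConjugacyFunctor (h𝓦 W hW)) S.isPGroup'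
    have hcNW : c ∈ NW := Subgroup.commutator_le_self NW hc
    let φ := Abelianization.of (G := ↥NW)
    set y' : ↥NW := ⟨y, hSNW hy⟩
    have hmN : c⁻¹ * y ∈ N := by
      rw [← QuotientGroup.eq]
      exact hce
    have hcd : (⟨c, hcNW⟩ : ↥NW) ∈ commutator ↥NW := by
      obtain ⟨c', hc', ec⟩ := (Subgroup.map_subtype_commutator NW).ge hc
      rwa [show (⟨c, hcNW⟩ : ↥NW) = c' from Subtype.ext ec.symm]
    have h1 : φ y' = φ ⟨c⁻¹ * y, mul_mem (inv_mem hcNW) (hSNW hy)⟩ := by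
      conv_lhs => rw [show y' = ⟨c, hcNW⟩ * ⟨c⁻¹ * y, mul_mem (inv_mem hcNW) (hSNW hy)⟩ from
        Subtype.ext (mul_inv_cancel_left c y).symm, map_mul]
      rw [show φ ⟨c, hcNW⟩ = 1 from (QuotientGroup.eq_one_iff _).2 hcd, one_mul]
    obtain ⟨k, hk⟩ := S.isPGroup' ⟨y, hy⟩
    have h2 : orderOf (φ y') ∣ p ^ k :=
      orderOf_dvd_of_pow_eq_one (by rw [← map_pow, show y' ^ p ^ k = 1 from Subtype.ext (congrArg Subtype.val hk :), map_one])
    have h3 : orderOf (φ y') ∣ Nat.card ↥N := by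
      rw [h1]
      refine (orderOf_map_dvd φ _).trans ?_
      rw [Subgroup.orderOf_mk]
      exact (Subgroup.orderOf_mk (c⁻¹ * y) hmN).symm.dvd.trans (orderOf_dvd_natCard _)
    have h4 := Nat.dvd_gcd h3 h2
    rw [(hN.pow_right k).gcd_eq_one, Nat.dvd_one, orderOf_eq_one_iff] at h4
    rw [← Subgroup.map_subtype_commutator]
    exact ⟨y', (QuotientGroup.eq_one_iff y').1 h4, rfl⟩
  obtain ⟨hxS, hxc⟩ := Subgroup.mem_inf.1 hx
  have hπx : π x ∈ (S : Subgroup G).map π ⊓ ⁅(⊤ : Subgroup (G ⧸ N)), ⊤⁆ := by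
    refine Subgroup.mem_inf.2 ⟨⟨x, hxS, rfl⟩, ?_⟩
    rw [← Subgroup.map_top_of_surjective π hπs, ← Subgroup.map_commutator]
    exact ⟨x, hxc, rfl⟩
  rw [e] at hπx
  obtain ⟨y, hy, hye⟩ := hle hπx
  rwa [← mk_injOn S hN (transferPart_le _ _ _ hy).1 hxS hye]

end pprime

end Cfsg.Agent.Functors
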