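import Cfsg.Agent.Lib.Functors.NPC
import Cfsg.Agent.Lib.Functors.SectionApps
import Cfsg.Agent.Lib.Functors.PStableFusion

/-!
The final cases of the normal `p`-complement criteria.
-/

set_option autoImplicit false
set_option linter.style.haveILetI false
set_option linter.unusedSectionVars false

namespace Cfsg.Agent.FunctorNPC

open Cfsg Cfsg.Agent Cfsg.Agent.Functors

universe u

variable {p : ℕ} [hp : Fact p.Prime] {W : ∀ (Q : Type u) [Group Q], Subgroup Q}
  {G : Type u} [Group G] [Finite G]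

theorem npc_of_normal {Y : Type u} [Group Y] [Finite Y] {A : Subgroup Y} (hA : A.Normal)
    (h : Cfsg.HasNormalPComplement p (Subgroup.normalizer (A : Set Y))) : Cfsg.HasNormalPComplement p Y := by
  rw [Subgroup.normalizer_eq_top, PBasic.hasNormalPComplement_congr Subgroup.topEquiv] at h
  exact h

theorem quotient_pCore_npc_congr {X Y : Type u} [Group X] [Group Y] [Finite X] [Finite Y] (e : X ≃* Y)
    (h : Cfsg.HasNormalPComplement p (Y ⧸ Cfsg.pCore p Y)) :
    Cfsg.HasNormalPComplement p (X ⧸ Cfsg.pCore p X) := by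
  have e' : X ⧸ Cfsg.pCore p X ≃* Y ⧸ Cfsg.pCore p Y :=
    QuotientGroup.congr _ _ e (PBasic.map_pCore_equiv e)
  exact (PBasic.hasNormalPComplement_congr e').2 h

theorem coe_mapSylow {X Y : Type u} [Group X] [Group Y] [Finite X] [Finite Y] (e : X ≃* Y) (S : Sylow p Y) :
    ((S.mapSurjective (f := e.symm.toMonoidHom) e.symm.surjective : Sylow p X) : Subgroup X).map e.toMonoidHom =
      (S : Subgroup Y) := by
  change ((S : Subgroup Y).map e.symm.toMonoidHom).map e.toMonoidHom = _
  rw [Subgroup.map_map]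
  convert Subgroup.map_id _
  ext; simp

theorem isCoatom_mapSylow {X Y : Type u} [Group X] [Group Y] [Finite X] [Finite Y] (e : X ≃* Y)
    {S : Sylow p Y} (h : IsCoatom (S : Subgroup Y)) :
    IsCoatom ((S.mapSurjective (f := e.symm.toMonoidHom) e.symm.surjective : Sylow p X) : Subgroup X) := by
  change IsCoatom ((S : Subgroup Y).map e.symm.toMonoidHom)
  exact (OrderIso.isCoatom_iff (MulEquiv.mapSubgroup e.symm) _).2 h

/-- S2005. -/
theorem hasNormalPComplement_of_coatom_normal (hW : IsCharPFunctor.{u} p W)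
    (hloc : ∀ (K R : Subgroup G) [(R.subgroupOf K).Normal], PConstr p (↥K ⧸ R.subgroupOf K) →
      Cfsg.HasNormalPComplement p ((↥K ⧸ R.subgroupOf K) ⧸ Cfsg.pCore p (↥K ⧸ R.subgroupOf K)) →
      ∀ T : Sylow p (↥K ⧸ R.subgroupOf K), IsCoatom (T : Subgroup (↥K ⧸ R.subgroupOf K)) →
        (inducedFunctor W (T : Subgroup (↥K ⧸ R.subgroupOf K))).Normal)
    (S : Sylow p G)
    (hN : Cfsg.HasNormalPComplement p (Subgroup.normalizer (inducedFunctor W (S : Subgroup G) : Set G))) :
    Cfsg.HasNormalPComplement p G := by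
  refine hasNormalPComplement_of_finalCase hW G (fun Y _ _ hY hC hbar _ T hT hNT => npc_of_normal ?_ hNT) S hN
  obtain ⟨K, R, hR, ⟨e⟩⟩ := hY.exists_equiv
  set T' := T.mapSurjective (f := e.symm.toMonoidHom) e.symm.surjective with hT'
  have hn := hloc K R (pConstr_congr e hC) (quotient_pCore_npc_congr e hbar) T' (isCoatom_mapSylow e hT)
  have h := inducedFunctor_map_of_injective hW T'.isPGroup' (f := e.toMonoidHom) e.injective
  rw [hT', coe_mapSylow e T] at h
  rw [h]
  exact hn.map _ e.surjective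

/-- S2006. -/
theorem hasNormalPComplement_of_kills (hW : IsCharPFunctor.{u} p W)
    (hloc : ∀ (K R : Subgroup G) [(R.subgroupOf K).Normal], PConstr p (↥K ⧸ R.subgroupOf K) →
      ∀ T : Sylow p (↥K ⧸ R.subgroupOf K), ¬ (inducedFunctor W (T : Subgroup (↥K ⧸ R.subgroupOf K))).Normal →
        ∃ g : ↥K ⧸ R.subgroupOf K, ∃ U V : Subgroup (↥K ⧸ R.subgroupOf K), IsChiefFactor U V ∧
          U ≤ Cfsg.pCore p (↥K ⧸ R.subgroupOf K) ∧
          iterCommutator U (Subgroup.zpowers g) (p - 1) ≤ V ∧ ¬ ⁅U, Subgroup.zpowers g⁆ ≤ V)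
    (S : Sylow p G)
    (hN : Cfsg.HasNormalPComplement p (Subgroup.normalizer (inducedFunctor W (S : Subgroup G) : Set G))) :
    Cfsg.HasNormalPComplement p G := by
  refine hasNormalPComplement_of_finalCase hW G (fun Y _ _ hY hC _ hA T _ hNT => npc_of_normal ?_ hNT) S hN
  obtain ⟨K, R, hR, ⟨e⟩⟩ := hY.exists_equiv
  set T' := T.mapSurjective (f := e.symm.toMonoidHom) e.symm.surjective with hT'
  have h := inducedFunctor_map_of_injective hW T'.isPGroup' (f := e.toMonoidHom) e.injective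
  rw [hT', coe_mapSylow e T] at h
  rw [h]
  refine Subgroup.Normal.map (by_contra fun hn => ?_) _ e.surjective
  obtain ⟨g, U, V, hUV, hU, hk, hne⟩ := hloc K R (pConstr_congr e hC) T' hn
  haveI : (Cfsg.pCore p (↥K ⧸ R.subgroupOf K)).Normal := Cfsg.pCore_normal p _
  exact hne (AbelTop.commutator_le_of_kills (hA.of_injective (f := e.toMonoidHom) e.injective)
    (PBasic.pCore_isPGroup p _) hUV hU hk)

/-- Strong control of fusion by a subgroup whose normalizer has a normal `p`-complement. -/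
theorem npc_of_controlsStrongFusion {X : Type u} [Group X] [Finite X] {U : Subgroup X}
    (T₀ : Sylow p X) (hU₀ : U ≤ (T₀ : Subgroup X))
    (hT₀ : (T₀ : Subgroup X) ≤ Subgroup.normalizer (U : Set X))
    (hctl : Cfsg.ControlsStrongFusion p U)
    (hN : Cfsg.HasNormalPComplement p (Subgroup.normalizer (U : Set X))) :
    Cfsg.HasNormalPComplement p X := by
  obtain ⟨T, hUT, hfus⟩ := hctl
  have hTle : (T : Subgroup X) ≤ Subgroup.normalizer (U : Set X) := by
    obtain ⟨h, -, hh⟩ := exists_conj_eq_of_isSylowIn (isSylowIn_sylow T) (isSylowIn_sylow T₀)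
    obtain ⟨x, hx, hxa⟩ := (hfus (U : Set X) hUT).2 h (by
      rintro _ ⟨u, hu, rfl⟩; exact hh.le ⟨u, hU₀ hu, rfl⟩)
    have hhN : h ∈ Subgroup.normalizer (U : Set X) := by
      rw [← map_cj_eq_iff]
      refine Subgroup.eq_of_le_of_card_ge ?_ (card_map_cj _ _).ge
      rintro _ ⟨u, hu, rfl⟩
      show h * u * h⁻¹ ∈ U
      rw [hxa u hu]
      exact (Subgroup.mem_normalizer_iff.1 hx u).1 hu
    rw [← hh]
    exact le_map_cj_normalizer hhN hT₀
  refine Fusion.hasNormalPComplement_of_frobenius fun D hD g hg hgo => ?_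
  obtain ⟨n, -, hn⟩ := exists_conj_le_of_isSylowIn (isSylowIn_sylow T) hD le_top
  set A := D.map (cj n) with hA
  have hgA : n * g * n⁻¹ ∈ Subgroup.normalizer (A : Set X) := by
    rw [hA, ← map_cj_normalizer]
    exact ⟨g, hg, rfl⟩
  set g' := n * g * n⁻¹ with hg'
  have hg'o : (orderOf g').Coprime p := by
    rwa [hg', ← cj_apply, orderOf_injective (cj n) (cj_injective n)]
  obtain ⟨-, hfusA⟩ := hfus (A : Set X) hn
  obtain ⟨x, hxN, hxa⟩ := hfusA g' (by
    rintro _ ⟨a, ha, rfl⟩; exact hn ((Subgroup.mem_normalizer_iff.1 hgA a).1 ha))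
  set N := Subgroup.normalizer (U : Set X) with hNdef
  have hTN : (T : Subgroup X) ⊓ N ≤ N := inf_le_right
  have hAN : A ≤ Subgroup.normalizer (A : Set X) := Subgroup.le_normalizer
  have hxA : x ∈ Subgroup.normalizer (A : Set X) := by
    rw [← map_cj_eq_iff]
    refine Subgroup.eq_of_le_of_card_ge ?_ (card_map_cj _ _).ge
    rintro _ ⟨a, ha, rfl⟩
    show x * a * x⁻¹ ∈ A
    rw [← hxa a ha]
    exact (Subgroup.mem_normalizer_iff.1 hgA a).1 ha
  have hpow : ∀ (i : ℕ), ∀ a ∈ A, x ^ i * a * (x ^ i)⁻¹ = g' ^ i * a * (g' ^ i)⁻¹ := by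
    intro i
    induction i with
    | zero => intro a _; simp
    | succ i ih =>
      intro a ha
      have ha' : g' * a * g'⁻¹ ∈ A := (Subgroup.mem_normalizer_iff.1 hgA a).1 ha
      calc x ^ (i + 1) * a * (x ^ (i + 1))⁻¹ = x ^ i * (x * a * x⁻¹) * (x ^ i)⁻¹ := by rw [pow_succ]; group
        _ = g' ^ i * (g' * a * g'⁻¹) * (g' ^ i)⁻¹ := by rw [← hxa a ha, ih _ ha']
        _ = g' ^ (i + 1) * a * (g' ^ (i + 1))⁻¹ := by rw [pow_succ]; group
  obtain ⟨k, m, hm, hkm⟩ := Nat.exists_eq_pow_mul_and_not_dvd (orderOf_pos x).ne' p hp.out.ne_one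
  obtain ⟨j, hj⟩ := exists_pow_eq_self_of_coprime (n := p ^ k) (x := g')
    (Nat.Coprime.pow_left k (Nat.coprime_comm.1 hg'o))
  set v := x ^ (p ^ k * j) with hv
  have hvo : (orderOf v).Coprime p := by
    refine Nat.Coprime.coprime_dvd_left (orderOf_dvd_of_pow_eq_one (n := m) ?_)
      ((hp.out.coprime_iff_not_dvd.2 hm).symm)
    rw [hv, ← pow_mul, show p ^ k * j * m = (p ^ k * m) * j by ring, ← hkm, pow_mul, pow_orderOf_eq_one,
      one_pow]
  have hvN : v ∈ N := pow_mem hxN _
  have hvA : v ∈ Subgroup.normalizer (A : Set X) := pow_mem hxA _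
  have hUN : (T : Subgroup X) ⊓ N ≤ N := inf_le_right
  have hgv : ∀ a ∈ A, v * a * v⁻¹ = g' * a * g'⁻¹ := fun a ha => by
    rw [hv, hpow _ a ha, pow_mul, hj]
  -- inside `N` the element `v` lies in the complement, and acts trivially
  have hvc : ∀ a ∈ A, v * a * v⁻¹ = a := by
    intro a ha
    by_cases haN : a ∈ N
    · set L := A ⊓ N with hL
      have hLp : IsPGroup p ↥(L.subgroupOf N) := ((hD.map _).to_le inf_le_left).comap_subtype
      have hLn : (⟨v, hvN⟩ : ↥N) ∈ Subgroup.normalizer ((L.subgroupOf N : Subgroup ↥N) : Set ↥N) := by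
        refine Subgroup.mem_normalizer_iff.2 fun z => ?_
        simp only [Subgroup.mem_subgroupOf, Subgroup.coe_mul, InvMemClass.coe_inv, hL, Subgroup.mem_inf]
        rw [Subgroup.mem_normalizer_iff.1 hvA (z : X)]
        exact and_congr_right fun _ => Subgroup.mem_normalizer_iff.1 (Subgroup.le_normalizer hvN) (z : X)
      have h1 := Fusion.mem_centralizer_of_hasNormalPComplement hLp
        (PBasic.hasNormalPComplement_subgroup _ hN) hLn (by rwa [Subgroup.orderOf_mk])
      have h2 := congrArg Subtype.val (Subgroup.mem_centralizer_iff.1 h1 ⟨a, haN⟩ (by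
        simp [Subgroup.mem_subgroupOf, hL, ha, haN]))
      simp only [Subgroup.coe_mul] at h2
      exact mul_inv_eq_iff_eq_mul.2 h2.symm
    · exact absurd (hTle (hn ha)) haN
  intro d hd
  have h := hgv _ ⟨d, hd, rfl⟩
  rw [hvc _ ⟨d, hd, rfl⟩, hg', cj_apply] at h
  have h3 : g * d * g⁻¹ = d := by
    have h4 : n * d * n⁻¹ = n * (g * d * g⁻¹) * n⁻¹ := by rw [h]; group
    exact (mul_left_cancel (mul_right_cancel h4)).symm
  exact (mul_inv_eq_iff_eq_mul.1 h3).symm

/-- S1990. -/
theorem hasNormalPComplement_of_pStable_ctl (hp2 : p ≠ 2) (hW : IsCharPFunctor.{u} p W)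
    (hctl : ∀ (K R : Subgroup G) [(R.subgroupOf K).Normal],
      (∀ (K' R' : Subgroup (↥K ⧸ R.subgroupOf K)) [(R'.subgroupOf K').Normal],
        IsNormalizerPStable p (↥K' ⧸ R'.subgroupOf K')) →
      ∀ T : Sylow p (↥K ⧸ R.subgroupOf K),
        Cfsg.ControlsStrongFusion p (inducedFunctor W (T : Subgroup (↥K ⧸ R.subgroupOf K))))
    (S : Sylow p G)
    (hN : Cfsg.HasNormalPComplement p (Subgroup.normalizer (inducedFunctor W (S : Subgroup G) : Set G))) :
    Cfsg.HasNormalPComplement p G := by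
  refine hasNormalPComplement_of_finalCase hW G (fun Y _ _ hY _ _ hA T _ hNT => ?_) S hN
  obtain ⟨K, R, hR, ⟨e⟩⟩ := hY.exists_equiv
  set T' := T.mapSurjective (f := e.symm.toMonoidHom) e.symm.surjective with hT'
  have hX : AbelTop.IsAbelTop p (↥K ⧸ R.subgroupOf K) := hA.of_injective (f := e.toMonoidHom) e.injective
  have hfun := inducedFunctor_isConjugacyFunctor (G := ↥K ⧸ R.subgroupOf K) hW
  have hc := hctl K R (fun K' R' _ => ((hX.of_injective K'.subtype_injective).of_surjective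
    (QuotientGroup.mk'_surjective _)).isNormalizerPStable hp2) T'
  refine (PBasic.hasNormalPComplement_congr e).1
    (npc_of_controlsStrongFusion T' (conjFunctor_le hfun T'.isPGroup')
      (le_normalizer_conjFunctor hfun T'.isPGroup') hc ?_)
  refine ThompsonNPC.npc_normalizer_of_injective e.toMonoidHom e.injective _ ?_
  rw [← inducedFunctor_map_of_injective hW T'.isPGroup' (f := e.toMonoidHom) e.injective, hT', coe_mapSylow e T]
  exact hNT

end Cfsg.Agent.FunctorNPC
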