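import Cfsg.Agent.Lib.Functors.OrbitZero
import Cfsg.Agent.Lib.Functors.ChiefP
import Cfsg.Agent.Lib.Functors.MinTransfer

/-!
Sums over cosets of a subgroup that contains a weakly closed subgroup moving every other coset,
and central lifts of elements fixed by such a subgroup.
-/

set_option autoImplicit false
set_option linter.style.haveILetI false
set_option linter.unusedSectionVars false

namespace Cfsg.Agent.OrbitFix

open Cfsg
open scoped commutatorElement

universe u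

variable {G : Type u} [Group G] [Finite G] {p : ℕ} [Fact p.Prime]

/-- The sum over all cosets of `M` is the value at the base coset. -/
theorem sum_eq_base {W : Type*} [AddCommGroup W] [Module (ZMod p) W]
    (ρ : G →* Module.End (ZMod p) W) {M E : Subgroup G} (hE : IsPGroup p ↥E) {Δ : Set G}
    (hΔE : E = Subgroup.closure Δ) (hΔ : ∀ u ∈ Δ, (1 - ρ u) ^ (p - 1) = 0) (hEM : E ≤ M)
    (hmove : ∀ g : G, (∀ e ∈ E, g⁻¹ * e * g ∈ M) → g ∈ M) [Fintype (G ⧸ M)]
    (f : G ⧸ M → W) (hf : ∀ (g : G) (c : G ⧸ M), f (g • c) = ρ g (f c)) :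
    ∑ c, f c = f ((1 : G) : G ⧸ M) := by
  classical
  have hc0 : ∀ m ∈ M, m • ((1 : G) : G ⧸ M) = ((1 : G) : G ⧸ M) := by
    intro m hm
    rw [MulAction.Quotient.smul_mk, smul_eq_mul, mul_one, QuotientGroup.eq]
    simpa using hm
  suffices hzero : ∑ c ∈ Finset.univ.erase ((1 : G) : G ⧸ M), f c = 0 by
    rw [← Finset.add_sum_erase _ _ (Finset.mem_univ ((1 : G) : G ⧸ M)), hzero, add_zero]
  haveI : Fintype (Quotient (MulAction.orbitRel ↥E (G ⧸ M))) := Fintype.ofFinite _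
  rw [← Finset.sum_fiberwise (Finset.univ.erase ((1 : G) : G ⧸ M))
    (Quotient.mk (MulAction.orbitRel ↥E (G ⧸ M))) f]
  refine Finset.sum_eq_zero fun q _ => ?_
  rcases (Finset.filter (fun c => Quotient.mk (MulAction.orbitRel ↥E (G ⧸ M)) c = q)
    (Finset.univ.erase ((1 : G) : G ⧸ M))).eq_empty_or_nonempty with h | ⟨c₀, hc₀⟩
  · rw [h, Finset.sum_empty]
  obtain ⟨hne₀, hq₀⟩ := Finset.mem_filter.1 hc₀
  have hne₀' := (Finset.mem_erase.1 hne₀).1
  have hstab : MulAction.stabilizer ↥E c₀ ≠ ⊤ := by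
    intro htop
    induction c₀ using QuotientGroup.induction_on with
    | _ g =>
      refine hne₀' ?_
      rw [QuotientGroup.eq, mul_one]
      refine inv_mem (hmove g fun e he => ?_)
      have h1 : (⟨e, he⟩ : ↥E) • (QuotientGroup.mk g : G ⧸ M) = QuotientGroup.mk g :=
        MulAction.mem_stabilizer_iff.1 (htop ▸ Subgroup.mem_top _)
      replace h1 : e • (QuotientGroup.mk g : G ⧸ M) = QuotientGroup.mk g := h1
      rw [MulAction.Quotient.smul_mk, smul_eq_mul, QuotientGroup.eq] at h1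
      simpa [mul_assoc] using inv_mem h1
  obtain ⟨E₂, hE₂, hle₂⟩ := (eq_top_or_exists_le_coatom (MulAction.stabilizer ↥E c₀)).resolve_left hstab
  haveI := hE.isNilpotent
  haveI : E₂.Normal := Subgroup.NormalizerCondition.normal_of_coatom E₂
    (Group.normalizerCondition_of_isNilpotent (G := ↥E)) hE₂
  obtain ⟨u, huΔ, huE, hu2⟩ : ∃ u ∈ Δ, ∃ h : u ∈ E, (⟨u, h⟩ : ↥E) ∉ E₂ := by
    by_contra hc
    push Not at hc
    refine hE₂.1 (eq_top_iff.2 fun z _ => ?_)
    have hle : E ≤ E₂.map E.subtype := by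
      conv_lhs => rw [hΔE]
      rw [Subgroup.closure_le]
      intro v hv
      have hvE : v ∈ E := hΔE ▸ Subgroup.subset_closure hv
      exact ⟨⟨v, hvE⟩, hc v hv hvE, rfl⟩
    obtain ⟨w, hw, hwz⟩ := hle z.2
    rwa [show w = z from Subtype.ext hwz] at hw
  obtain ⟨k, hk⟩ := hE ⟨u, huE⟩
  have huk : u ^ p ^ k = 1 := congrArg Subtype.val hk
  refine OrbitZero.sum_eq_zero_of_no_fixed (p := p) (k := k) (Fact.out : p.Prime)
    (π := fun c : G ⧸ M => u • c) (σ := (ρ u).toAddMonoidHom) ?_ (fun c => hf u c) ?_ _ ?_ ?_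
  · intro c
    simp [smul_iterate, huk]
  · intro c
    have h1 := LinearMap.congr_fun (OrbitZero.sum_pow_eq_neg_one_pow_mul (p := p) (ρ u)) (f c)
    rw [hΔ u huΔ, mul_zero, LinearMap.sum_apply, LinearMap.zero_apply] at h1
    refine Eq.trans (Finset.sum_congr rfl fun i _ => ?_) h1
    rw [Module.End.coe_pow]
    rfl
  · intro c hc
    obtain ⟨hc1, hc2⟩ := Finset.mem_filter.1 hc
    refine Finset.mem_filter.2 ⟨Finset.mem_erase.2 ⟨fun h => (Finset.mem_erase.1 hc1).1 ?_,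
      Finset.mem_univ _⟩, hc2 ▸ Quotient.sound ⟨(⟨u, huE⟩ : ↥E), rfl⟩⟩
    have h' : u⁻¹ • (u • c) = u⁻¹ • ((1 : G) : G ⧸ M) := congrArg (u⁻¹ • ·) h
    rwa [inv_smul_smul, hc0 u⁻¹ (inv_mem (hEM huE))] at h'
  · intro c hc h
    obtain ⟨hc1, hc2⟩ := Finset.mem_filter.1 hc
    obtain ⟨e, he⟩ : ∃ e : ↥E, e • c₀ = c := Quotient.exact (hc2.trans hq₀.symm)
    have hfix : (⟨u, huE⟩ : ↥E) • c = c := h
    rw [← he] at hfix
    have hmem : e⁻¹ * ((⟨u, huE⟩ : ↥E) * e) ∈ E₂ := hle₂ (MulAction.mem_stabilizer_iff.2 (by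
      rw [mul_smul, mul_smul, hfix, inv_smul_smul]))
    refine hu2 ?_
    have h2 := (inferInstance : E₂.Normal).conj_mem _ hmem e
    simpa [mul_assoc] using h2

/-- The same for a family of additive maps. -/
theorem sum_eq_base_mod {A : Type*} [AddCommGroup A] [Module (ZMod p) A] (ρ : G → A →+ A)
    (hone : ∀ a, ρ 1 a = a) (hmul : ∀ g h a, ρ (g * h) a = ρ g (ρ h a)) {M E : Subgroup G}
    (hE : IsPGroup p ↥E) {Δ : Set G} (hΔE : E = Subgroup.closure Δ)
    (hΔ : ∀ u ∈ Δ, ∀ a : A, (fun b => b - ρ u b)^[p - 1] a = 0) (hEM : E ≤ M)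
    (hmove : ∀ g : G, (∀ e ∈ E, g⁻¹ * e * g ∈ M) → g ∈ M) [Fintype (G ⧸ M)]
    (f : G ⧸ M → A) (hf : ∀ (g : G) (c : G ⧸ M), f (g • c) = ρ g (f c)) :
    ∑ c, f c = f ((1 : G) : G ⧸ M) := by
  let r : G →* Module.End (ZMod p) A :=
    { toFun := fun g => (ρ g).toZModLinearMap p
      map_one' := LinearMap.ext hone
      map_mul' := fun g h => LinearMap.ext (hmul g h) }
  refine sum_eq_base r hE hΔE (fun u hu => LinearMap.ext fun a => ?_) hEM hmove f hf
  rw [Module.End.coe_pow, LinearMap.zero_apply]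
  exact hΔ u hu a

/-- The same for an additive group of exponent `p`, without a module structure in sight. -/
theorem sum_eq_base' {A : Type*} [AddCommGroup A] (hA : ∀ a : A, p • a = 0) (ρ : G → A →+ A)
    (hone : ∀ a, ρ 1 a = a) (hmul : ∀ g h a, ρ (g * h) a = ρ g (ρ h a)) {M E : Subgroup G}
    (hE : IsPGroup p ↥E) {Δ : Set G} (hΔE : E = Subgroup.closure Δ)
    (hΔ : ∀ u ∈ Δ, ∀ a : A, (fun b => b - ρ u b)^[p - 1] a = 0) (hEM : E ≤ M)
    (hmove : ∀ g : G, (∀ e ∈ E, g⁻¹ * e * g ∈ M) → g ∈ M) [Fintype (G ⧸ M)]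
    (f : G ⧸ M → A) (hf : ∀ (g : G) (c : G ⧸ M), f (g • c) = ρ g (f c)) :
    ∑ c, f c = f ((1 : G) : G ⧸ M) :=
  @sum_eq_base_mod G _ _ p _ A _ (AddCommGroup.zmodModule hA) ρ hone hmul M E hE Δ hΔE hΔ hEM hmove _ f hf

/-- Exponent of a chief factor inside an abelian normal `p`-subgroup. -/
theorem pow_mem_of_chief {U V : Subgroup G} (h : IsChiefFactor U V) (hab : ⁅U, U⁆ = ⊥)
    (hU : IsPGroup p ↥U) {x : G} (hx : x ∈ U) : x ^ p ∈ V := by
  obtain ⟨hlt, hUn, hVn, hmin⟩ := h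
  have hcomm : ∀ a ∈ U, ∀ b ∈ U, Commute a b := fun a ha b hb => by
    rw [← commutatorElement_eq_one_iff_commute, ← Subgroup.mem_bot, ← hab]
    exact Subgroup.commutator_mem_commutator ha hb
  let W : Subgroup G :=
    { carrier := {a | a ∈ U ∧ a ^ p ∈ V}
      one_mem' := ⟨one_mem _, by simp⟩
      mul_mem' := fun {a b} ha hb => ⟨mul_mem ha.1 hb.1, by
        rw [(hcomm a ha.1 b hb.1).mul_pow]; exact mul_mem ha.2 hb.2⟩
      inv_mem' := fun {a} ha => ⟨inv_mem ha.1, by rw [inv_pow]; exact inv_mem ha.2⟩ }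
  have hWn : W.Normal := ⟨fun a ha g => ⟨hUn.conj_mem a ha.1 g, by
    rw [conj_pow]; exact hVn.conj_mem _ ha.2 g⟩⟩
  rcases hmin W hWn (fun a ha => ⟨hlt.le ha, pow_mem ha p⟩) (fun a ha => ha.1) with e | e
  · exfalso
    obtain ⟨a, haU, haV⟩ := SetLike.exists_of_lt hlt
    obtain ⟨k, hk⟩ := hU ⟨a, haU⟩
    have hk' : a ^ p ^ k = 1 := congrArg Subtype.val hk
    have : ∀ j, a ^ p ^ j ∈ V → a ∈ V := by
      intro j
      induction j with
      | zero => simp
      | succ j ih =>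
        intro hj
        refine ih (e ▸ (show a ^ p ^ j ∈ W from ⟨pow_mem haU _, ?_⟩))
        rw [← pow_mul, ← pow_succ]
        exact hj
    exact haV (this k (hk' ▸ one_mem _))
  · exact (e.ge hx).2

/-- An element fixed by `M` is, modulo `V`, a central element. -/
theorem exists_central_congr {U V : Subgroup G} [hU : U.Normal] [hV : V.Normal] (hab : ⁅U, U⁆ = ⊥)
    (hpow : ∀ x ∈ U, x ^ p ∈ V) {M E : Subgroup G} (hE : IsPGroup p ↥E) {Δ : Set G}
    (hΔE : E = Subgroup.closure Δ) (hΔ : ∀ u ∈ Δ, ∀ x ∈ U, (ChiefAct.dg u)^[p - 1] x ∈ V)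
    (hEM : E ≤ M) (hmove : ∀ g : G, (∀ e ∈ E, g⁻¹ * e * g ∈ M) → g ∈ M) {y : G} (hy : y ∈ U)
    (hM : ∀ m ∈ M, m * y * m⁻¹ = y) :
    ∃ z ∈ U, (∀ g : G, g * z * g⁻¹ = z) ∧ y⁻¹ * z ∈ V := by
  classical
  letI : CommGroup ↥U :=
    { (inferInstance : Group ↥U) with
      mul_comm := fun a b => Subtype.ext (show Commute (a : G) b by
        rw [← commutatorElement_eq_one_iff_commute, ← Subgroup.mem_bot, ← hab]
        exact Subgroup.commutator_mem_commutator a.2 b.2) }
  set V' : Subgroup ↥U := V.subgroupOf U with hV'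
  let φ : G → (↥U ⧸ V' →* ↥U ⧸ V') := fun g =>
    QuotientGroup.map V' V' (MulAut.conjNormal (H := U) g).toMonoidHom (fun x hx => by
      rw [Subgroup.mem_comap]
      change ((MulAut.conjNormal g x : ↥U) : G) ∈ V
      rw [MulAut.conjNormal_apply]
      exact hV.conj_mem _ hx g)
  have hφ : ∀ (g : G) (x : ↥U), φ g (x : ↥U ⧸ V') = ((MulAut.conjNormal g x : ↥U) : ↥U ⧸ V') :=
    fun _ _ => rfl
  have hexp : ∀ q : Additive (↥U ⧸ V'), p • q = 0 := fun q => by
    refine Additive.toMul.injective ?_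
    rw [toMul_nsmul, toMul_zero]
    induction (Additive.toMul q) using QuotientGroup.induction_on with
    | _ x =>
      rw [← QuotientGroup.mk_pow, QuotientGroup.eq_one_iff]
      exact hpow _ x.2
  let ρ : G → Additive (↥U ⧸ V') →+ Additive (↥U ⧸ V') := fun g => (φ g).toAdditive
  have hρ : ∀ (g : G) (x : ↥U), ρ g (Additive.ofMul (x : ↥U ⧸ V')) =
      Additive.ofMul ((MulAut.conjNormal g x : ↥U) : ↥U ⧸ V') := fun _ _ => rfl
  have hone : ∀ a, ρ 1 a = a := fun q => by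
    obtain ⟨q, rfl⟩ := (Additive.ofMul (α := ↥U ⧸ V')).surjective q
    induction q using QuotientGroup.induction_on with
    | _ x => simp [hρ]
  have hmul : ∀ g h a, ρ (g * h) a = ρ g (ρ h a) := fun g h q => by
    obtain ⟨q, rfl⟩ := (Additive.ofMul (α := ↥U ⧸ V')).surjective q
    induction q using QuotientGroup.induction_on with
    | _ x => simp [hρ]
  have hΔ' : ∀ u ∈ Δ, ∀ a, (fun b => b - ρ u b)^[p - 1] a = 0 := by
    intro u hu
    have key : ∀ (n : ℕ) (x : ↥U), (fun b => b - ρ u b)^[n] (Additive.ofMul (x : ↥U ⧸ V')) =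
        Additive.ofMul ((⟨(ChiefAct.dg u)^[n] x, ChiefAct.dg_iterate_mem x.2 n⟩ : ↥U) : ↥U ⧸ V') := by
      intro n
      induction n with
      | zero => intro x; rfl
      | succ n ih =>
        intro x
        rw [Function.iterate_succ_apply', ih, hρ, ← ofMul_div, ← QuotientGroup.mk_div]
        congr 2
        refine Subtype.ext ?_
        rw [Subgroup.coe_div, MulAut.conjNormal_apply, div_eq_mul_inv]
        simp only [Function.iterate_succ_apply', ChiefAct.dg, commutatorElement_def]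
        group
    intro q
    obtain ⟨q, rfl⟩ := (Additive.ofMul (α := ↥U ⧸ V')).surjective q
    induction q using QuotientGroup.induction_on with
    | _ x =>
      rw [key, ← ofMul_one]
      congr 1
      rw [QuotientGroup.eq_one_iff]
      exact hΔ u hu _ x.2
  haveI : Fintype (G ⧸ M) := Fintype.ofFinite _
  let f₀ : G ⧸ M → ↥U := fun c => Quotient.liftOn' c
    (fun g => MulAut.conjNormal g (⟨y, hy⟩ : ↥U)) fun g k h => by
      have h' := hM _ (QuotientGroup.leftRel_apply.1 h)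
      refine Subtype.ext ?_
      simp only [MulAut.conjNormal_apply]
      conv_lhs => rw [← h']
      group
  have hf₀ : ∀ (g : G) (c : G ⧸ M), f₀ (g • c) = MulAut.conjNormal g (f₀ c) := by
    intro g c
    induction c using QuotientGroup.induction_on with
    | _ k =>
      change MulAut.conjNormal (g * k) (⟨y, hy⟩ : ↥U) =
        MulAut.conjNormal g (MulAut.conjNormal k (⟨y, hy⟩ : ↥U))
      rw [map_mul, MulAut.mul_apply]
  set z : ↥U := ∏ c, f₀ c with hz
  refine ⟨(z : G), z.2, fun g => ?_, ?_⟩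
  · have h1 : MulAut.conjNormal g z = z := by
      rw [hz, map_prod]
      refine Fintype.prod_equiv (MulAction.toPerm g) _ _ fun c => ?_
      rw [MulAction.toPerm_apply, hf₀]
    have h2 := congrArg Subtype.val h1
    rwa [MulAut.conjNormal_apply] at h2
  · have h1 := sum_eq_base' hexp ρ hone hmul hE hΔE hΔ' hEM hmove
      (fun c => Additive.ofMul ((f₀ c : ↥U) : ↥U ⧸ V'))
      (fun g c => by rw [hρ, hf₀])
    rw [← ofMul_prod, Additive.ofMul.injective.eq_iff] at h1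
    simp only [← QuotientGroup.mk'_apply, ← map_prod, ← hz] at h1
    have h2 : ((⟨y, hy⟩ : ↥U) : ↥U ⧸ V') = (z : ↥U ⧸ V') := by
      rw [show (⟨y, hy⟩ : ↥U) = f₀ ((1 : G) : G ⧸ M) from Subtype.ext (by
        change y = ((MulAut.conjNormal (1 : G) (⟨y, hy⟩ : ↥U) : ↥U) : G)
        simp)]
      exact h1.symm
    exact (QuotientGroup.eq (s := V')).1 h2

end Cfsg.Agent.OrbitFix
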