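/-
Control of fusion by `N(Z(J(S)))` when the `p`-local subgroups above `Z(S)` have no `SL₂(p)` section.
-/
import Cfsg.Agent.Lib.Functors.AutFreeFusion

set_option autoImplicit false
set_option linter.style.haveILetI false
set_option linter.unusedSectionVars false

namespace Cfsg.Agent.SL2Local

open Cfsg Cfsg.Agent.Functors Cfsg.Agent.ClosedZJ
open Cfsg.Agent.AutFreeness (AutFree)
open Cfsg.Agent.AutFreeFusion (ctl_of_autFree)

universe u

variable {G : Type u} [Group G] [Finite G] {p : ℕ} [hp : Fact p.Prime]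

/-- Local-to-global principle; the middle step may use fusion of all larger subgroups. -/
theorem local_to_global_growing {S : Subgroup G} (hS : IsPGroup p ↥S) {R : Set G → G → Prop}
    (hR : IsMapRel S R) (𝓦 : Set (Subgroup G → Subgroup G)) (h𝓦 : ∀ W ∈ 𝓦, IsConjugacyFunctor p W)
    (Loc Φ : Subgroup G → Prop)
    (hΦ : ∀ V, Φ V → V ≤ S ∧ IsSylowIn p (S ⊓ Subgroup.normalizer (V : Set G)) (Subgroup.normalizer (V : Set G)))
    (hΦtop : ∀ V : Subgroup G, V ≤ S → S ≤ Subgroup.normalizer (V : Set G) → Φ V)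
    (hex : ∀ V : Subgroup G, V ≠ ⊥ → V ≤ S → ∃ h : G, Φ (V.map (cj h)) ∧
      (S ⊓ Subgroup.normalizer (V : Set G)).map (cj h) ≤ S)
    (hmid : ∀ X : Subgroup G, X ≠ ⊥ → Φ X → Loc X →
      (∀ (Y : Subgroup G) (g : G), Nat.card ↥X < Nat.card ↥Y → Y ≤ S → Y.map (cj g) ≤ S →
        R (Y : Set G) g) →
      ∀ x ∈ Subgroup.normalizer (X : Set G), R (X : Set G) x)
    (htransport : ∀ (V : Subgroup G) (h : G), V ≠ ⊥ → V ≤ S →
      R ((S ⊓ Subgroup.normalizer (V : Set G) : Subgroup G) : Set G) h → Loc (V.map (cj h)) → Loc V)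
    (hstep : ∀ V : Subgroup G, V ≠ ⊥ → Φ V →
      (∀ W ∈ 𝓦, S ⊓ Subgroup.normalizer (V : Set G) = S ∨
        Loc (W (S ⊓ Subgroup.normalizer (V : Set G)))) → Loc V) :
    (∀ (A : Set G) (g : G), A ⊆ S → cj g '' A ⊆ S → R A g) ∧
      ∀ V : Subgroup G, V ≠ ⊥ → V ≤ S → Loc V := by
  suffices key : ∀ (d m : ℕ), Nat.card ↥S ≤ d + m →
      (∀ (X : Subgroup G) (g : G), m ≤ Nat.card ↥X → X ≤ S → X.map (cj g) ≤ S → R (X : Set G) g) ∧
      ∀ V : Subgroup G, V ≠ ⊥ → V ≤ S →
        m ≤ Nat.card ↥(S ⊓ Subgroup.normalizer (V : Set G)) → Loc V by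
    obtain ⟨h1, h2⟩ := key (Nat.card ↥S) 0 le_rfl
    refine ⟨fun A g hA hgA => ?_, fun V hV hVS => h2 V hV hVS (Nat.zero_le _)⟩
    refine hR.mono Subgroup.subset_closure (h1 (Subgroup.closure A) g (Nat.zero_le _)
      ((Subgroup.closure_le _).2 hA) ?_)
    rw [MonoidHom.map_closure, Subgroup.closure_le]
    exact hgA
  intro d
  induction d with
  | zero =>
    intro m hm
    rw [Nat.zero_add] at hm
    have hloc : ∀ V : Subgroup G, V ≠ ⊥ → V ≤ S →
        m ≤ Nat.card ↥(S ⊓ Subgroup.normalizer (V : Set G)) → Loc V := by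
      intro V hV hVS hVm
      have hN : S ⊓ Subgroup.normalizer (V : Set G) = S :=
        Subgroup.eq_of_le_of_card_ge inf_le_left (hm.trans hVm)
      exact hstep V hV (hΦtop V hVS (inf_eq_left.1 hN)) fun W _ => Or.inl hN
    refine ⟨fun X g hXm hX hXg => ?_, hloc⟩
    have hXS : X = S := Subgroup.eq_of_le_of_card_ge hX (hm.trans hXm)
    subst hXS
    by_cases hbot : X = ⊥
    · subst hbot
      exact hR.triv (by simp) fun a ha => by
        rw [SetLike.mem_coe, Subgroup.mem_bot] at ha
        simp [ha]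
    refine hmid X hbot (hΦtop X le_rfl Subgroup.le_normalizer) (hloc X hbot le_rfl ?_)
      (fun Y _ hlt hY _ => absurd (Subgroup.card_le_of_le hY) (not_le.2 hlt)) g ?_
    · rw [inf_eq_left.2 Subgroup.le_normalizer]
      exact hXm
    · exact map_cj_eq_iff.1 (Subgroup.eq_of_le_of_card_ge hXg (card_map_cj _ _).ge)
  | succ d ih =>
    intro m hm
    obtain ⟨ihR, ihL⟩ := ih (m + 1) (by omega)
    have grow : ∀ X : Subgroup G, X ≤ S → X ≠ S →
        Nat.card ↥X < Nat.card ↥(S ⊓ Subgroup.normalizer (X : Set G)) := fun X hX hne =>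
      Nat.lt_of_not_ge fun hle => (lt_inf_normalizer_of_lt hS (lt_of_le_of_ne hX hne)).ne
        (Subgroup.eq_of_le_of_card_ge (le_inf hX Subgroup.le_normalizer) hle)
    have hRm : ∀ (X : Subgroup G) (g : G), m ≤ Nat.card ↥X → X ≤ S → X.map (cj g) ≤ S →
        R (X : Set G) g := by
      intro X g hXm hX hXg
      by_cases hlt : m + 1 ≤ Nat.card ↥X
      · exact ihR X g hlt hX hXg
      by_cases hbot : X = ⊥
      · subst hbot
        exact hR.triv (by simp) fun a ha => by
          rw [SetLike.mem_coe, Subgroup.mem_bot] at ha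
          simp [ha]
      by_cases hXS : X = S
      · subst hXS
        refine hmid X hbot (hΦtop X le_rfl Subgroup.le_normalizer) ?_
          (fun Y _ hlt hY _ => absurd (Subgroup.card_le_of_le hY) (not_le.2 hlt)) g
          (map_cj_eq_iff.1 (Subgroup.eq_of_le_of_card_ge hXg (card_map_cj _ _).ge))
        refine hstep X hbot (hΦtop X le_rfl Subgroup.le_normalizer) fun W _ => Or.inl ?_
        exact inf_eq_left.2 Subgroup.le_normalizer
      set Y := X.map (cj g) with hY
      have hYbot : Y ≠ ⊥ := map_cj_ne_bot hbot g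
      have hYS : Y ≠ S := fun h => hXS (Subgroup.eq_of_le_of_card_ge hX
        (by rw [← card_map_cj X g, ← hY, h]))
      obtain ⟨h, hX', hh⟩ := hex X hbot hX
      obtain ⟨k, hY', hk⟩ := hex Y hYbot hXg
      set X' := X.map (cj h) with hX'def
      set Y' := Y.map (cj k) with hY'def
      obtain ⟨hX'S, -⟩ := hΦ X' hX'
      obtain ⟨hY'S, hY'syl⟩ := hΦ Y' hY'
      have rh : R (X : Set G) h := hR.mono (le_inf hX Subgroup.le_normalizer)
        (ihR _ h (by have := grow X hX hXS; omega) inf_le_left hh)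
      have rk : R (Y : Set G) k := hR.mono (le_inf hXg Subgroup.le_normalizer)
        (ihR _ k (by have := grow Y hXg hYS; have := card_map_cj X g; rw [← hY] at this; omega)
          inf_le_left hk)
      set x := k * g * h⁻¹ with hx
      have hxX' : X'.map (cj x) = Y' := by
        rw [hX'def, hY'def, hY, map_map_cj, map_map_cj, hx, inv_mul_cancel_right]
      have hN1 : (S ⊓ Subgroup.normalizer (X' : Set G)).map (cj x) ≤ Subgroup.normalizer (Y' : Set G) := by
        rw [← hxX', ← map_cj_normalizer X']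
        exact Subgroup.map_mono (f := cj x) (inf_le_right : S ⊓ Subgroup.normalizer (X' : Set G) ≤ _)
      obtain ⟨n, hn, hnle⟩ := exists_conj_le_of_isSylowIn hY'syl
        ((hS.to_le inf_le_left).map _) hN1
      rw [map_map_cj] at hnle
      have hX'card : m = Nat.card ↥X' := by rw [hX'def, card_map_cj]; omega
      have hX'neS : X' ≠ S := fun h' => hXS (Subgroup.eq_of_le_of_card_ge hX
        (by rw [← card_map_cj X h, ← hX'def, h']))
      have hY'neS : Y' ≠ S := fun h' => hYS (Subgroup.eq_of_le_of_card_ge hXg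
        (by rw [← card_map_cj Y k, ← hY'def, h']))
      have rnx : R (X' : Set G) (n * x) := hR.mono (le_inf hX'S Subgroup.le_normalizer)
        (ihR _ (n * x) (by have := grow X' hX'S hX'neS; omega) inf_le_left (hnle.trans inf_le_left))
      have hY'card : Nat.card ↥Y' = m := by
        rw [hY'def, card_map_cj, hY, card_map_cj]; omega
      have rn : R (Y' : Set G) n⁻¹ := hmid Y' (map_cj_ne_bot hYbot k) hY'
        (ihL Y' (map_cj_ne_bot hYbot k) hY'S (by have := grow Y' hY'S hY'neS; omega))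
        (fun Z z hlt hZ hzZ => ihR Z z (by omega) hZ hzZ) n⁻¹ (inv_mem hn)
      have r1 : R (X : Set G) (n * x * h) := hR.trans rh (by rw [cj_image_coe, ← hX'def]; exact rnx)
      have e1 : X.map (cj (n * x * h)) = Y' := by
        rw [← map_map_cj X, ← hX'def, ← map_map_cj X', hxX', map_cj_eq_iff.2 hn]
      have r2 : R (X : Set G) (n⁻¹ * (n * x * h)) := hR.trans r1 (by rw [cj_image_coe, e1]; exact rn)
      have e2 : X.map (cj (n⁻¹ * (n * x * h))) = Y' := by
        rw [← map_map_cj X, e1, map_cj_eq_iff.2 (inv_mem hn)]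
      have rk' : R (Y' : Set G) k⁻¹ := by rw [hY'def, ← cj_image_coe]; exact hR.symm rk
      have r3 := hR.trans r2 (by rw [cj_image_coe, e2]; exact rk')
      exact hR.congr r3 fun a _ => by rw [hx]; group
    refine ⟨hRm, fun V hV hVS hVm => ?_⟩
    by_cases hlt : m + 1 ≤ Nat.card ↥(S ⊓ Subgroup.normalizer (V : Set G))
    · exact ihL V hV hVS hlt
    obtain ⟨h, hV', hh⟩ := hex V hV hVS
    refine htransport V h hV hVS (hRm _ h hVm inf_le_left hh) ?_
    obtain ⟨hV'S, hV'syl⟩ := hΦ _ hV'
    refine hstep _ (map_cj_ne_bot hV h) hV' fun W hW => ?_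
    by_cases hP : S ⊓ Subgroup.normalizer (V.map (cj h) : Set G) = S
    · exact Or.inl hP
    right
    set P := S ⊓ Subgroup.normalizer (V.map (cj h) : Set G) with hPdef
    have hPp : IsPGroup p ↥P := hS.to_le inf_le_left
    have hPbot : P ≠ ⊥ := fun h0 => map_cj_ne_bot hV h
      (le_bot_iff.1 (h0 ▸ le_inf hV'S Subgroup.le_normalizer))
    have hWP := conjFunctor_le (h𝓦 W hW) hPp
    refine ihL _ (conjFunctor_ne_bot (h𝓦 W hW) hPp hPbot) (hWP.trans inf_le_left) ?_
    have h1 : (S ⊓ Subgroup.normalizer (V : Set G)).map (cj h) ≤ P := by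
      refine le_inf hh ?_
      rw [← map_cj_normalizer]
      exact Subgroup.map_mono inf_le_right
    have h2 : Nat.card ↥P < Nat.card ↥(S ⊓ Subgroup.normalizer (P : Set G)) :=
      grow P inf_le_left hP
    have h3 : S ⊓ Subgroup.normalizer (P : Set G) ≤ S ⊓ Subgroup.normalizer (W P : Set G) :=
      inf_le_inf_left _ (normalizer_le_normalizer_conjFunctor (h𝓦 W hW) hPp)
    have h4 := Subgroup.card_le_of_le h3
    have h5 := Subgroup.card_le_of_le h1
    rw [card_map_cj] at h5
    omega


/-- The normalizer of `V` has no section `SL₂(p)`. -/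
def NoSec (p : ℕ) (V : Subgroup G) : Prop :=
  ∀ H : Subgroup G, H ≤ Subgroup.normalizer (V : Set G) →
    ∀ ψ : H →* Matrix.SpecialLinearGroup (Fin 2) (ZMod p), ¬ Function.Surjective ψ

theorem NoSec.map {V : Subgroup G} (hV : NoSec p V) (h : G) : NoSec p (V.map (cj h)) := by
  intro H hH ψ hψ
  set e := H.equivMapOfInjective (cj h⁻¹) (cj_injective h⁻¹) with he
  refine hV (H.map (cj h⁻¹)) ?_ (ψ.comp e.symm.toMonoidHom) (hψ.comp e.symm.surjective)
  refine (Subgroup.map_mono hH).trans_eq ?_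
  rw [map_cj_normalizer, map_map_cj, inv_mul_cancel, map_cj_one]

theorem NoSec.autFree {V : Subgroup G} (hV : NoSec p V) :
    AutFree p ↥(Subgroup.normalizer (V : Set G)) := by
  intro Q _ H _ ψ hψ
  set e := H.equivMapOfInjective (Subgroup.normalizer (V : Set G)).subtype
    (Subgroup.subtype_injective _) with he
  exact absurd (hψ.comp e.symm.surjective) (hV _ (Subgroup.map_subtype_le H) (ψ.comp e.symm.toMonoidHom))

theorem realised_zJ (hp2 : p ≠ 2) (S : Sylow p G)
    (hfree : ∀ P : Subgroup G, (S : Subgroup G) ⊓ Subgroup.centralizer ((S : Subgroup G) : Set G) ≤ P →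
      P ≤ (S : Subgroup G) → NoSec p P)
    (A : Set G) (g : G) (hA : A ⊆ (S : Subgroup G)) (hgA : cj g '' A ⊆ (S : Subgroup G)) :
    Realised (Subgroup.normalizer (ZJ.zCore p False (S : Subgroup G) : Set G)) (S : Subgroup G) A g := by
  set D := (S : Subgroup G) with hDdef
  have hD : IsStronglyClosed D (S : Subgroup G) := ⟨le_rfl, fun _ _ _ h => h⟩
  set R := Realised (Subgroup.normalizer (ZJ.zCore p False D : Set G)) (S : Subgroup G) with hRdef
  have hR : IsMapRel (S : Subgroup G) R := isMapRel_realised _ _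
  refine (local_to_global_growing S.isPGroup' hR {relW p False D}
    (fun W hW => by rw [Set.mem_singleton_iff.1 hW]; exact isConjugacyFunctor_relW D)
    (fun V => NoSec p V → ∀ (A : Set G) (g : G), g ∈ Subgroup.normalizer (V : Set G) →
      A ⊆ ((S : Subgroup G) ⊓ Subgroup.normalizer (V : Set G) : Subgroup G) →
      cj g '' A ⊆ ((S : Subgroup G) ⊓ Subgroup.normalizer (V : Set G) : Subgroup G) → R A g)
    (Extremal p (S : Subgroup G)) (fun _ h => h) (fun _ hV hn => extremal_of_normal S hV hn)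
    (fun _ _ hV => exists_extremal S hV) ?_ ?_ ?_).1 A g hA hgA
  · intro X _ hX hl hbig x hx
    have hxX : X.map (cj x) = X := map_cj_eq_iff.2 hx
    by_cases hns : NoSec p X
    · refine hl hns _ x hx (le_inf hX.1 Subgroup.le_normalizer) ?_
      rw [cj_image_coe, hxX]
      exact le_inf hX.1 Subgroup.le_normalizer
    set C := Subgroup.centralizer (X : Set G) with hC
    have hnC : ∀ n ∈ Subgroup.normalizer (X : Set G), C.map (cj n) ≤ C := by
      rintro n hn _ ⟨c, hc, rfl⟩
      refine Subgroup.mem_centralizer_iff.2 fun q hq => ?_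
      obtain ⟨q', hq', rfl⟩ := (map_cj_eq_iff.2 hn).ge hq
      rw [← map_mul, ← map_mul, Subgroup.mem_centralizer_iff.1 hc q' hq']
    have hsyl : IsSylowIn p ((S : Subgroup G) ⊓ Subgroup.normalizer (X : Set G) ⊓ C) C :=
      hX.2.inf_normalized (Subgroup.centralizer_le_normalizer _) fun n hn =>
        map_cj_eq_iff.1 (Subgroup.eq_of_le_of_card_ge (hnC n hn) (card_map_cj _ _).ge)
    set P0 := (S : Subgroup G) ⊓ Subgroup.normalizer (X : Set G) ⊓ C with hP0
    obtain ⟨c, hc, hcle⟩ := exists_conj_le_of_isSylowIn hsyl (hsyl.isPGroup.map (cj x))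
      ((Subgroup.map_mono inf_le_right).trans (hnC x hx))
    rw [map_map_cj] at hcle
    set P1 := X ⊔ P0 with hP1
    have hP1S : P1 ≤ (S : Subgroup G) := sup_le hX.1 (inf_le_left.trans inf_le_left)
    have hlt : Nat.card ↥X < Nat.card ↥P1 := by
      refine Nat.lt_of_not_ge fun hle => hns (hfree X ?_ hX.1)
      rw [Subgroup.eq_of_le_of_card_ge (le_sup_left : X ≤ P1) hle]
      refine le_trans ?_ le_sup_right
      exact le_inf (le_inf inf_le_left (inf_le_right.trans ((Subgroup.centralizer_le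
        (SetLike.coe_subset_coe.2 hX.1)).trans (Subgroup.centralizer_le_normalizer _))))
        (inf_le_right.trans (Subgroup.centralizer_le (SetLike.coe_subset_coe.2 hX.1)))
    have r := hR.mono (SetLike.coe_subset_coe.2 (le_sup_left : X ≤ P1))
      (hbig P1 (c * x) hlt hP1S (by
        rw [hP1, Subgroup.map_sup]
        refine sup_le ?_ (hcle.trans (le_sup_right.trans hP1S))
        rw [← map_map_cj X, hxX, map_cj_eq_iff.2 (Subgroup.centralizer_le_normalizer _ hc)]
        exact hX.1))
    refine hR.congr r fun a ha => (Eq.symm ?_)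
    have h1 := Subgroup.mem_centralizer_iff.1 hc _ ((Subgroup.mem_normalizer_iff.1 hx a).1 ha)
    calc c * x * a * (c * x)⁻¹ = c * (x * a * x⁻¹) * c⁻¹ := by group
      _ = x * a * x⁻¹ := by rw [← h1]; group
  · intro V h _ _ rh hl hns A g hg hA hgA
    have hh : ∀ a ∈ ((S : Subgroup G) ⊓ Subgroup.normalizer (V : Set G) : Subgroup G), h * a * h⁻¹ ∈
        ((S : Subgroup G) ⊓ Subgroup.normalizer (V.map (cj h) : Set G) : Subgroup G) := fun a ha =>
      Subgroup.mem_inf.2 ⟨(hR.sub rh a ha).2, by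
        rw [← map_cj_normalizer]; exact ⟨a, (Subgroup.mem_inf.1 ha).2, rfl⟩⟩
    have hx : h * g * h⁻¹ ∈ Subgroup.normalizer (V.map (cj h) : Set G) := by
      rw [← map_cj_normalizer]; exact ⟨g, hg, rfl⟩
    have r2 := hR.trans (hR.mono hA rh) (hl (hns.map h) _ _ hx
      (by rintro _ ⟨a, ha, rfl⟩; exact hh a (hA ha))
      (by
        rintro _ ⟨_, ⟨a, ha, rfl⟩, rfl⟩
        have := hh _ (hgA ⟨a, ha, rfl⟩)
        simp only [cj_apply] at this ⊢
        rw [show h * g * h⁻¹ * (h * a * h⁻¹) * (h * g * h⁻¹)⁻¹ = h * (g * a * g⁻¹) * h⁻¹ by group]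
        exact this))
    have e1 : h * g * h⁻¹ * h = h * g := by group
    rw [e1] at r2
    have r3 : R (cj (h * g) '' A) h⁻¹ := by
      rw [← cj_image_image]; exact hR.symm (hR.mono hgA rh)
    have r4 := hR.trans r2 r3
    rwa [inv_mul_cancel_left] at r4
  · intro V hV hext hclimb hns A g hg hA hgA
    obtain ⟨n, hn, hna⟩ := ctl_subgroup (ctl_of_autFree hp2 hns.autFree (e := False)) S hD hext.2
      hg hA hgA
    obtain ⟨hnV, hnW⟩ := Subgroup.mem_inf.1 hn
    set T := (S : Subgroup G) ⊓ Subgroup.normalizer (V : Set G) with hT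
    have hDT : D ⊓ T = D ⊓ Subgroup.normalizer (V : Set G) := by
      rw [hT, ← inf_assoc, inf_eq_left.2 hD.1]
    have hVT : V ≤ D ⊓ T := le_inf hext.1 (le_inf hext.1 Subgroup.le_normalizer)
    have hW : relW p False D T = ZJ.zCore p False (D ⊓ T) := by
      rw [relW, relW_of_le hD (inf_le_left : T ≤ _), if_neg fun h => hV (le_bot_iff.1 (hVT.trans h.le))]
    rcases hclimb _ (Set.mem_singleton _) with hTS | hl
    · refine ⟨hA.trans (SetLike.coe_subset_coe.2 inf_le_left),
        hgA.trans (SetLike.coe_subset_coe.2 inf_le_left), n, ?_, hna⟩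
      rw [show T = D from hTS] at hnW
      exact hnW
    · have hTW : T ≤ (S : Subgroup G) ⊓ Subgroup.normalizer ((relW p False D T : Subgroup G) : Set G) :=
        le_inf inf_le_left (le_normalizer_conjFunctor (isConjugacyFunctor_relW D)
          (S.isPGroup'.to_le inf_le_left))
      have hWns : NoSec p (relW p False D T) := by
        refine hfree _ (fun z hz => ?_) (by rw [hW]; exact (zCore_le _).trans inf_le_left)
        obtain ⟨hzS, hzC⟩ := Subgroup.mem_inf.1 hz
        rw [hW, ZJ.zCore, Subgroup.mem_sInf]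
        intro B hB
        refine ZJ.mem_of_centralizes hB ?_ (fun b hb => Subgroup.mem_centralizer_iff.1 hzC b
          (Subgroup.mem_inf.1 (hB.1 hb)).1) False.elim
        exact Subgroup.mem_inf.2 ⟨hzS, Subgroup.mem_inf.2 ⟨hzS, Subgroup.centralizer_le_normalizer _
          (Subgroup.centralizer_le (SetLike.coe_subset_coe.2 hext.1) hzC)⟩⟩
      refine hR.congr (hl hWns A n (by rw [hW, inf_eq_right.2 (inf_le_left : T ≤ D)]; exact hnW) (hA.trans hTW) ?_) fun a ha => (hna a ha).symm
      rw [cj_image_congr hna]; exact hgA.trans hTW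

end Cfsg.Agent.SL2Local
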