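import Cfsg.Agent.Lib.Functors.Control
import Cfsg.Agent.Lib.Functors.SL2LocalFusion

/-!
Passage from the normalizers of the subgroups between `Z(S)` and `S` to the whole group, for a pair
consisting of a conjugacy functor `W ⊇ Z` and a central functor `V`.
-/

set_option autoImplicit false
set_option linter.style.haveILetI false
set_option linter.unusedSectionVars false

namespace Cfsg.Agent.FunctorPair

open Cfsg Cfsg.Agent.Functors

universe u

variable {G : Type u} [Group G] [Finite G] {p : ℕ} [hp : Fact p.Prime]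

/-- A central functor. -/
structure IsPair (p : ℕ) (W V : Subgroup G → Subgroup G) : Prop where
  hW : IsConjugacyFunctor p W
  hV : IsConjugacyFunctor p V
  hWZ : ∀ H : Subgroup G, IsPGroup p ↥H → H ⊓ Subgroup.centralizer (H : Set G) ≤ W H
  hVZ : ∀ H : Subgroup G, IsPGroup p ↥H → V H ≤ H ⊓ Subgroup.centralizer (H : Set G)
  hVmono : ∀ H K : Subgroup G, IsPGroup p ↥H → IsPGroup p ↥K → H ≠ ⊥ → K ≠ ⊥ →
    H ⊓ Subgroup.centralizer (H : Set G) ≤ K ⊓ Subgroup.centralizer (K : Set G) → V H ≤ V K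

/-- `X` is conjugate to a subgroup lying between `Z(S)` and `S`. -/
def Good (S X : Subgroup G) : Prop :=
  ∃ g : G, X.map (cj g) ≤ S ∧ S ⊓ Subgroup.centralizer (S : Set G) ≤ X.map (cj g)

theorem Good.map {S X : Subgroup G} (h : Good S X) (k : G) : Good S (X.map (cj k)) := by
  obtain ⟨g, h1, h2⟩ := h
  have e : (X.map (cj k)).map (cj (g * k⁻¹)) = X.map (cj g) := by
    rw [map_map_cj, inv_mul_cancel_right]
  exact ⟨g * k⁻¹, e.symm ▸ h1, e.symm ▸ h2⟩

theorem good_self {S X : Subgroup G} (h1 : X ≤ S) (h2 : S ⊓ Subgroup.centralizer (S : Set G) ≤ X) :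
    Good S X :=
  ⟨1, (map_cj_one X).symm ▸ h1, (map_cj_one X).symm ▸ h2⟩

theorem map_cj_centralizer (H : Subgroup G) (g : G) :
    (Subgroup.centralizer (H : Set G)).map (cj g) = Subgroup.centralizer ((H.map (cj g) : Subgroup G) : Set G) := by
  ext x
  rw [mem_map_cj, Subgroup.mem_centralizer_iff, Subgroup.mem_centralizer_iff]
  constructor
  · rintro h _ ⟨y, hy, rfl⟩
    have h1 := h y hy
    rw [cj_apply]
    calc g * y * g⁻¹ * x = g * (y * (g⁻¹ * x * g)) * g⁻¹ := by group
      _ = g * ((g⁻¹ * x * g) * y) * g⁻¹ := by rw [h1]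
      _ = x * (g * y * g⁻¹) := by group
  · intro h y hy
    have h1 := h (g * y * g⁻¹) ⟨y, hy, rfl⟩
    calc y * (g⁻¹ * x * g) = g⁻¹ * (g * y * g⁻¹ * x) * g := by group
      _ = g⁻¹ * (x * (g * y * g⁻¹)) * g := by rw [h1]
      _ = g⁻¹ * x * g * y := by group

/-- `Z(S) ≤ Z(N_S(X))` for `X ≤ S`. -/
theorem center_le {S X : Subgroup G} (hX : X ≤ S) :
    S ⊓ Subgroup.centralizer (S : Set G) ≤
      (S ⊓ Subgroup.normalizer (X : Set G)) ⊓
        Subgroup.centralizer ((S ⊓ Subgroup.normalizer (X : Set G) : Subgroup G) : Set G) := by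
  intro z hz
  obtain ⟨hzS, hzC⟩ := Subgroup.mem_inf.1 hz
  have hzX : z ∈ Subgroup.centralizer (X : Set G) :=
    Subgroup.centralizer_le (SetLike.coe_subset_coe.2 hX) hzC
  have hzN : z ∈ Subgroup.normalizer (X : Set G) := by
    rw [Subgroup.mem_normalizer_iff]
    intro x
    constructor
    · intro hx
      rw [← Subgroup.mem_centralizer_iff.1 hzX x hx, mul_inv_cancel_right]
      exact hx
    · intro hx
      have h := Subgroup.mem_centralizer_iff.1 hzX _ hx
      have e : z * x * z⁻¹ = x := by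
        apply mul_left_cancel (a := z)
        rw [← h]; group
      rwa [e] at hx
  exact Subgroup.mem_inf.2 ⟨Subgroup.mem_inf.2 ⟨hzS, hzN⟩,
    Subgroup.centralizer_le (SetLike.coe_subset_coe.2 inf_le_left) hzC⟩

/-- The middle step: a map on an extremal `X` comes from a larger subgroup unless `C_S(X) ≤ X`. -/
theorem mid_step {S : Subgroup G} (hS : IsPGroup p ↥S) {R : Set G → G → Prop} (hR : IsMapRel S R)
    {X : Subgroup G} (hX : Extremal p S X)
    (hgood : Good S X → ∀ x ∈ Subgroup.normalizer (X : Set G), R (X : Set G) x)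
    (hbig : ∀ (Y : Subgroup G) (g : G), Nat.card ↥X < Nat.card ↥Y → Y ≤ S → Y.map (cj g) ≤ S →
      R (Y : Set G) g) :
    ∀ x ∈ Subgroup.normalizer (X : Set G), R (X : Set G) x := by
  set C := S ⊓ Subgroup.centralizer (X : Set G) with hC
  by_cases hle : C ≤ X
  · refine hgood (good_self hX.1 (le_trans ?_ hle))
    exact inf_le_inf_left _ (Subgroup.centralizer_le (SetLike.coe_subset_coe.2 hX.1))
  intro x hx
  have hCN : Subgroup.centralizer (X : Set G) ≤ Subgroup.normalizer (X : Set G) := by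
    intro c hc
    rw [Subgroup.mem_normalizer_iff]
    intro y
    constructor
    · intro hy
      rw [← Subgroup.mem_centralizer_iff.1 hc y hy, mul_inv_cancel_right]
      exact hy
    · intro hy
      have h := Subgroup.mem_centralizer_iff.1 hc _ hy
      have e : c * y * c⁻¹ = y := by
        apply mul_left_cancel (a := c)
        rw [← h]; group
      rwa [e] at hy
  have hnorm : ∀ y ∈ Subgroup.normalizer (X : Set G),
      (Subgroup.centralizer (X : Set G)).map (cj y) = Subgroup.centralizer (X : Set G) := fun y hy => by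
    rw [map_cj_centralizer, map_cj_eq_iff.2 hy]
  have hCs : IsSylowIn p C (Subgroup.centralizer (X : Set G)) := by
    have h := hX.2.inf_normalized hCN (fun y hy => map_cj_eq_iff.1 (hnorm y hy))
    have e : S ⊓ Subgroup.normalizer (X : Set G) ⊓ Subgroup.centralizer (X : Set G) = C := by
      rw [inf_assoc, inf_eq_right.2 hCN]
    rwa [e] at h
  have hCx : IsSylowIn p (C.map (cj x)) (Subgroup.centralizer (X : Set G)) := by
    have h := hCs.map_cj x
    rwa [hnorm x hx] at h
  obtain ⟨c, hc, hcx⟩ := exists_conj_eq_of_isSylowIn hCs hCx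
  rw [map_map_cj] at hcx
  set H := X ⊔ C with hH
  have hHS : H ≤ S := sup_le hX.1 inf_le_left
  have hlt : Nat.card ↥X < Nat.card ↥H := by
    refine Set.ncard_lt_ncard (SetLike.coe_ssubset_coe.2 ?_) (Set.toFinite _)
    exact lt_of_le_of_ne le_sup_left fun h => hle (h.symm ▸ le_sup_right)
  have hHn : H.map (cj (c * x)) ≤ S := by
    refine le_trans (le_of_eq ?_) hHS
    rw [hH, Subgroup.map_sup, hcx, map_cj_eq_iff.2 (mul_mem (hCN hc) hx)]
  refine hR.congr (hR.mono (SetLike.coe_subset_coe.2 le_sup_left) (hbig H (c * x) hlt hHS hHn)) ?_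
  intro a ha
  have hxa : x * a * x⁻¹ ∈ X := (Subgroup.mem_normalizer_iff.1 hx a).1 ha
  symm
  calc c * x * a * (c * x)⁻¹ = c * (x * a * x⁻¹) * c⁻¹ := by group
    _ = x * a * x⁻¹ := by
      rw [← Subgroup.mem_centralizer_iff.1 hc _ hxa]; group

/-! ### strong fusion -/

/-- `W` with `V` controls strong fusion in `L`, read at `Q`. -/
def SF (W V : Subgroup G → Subgroup G) (L Q : Subgroup G) : Prop :=
  ∀ (A : Set G) (g : G), g ∈ L → A ⊆ Q → cj g '' A ⊆ Q →
    Reach Q {L ⊓ Subgroup.normalizer (W Q : Set G), L ⊓ Subgroup.centralizer (V Q : Set G)} A g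

theorem reach_map {S : Subgroup G} {𝒩 : Set (Subgroup G)} {A : Set G} {g : G}
    (r : Reach S 𝒩 A g) (h : G) :
    Reach (S.map (cj h)) ((fun N => N.map (cj h)) '' 𝒩) (cj h '' A) (h * g * h⁻¹) := by
  induction r with
  | @refl A g hA hg =>
    refine .refl (Set.image_mono hA) ?_
    rintro _ ⟨a, ha, rfl⟩
    rw [cj_apply]
    calc h * g * h⁻¹ * (h * a * h⁻¹) * (h * g * h⁻¹)⁻¹ = h * (g * a * g⁻¹) * h⁻¹ := by group
      _ = h * a * h⁻¹ := by rw [hg a ha]
  | @cons A n g k hA hn _ hk ih =>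
    obtain ⟨N, hN, hnN⟩ := hn
    refine .cons (n := h * n * h⁻¹) (g := h * g * h⁻¹) (Set.image_mono hA)
      ⟨_, ⟨N, hN, rfl⟩, ⟨n, hnN, rfl⟩⟩ ?_ ?_
    · rw [cj_image_image, inv_mul_cancel_right, ← cj_image_image]
      exact ih
    · rintro _ ⟨a, ha, rfl⟩
      rw [cj_apply]
      calc h * k * h⁻¹ * (h * a * h⁻¹) * (h * k * h⁻¹)⁻¹ = h * (k * a * k⁻¹) * h⁻¹ := by group
        _ = _ := by rw [hk a ha]; group

theorem SF.map {W V : Subgroup G → Subgroup G} (hP : IsPair p W V) {L Q : Subgroup G}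
    (hQ : IsPGroup p ↥Q) (h : SF W V L Q) (k : G) : SF W V (L.map (cj k)) (Q.map (cj k)) := by
  intro A g hg hA hgA
  have hback : ∀ {B : Set G}, B ⊆ (Q.map (cj k) : Subgroup G) → cj k⁻¹ '' B ⊆ Q := by
    intro B hB
    rintro _ ⟨b, hb, rfl⟩
    rw [cj_apply, inv_inv]
    exact mem_map_cj.1 (hB hb)
  have r := reach_map (h (cj k⁻¹ '' A) (k⁻¹ * g * k) (mem_map_cj.1 hg) (hback hA) (by
    rw [cj_image_image, show k⁻¹ * g * k * k⁻¹ = k⁻¹ * g by group, ← cj_image_image]
    exact hback hgA)) k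
  rw [cj_image_image, mul_inv_cancel, cj_image_one,
    show k * (k⁻¹ * g * k) * k⁻¹ = g by group, Set.image_pair, map_cj_inf, map_cj_inf,
    map_cj_normalizer, map_cj_centralizer, ← conjFunctor_map hP.hW hQ k,
    ← conjFunctor_map hP.hV hQ k] at r
  exact r

theorem fusion_of_local {W V : Subgroup G → Subgroup G} (hP : IsPair p W V) (S : Sylow p G)
    (hloc : ∀ H : Subgroup G, (S : Subgroup G) ⊓ Subgroup.centralizer ((S : Subgroup G) : Set G) ≤ H →
      H ≤ (S : Subgroup G) → ∃ Q, IsSylowIn p Q (Subgroup.normalizer (H : Set G)) ∧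
        SF W V (Subgroup.normalizer (H : Set G)) Q) :
    ∀ (A : Set G) (g : G), A ⊆ (S : Subgroup G) → cj g '' A ⊆ (S : Subgroup G) →
      Reach (S : Subgroup G) {Subgroup.normalizer (W (S : Subgroup G) : Set G),
        Subgroup.centralizer (V (S : Subgroup G) : Set G)} A g := by
  set S₀ : Subgroup G := (S : Subgroup G) with hS₀
  set R := Reach S₀ {Subgroup.normalizer (W S₀ : Set G), Subgroup.centralizer (V S₀ : Set G)}
  have hR : IsMapRel S₀ R := isMapRel_reach _ _
  refine (SL2Local.local_to_global_growing S.isPGroup' hR {W}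
    (fun W' hW' => by rw [Set.mem_singleton_iff] at hW'; rw [hW']; exact hP.hW)
    (fun X => Good S₀ X → ∀ (A : Set G) (g : G), g ∈ Subgroup.normalizer (X : Set G) →
      A ⊆ (S₀ ⊓ Subgroup.normalizer (X : Set G) : Subgroup G) →
      cj g '' A ⊆ (S₀ ⊓ Subgroup.normalizer (X : Set G) : Subgroup G) → R A g)
    (Extremal p S₀) (fun X h => h) (fun X hX hn => extremal_of_normal S hX hn)
    (fun X _ hX => exists_extremal S hX) ?_ ?_ ?_).1
  · intro X _ hXΦ hL hbig
    refine mid_step S.isPGroup' hR hXΦ (fun hg x hx => ?_) hbig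
    refine hL hg (X : Set G) x hx (SetLike.coe_subset_coe.2 (le_inf hXΦ.1 Subgroup.le_normalizer)) ?_
    rw [cj_image_coe, map_cj_eq_iff.2 hx]
    exact SetLike.coe_subset_coe.2 (le_inf hXΦ.1 Subgroup.le_normalizer)
  · intro X h _ _ rh hL hgood A g hg hA hgA
    have hh : ∀ a ∈ (S₀ ⊓ Subgroup.normalizer (X : Set G) : Subgroup G), h * a * h⁻¹ ∈
        (S₀ ⊓ Subgroup.normalizer (X.map (cj h) : Set G) : Subgroup G) := fun a ha =>
      Subgroup.mem_inf.2 ⟨(hR.sub rh a ha).2, by
        rw [← map_cj_normalizer]; exact ⟨a, (Subgroup.mem_inf.1 ha).2, rfl⟩⟩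
    have hx : h * g * h⁻¹ ∈ Subgroup.normalizer (X.map (cj h) : Set G) := by
      rw [← map_cj_normalizer]; exact ⟨g, hg, rfl⟩
    have r1 := hR.mono hA rh
    have r2 := hR.trans r1 (hL (hgood.map h) _ _ hx
      (by rintro _ ⟨a, ha, rfl⟩; exact hh a (hA ha))
      (by
        rintro _ ⟨_, ⟨a, ha, rfl⟩, rfl⟩
        have := hh _ (hgA ⟨a, ha, rfl⟩)
        simp only [cj_apply] at this ⊢
        rw [show h * g * h⁻¹ * (h * a * h⁻¹) * (h * g * h⁻¹)⁻¹ = h * (g * a * g⁻¹) * h⁻¹ by group]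
        exact this))
    rw [show h * g * h⁻¹ * h = h * g by group] at r2
    have r3 : R (cj (h * g) '' A) h⁻¹ := by
      rw [← cj_image_image]
      exact hR.symm (hR.mono hgA rh)
    have r4 := hR.trans r2 r3
    rwa [inv_mul_cancel_left] at r4
  · intro X hX hXΦ hclimb hgood A g hg hA hgA
    obtain ⟨k, hk1, hk2⟩ := hgood
    obtain ⟨Q₀, hQ₀, hsf⟩ := hloc _ hk2 hk1
    set Q := S₀ ⊓ Subgroup.normalizer (X : Set G) with hQdef
    have hN : (Subgroup.normalizer ((X.map (cj k) : Subgroup G) : Set G)).map (cj k⁻¹) =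
        Subgroup.normalizer (X : Set G) := by
      rw [map_cj_normalizer, map_cj_inv_map]
    have hQ₁ : IsSylowIn p (Q₀.map (cj k⁻¹)) (Subgroup.normalizer (X : Set G)) := hN ▸ hQ₀.map_cj k⁻¹
    have hsf₁ : SF W V (Subgroup.normalizer (X : Set G)) (Q₀.map (cj k⁻¹)) :=
      hN ▸ hsf.map hP hQ₀.isPGroup k⁻¹
    obtain ⟨m, hm, hmQ⟩ := exists_conj_eq_of_isSylowIn hXΦ.2 hQ₁
    have hsf₂ : SF W V (Subgroup.normalizer (X : Set G)) Q := by
      have h := hsf₁.map hP hQ₁.isPGroup m
      rwa [map_cj_eq_iff.2 (Subgroup.le_normalizer hm), hmQ] at h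
    have hQp : IsPGroup p ↥Q := S.isPGroup'.to_le inf_le_left
    have hQne : Q ≠ ⊥ := fun h => hX (le_bot_iff.1 (h ▸ le_inf hXΦ.1 Subgroup.le_normalizer))
    have hSne : S₀ ≠ ⊥ := fun h => hQne (le_bot_iff.1 (h ▸ inf_le_left))
    have hZ := center_le (X := X) hXΦ.1
    have hVle : V S₀ ≤ V Q := hP.hVmono S₀ Q S.isPGroup' hQp hSne hQne hZ
    have key : ∀ {B : Set G} {b : G}, Reach Q {Subgroup.normalizer (X : Set G) ⊓
        Subgroup.normalizer (W Q : Set G),
        Subgroup.normalizer (X : Set G) ⊓ Subgroup.centralizer (V Q : Set G)} B b → R B b := by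
      intro B b r
      induction r with
      | refl hB hb => exact hR.triv (hB.trans (SetLike.coe_subset_coe.2 inf_le_left)) hb
      | @cons B n b l hB hn r hl ih =>
        have hnB : cj n '' B ⊆ (Q : Set G) := r.left
        refine hR.congr (hR.trans ?_ ih) hl
        obtain ⟨N, hN', hnN⟩ := hn
        rcases hN' with rfl | hN'
        · rcases hclimb W rfl with hQS | hL
          · refine Reach.single (hB.trans (SetLike.coe_subset_coe.2 inf_le_left))
              ⟨_, Or.inl rfl, ?_⟩ (hnB.trans (SetLike.coe_subset_coe.2 inf_le_left))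
            have h2 := (Subgroup.mem_inf.1 hnN).2
            rwa [show Q = S₀ from hQS] at h2
          · have hQW : Q ≤ S₀ ⊓ Subgroup.normalizer (W Q : Set G) :=
              le_inf inf_le_left (le_normalizer_conjFunctor hP.hW hQp)
            exact hL (good_self ((conjFunctor_le hP.hW hQp).trans inf_le_left)
              (hZ.trans (hP.hWZ Q hQp))) B n (Subgroup.mem_inf.1 hnN).2
              (hB.trans (SetLike.coe_subset_coe.2 hQW)) (hnB.trans (SetLike.coe_subset_coe.2 hQW))
        · rw [Set.mem_singleton_iff] at hN'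
          subst hN'
          exact Reach.single (hB.trans (SetLike.coe_subset_coe.2 inf_le_left))
            ⟨_, Or.inr rfl, Subgroup.centralizer_le (SetLike.coe_subset_coe.2 hVle)
              (Subgroup.mem_inf.1 hnN).2⟩ (hnB.trans (SetLike.coe_subset_coe.2 inf_le_left))
    exact key (hsf₂ A g hg hA hgA)

/-! ### transfer -/

/-- The two pieces of the transfer subgroup. -/
def trSup (W V : Subgroup G → Subgroup G) (L Q : Subgroup G) : Subgroup G :=
  (Q ⊓ ⁅L ⊓ Subgroup.normalizer (W Q : Set G), L ⊓ Subgroup.normalizer (W Q : Set G)⁆) ⊔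
    (Q ⊓ ⁅L ⊓ Subgroup.centralizer (V Q : Set G), L ⊓ Subgroup.centralizer (V Q : Set G)⁆)

theorem trSup_map {W V : Subgroup G → Subgroup G} (hP : IsPair p W V) {L Q : Subgroup G}
    (hQ : IsPGroup p ↥Q) (k : G) :
    (trSup W V L Q).map (cj k) = trSup W V (L.map (cj k)) (Q.map (cj k)) := by
  simp only [trSup, Subgroup.map_sup, map_cj_inf, Subgroup.map_commutator, map_cj_normalizer,
    map_cj_centralizer, conjFunctor_map hP.hW hQ k, conjFunctor_map hP.hV hQ k]

theorem transfer_of_local {W V : Subgroup G → Subgroup G} (hP : IsPair p W V) (S : Sylow p G)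
    (hloc : ∀ H : Subgroup G, (S : Subgroup G) ⊓ Subgroup.centralizer ((S : Subgroup G) : Set G) ≤ H →
      H ≤ (S : Subgroup G) → ∃ Q, IsSylowIn p Q (Subgroup.normalizer (H : Set G)) ∧
        Q ⊓ ⁅Subgroup.normalizer (H : Set G), Subgroup.normalizer (H : Set G)⁆ ≤
          trSup W V (Subgroup.normalizer (H : Set G)) Q) :
    (S : Subgroup G) ⊓ commutator G ≤
      ((S : Subgroup G) ⊓ ⁅Subgroup.normalizer (W (S : Subgroup G) : Set G),
          Subgroup.normalizer (W (S : Subgroup G) : Set G)⁆) ⊔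
        ((S : Subgroup G) ⊓ ⁅Subgroup.centralizer (V (S : Subgroup G) : Set G),
          Subgroup.centralizer (V (S : Subgroup G) : Set G)⁆) := by
  set S₀ : Subgroup G := (S : Subgroup G) with hS₀
  set T₀ := (S₀ ⊓ ⁅Subgroup.normalizer (W S₀ : Set G), Subgroup.normalizer (W S₀ : Set G)⁆) ⊔
    (S₀ ⊓ ⁅Subgroup.centralizer (V S₀ : Set G), Subgroup.centralizer (V S₀ : Set G)⁆) with hT₀
  let R : Set G → G → Prop := fun A g =>
    ∀ a ∈ A, a ∈ S₀ ∧ g * a * g⁻¹ ∈ S₀ ∧ a⁻¹ * (g * a * g⁻¹) ∈ T₀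
  have hR : IsMapRel S₀ R :=
    { sub := fun r a ha => ⟨(r a ha).1, (r a ha).2.1⟩
      triv := fun hA hg a ha => ⟨hA ha, by rw [hg a ha]; exact hA ha,
        by rw [hg a ha, inv_mul_cancel]; exact one_mem _⟩
      congr := fun r h a ha => by rw [h a ha]; exact r a ha
      mono := fun h r a ha => r a (h ha)
      trans := fun {A g h} r r' a ha => by
        obtain ⟨h1, h2, h3⟩ := r a ha
        obtain ⟨-, h5, h6⟩ := r' _ ⟨a, ha, rfl⟩
        simp only [cj_apply] at h5 h6
        have e : h * g * a * (h * g)⁻¹ = h * (g * a * g⁻¹) * h⁻¹ := by group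
        refine ⟨h1, by rw [e]; exact h5, ?_⟩
        rw [e]
        have := mul_mem h3 h6
        rwa [mul_assoc, mul_inv_cancel_left] at this
      symm := fun {A g} r => by
        rintro _ ⟨a, ha, rfl⟩
        obtain ⟨h1, h2, h3⟩ := r a ha
        have e : g⁻¹ * (g * a * g⁻¹) * g⁻¹⁻¹ = a := by group
        simp only [cj_apply]
        refine ⟨h2, by rw [e]; exact h1, ?_⟩
        rw [e]
        have := inv_mem h3
        rwa [mul_inv_rev, inv_inv] at this }
  suffices hall : ∀ (A : Set G) (g : G), A ⊆ S₀ → cj g '' A ⊆ S₀ → R A g by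
    rw [inf_comm, Subgroup.commutator_inf_eq_focalSubgroup, Subgroup.focalSubgroup_def,
      Subgroup.closure_le]
    rintro _ ⟨hz, x, hx, u, rfl⟩
    have hux : u * x⁻¹ * u⁻¹ ∈ S₀ := by
      have := mul_mem (inv_mem hx) hz
      simpa [commutatorElement_def, mul_assoc] using this
    have := ((hall {x⁻¹} u (by intro a ha; rw [Set.mem_singleton_iff] at ha; rw [ha]; exact inv_mem hx)
      (by rintro _ ⟨a, ha, rfl⟩; rw [Set.mem_singleton_iff] at ha; rw [ha]; exact hux)) x⁻¹ rfl).2.2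
    rw [inv_inv] at this
    simpa [commutatorElement_def, mul_assoc] using this
  refine (SL2Local.local_to_global_growing S.isPGroup' hR {W}
    (fun W' hW' => by rw [Set.mem_singleton_iff] at hW'; rw [hW']; exact hP.hW)
    (fun X => Good S₀ X → S₀ ⊓ Subgroup.normalizer (X : Set G) ⊓
      ⁅Subgroup.normalizer (X : Set G), Subgroup.normalizer (X : Set G)⁆ ≤ T₀)
    (Extremal p S₀) (fun X h => h) (fun X hX hn => extremal_of_normal S hX hn)
    (fun X _ hX => exists_extremal S hX) ?_ ?_ ?_).1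
  · intro X _ hXΦ hL hbig
    refine mid_step S.isPGroup' hR hXΦ (fun hg x hx a ha => ?_) hbig
    have hxa : x * a * x⁻¹ ∈ X := (Subgroup.mem_normalizer_iff.1 hx a).1 ha
    refine ⟨hXΦ.1 ha, hXΦ.1 hxa, hL hg (Subgroup.mem_inf.2 ⟨Subgroup.mem_inf.2
      ⟨mul_mem (inv_mem (hXΦ.1 ha)) (hXΦ.1 hxa),
        Subgroup.le_normalizer (mul_mem (inv_mem ha) hxa)⟩, ?_⟩)⟩
    have := Subgroup.commutator_mem_commutator
      (inv_mem (Subgroup.le_normalizer ha) : a⁻¹ ∈ Subgroup.normalizer (X : Set G)) hx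
    simpa [commutatorElement_def, mul_assoc] using this
  · intro X h _ _ rh hL hgood x hx
    obtain ⟨hxS, hxc⟩ := Subgroup.mem_inf.1 hx
    obtain ⟨h1, h2, h3⟩ := rh x hxS
    have h4 : h * x * h⁻¹ ∈ T₀ := by
      refine hL (hgood.map h) (Subgroup.mem_inf.2 ⟨Subgroup.mem_inf.2 ⟨h2, ?_⟩, ?_⟩)
      · rw [← map_cj_normalizer]; exact ⟨x, (Subgroup.mem_inf.1 hxS).2, rfl⟩
      · rw [← map_cj_normalizer, ← Subgroup.map_commutator]; exact ⟨x, hxc, rfl⟩
    have := mul_mem h4 (inv_mem h3)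
    rwa [mul_inv_rev, inv_inv, mul_inv_cancel_left] at this
  · intro X hX hXΦ hclimb hgood
    obtain ⟨k, hk1, hk2⟩ := hgood
    obtain ⟨Q₀, hQ₀, htr⟩ := hloc _ hk2 hk1
    set Q := S₀ ⊓ Subgroup.normalizer (X : Set G) with hQdef
    have hN : (Subgroup.normalizer ((X.map (cj k) : Subgroup G) : Set G)).map (cj k⁻¹) =
        Subgroup.normalizer (X : Set G) := by
      rw [map_cj_normalizer, map_cj_inv_map]
    have hQ₁ : IsSylowIn p (Q₀.map (cj k⁻¹)) (Subgroup.normalizer (X : Set G)) := hN ▸ hQ₀.map_cj k⁻¹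
    obtain ⟨m, hm, hmQ⟩ := exists_conj_eq_of_isSylowIn hXΦ.2 hQ₁
    rw [map_map_cj] at hmQ
    have h := Subgroup.map_mono (f := cj (m * k⁻¹)) htr
    rw [map_cj_inf, Subgroup.map_commutator, trSup_map hP hQ₀.isPGroup, hmQ, ← map_map_cj, hN,
      map_cj_eq_iff.2 (Subgroup.le_normalizer hm)] at h
    refine h.trans (sup_le ?_ ?_)
    · rcases hclimb W rfl with hQS | hL
      · rw [show S₀ ⊓ Subgroup.normalizer (X : Set G) = S₀ from hQS]
        exact le_trans (inf_le_inf_left _ (Subgroup.commutator_mono inf_le_right inf_le_right))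
          le_sup_left
      · have hQp : IsPGroup p ↥Q := S.isPGroup'.to_le inf_le_left
        refine le_trans ?_ (hL (good_self ((conjFunctor_le hP.hW hQp).trans inf_le_left)
          ((center_le hXΦ.1).trans (hP.hWZ Q hQp))))
        exact inf_le_inf (le_inf inf_le_left (le_normalizer_conjFunctor hP.hW hQp))
          (Subgroup.commutator_mono inf_le_right inf_le_right)
    · have hQp : IsPGroup p ↥Q := S.isPGroup'.to_le inf_le_left
      have hQne : Q ≠ ⊥ := fun h => hX (le_bot_iff.1 (h ▸ le_inf hXΦ.1 Subgroup.le_normalizer))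
      have hSne : S₀ ≠ ⊥ := fun h => hQne (le_bot_iff.1 (h ▸ inf_le_left))
      have hVle : V S₀ ≤ V Q := hP.hVmono S₀ Q S.isPGroup' hQp hSne hQne (center_le hXΦ.1)
      refine le_trans ?_ le_sup_right
      exact inf_le_inf inf_le_left (Subgroup.commutator_mono
        (inf_le_right.trans (Subgroup.centralizer_le (SetLike.coe_subset_coe.2 hVle)))
        (inf_le_right.trans (Subgroup.centralizer_le (SetLike.coe_subset_coe.2 hVle))))

end Cfsg.Agent.FunctorPair
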