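import Cfsg.Agent.Lib.Functors.Conj

/-!
Conjugation chains inside a family of subgroups, and the abstract form of a fusion relation.
-/

set_option autoImplicit false
set_option linter.style.haveILetI false

namespace Cfsg.Agent.Functors

variable {G : Type*} [Group G]

/-- A relation `R A g` ("the map `a ↦ g a g⁻¹` on `A` is good") on conjugation maps inside `S`. -/
structure IsMapRel (S : Subgroup G) (R : Set G → G → Prop) : Prop where
  sub : ∀ {A : Set G} {g : G}, R A g → ∀ a ∈ A, a ∈ S ∧ g * a * g⁻¹ ∈ S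
  triv : ∀ {A : Set G} {g : G}, A ⊆ S → (∀ a ∈ A, g * a * g⁻¹ = a) → R A g
  congr : ∀ {A : Set G} {g k : G}, R A g → (∀ a ∈ A, k * a * k⁻¹ = g * a * g⁻¹) → R A k
  mono : ∀ {A B : Set G} {g : G}, B ⊆ A → R A g → R B g
  trans : ∀ {A : Set G} {g h : G}, R A g → R (cj g '' A) h → R A (h * g)
  symm : ∀ {A : Set G} {g : G}, R A g → R (cj g '' A) g⁻¹

theorem cj_image_image (A : Set G) (a b : G) : cj a '' (cj b '' A) = cj (a * b) '' A := by
  rw [Set.image_image]
  congr 1
  funext x
  simp only [cj_apply]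
  group

theorem cj_image_congr {A : Set G} {g k : G} (h : ∀ a ∈ A, k * a * k⁻¹ = g * a * g⁻¹) :
    cj k '' A = cj g '' A :=
  Set.image_congr fun a ha => h a ha

theorem cj_image_one (A : Set G) : cj 1 '' A = A := by
  ext x
  simp

theorem cj_image_inv_image (A : Set G) (g : G) : cj g⁻¹ '' (cj g '' A) = A := by
  rw [cj_image_image, inv_mul_cancel, cj_image_one]

theorem cj_image_coe (H : Subgroup G) (g : G) : cj g '' (H : Set G) = (H.map (cj g) : Subgroup G) :=
  (Subgroup.coe_map _ _).symm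

/-- `Reach S 𝒩 A g`: the map `a ↦ g a g⁻¹` on `A` is a composite, inside `S`, of conjugations by
elements of members of `𝒩`. -/
inductive Reach (S : Subgroup G) (𝒩 : Set (Subgroup G)) : Set G → G → Prop
  | refl {A : Set G} {g : G} (hA : A ⊆ S) (hg : ∀ a ∈ A, g * a * g⁻¹ = a) : Reach S 𝒩 A g
  | cons {A : Set G} {n g k : G} (hA : A ⊆ S) (hn : ∃ N ∈ 𝒩, n ∈ N)
      (h : Reach S 𝒩 (cj n '' A) g) (hk : ∀ a ∈ A, k * a * k⁻¹ = (g * n) * a * (g * n)⁻¹) :
      Reach S 𝒩 A k

variable {S : Subgroup G} {𝒩 : Set (Subgroup G)} {A : Set G} {g h k : G}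

theorem Reach.left (r : Reach S 𝒩 A g) : A ⊆ S := by
  cases r with
  | refl hA _ => exact hA
  | cons hA _ _ _ => exact hA

theorem Reach.right (r : Reach S 𝒩 A g) : cj g '' A ⊆ S := by
  induction r with
  | refl hA hg =>
    rintro _ ⟨a, ha, rfl⟩
    rw [cj_apply, hg a ha]
    exact hA ha
  | @cons A n g k hA hn h hk ih =>
    rw [cj_image_congr hk, ← cj_image_image]
    exact ih

theorem Reach.congr (r : Reach S 𝒩 A g) (hk : ∀ a ∈ A, k * a * k⁻¹ = g * a * g⁻¹) :
    Reach S 𝒩 A k := by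
  cases r with
  | refl hA hg => exact .refl hA fun a ha => (hk a ha).trans (hg a ha)
  | cons hA hn h hk' => exact .cons hA hn h fun a ha => (hk a ha).trans (hk' a ha)

theorem Reach.single (hA : A ⊆ S) (hn : ∃ N ∈ 𝒩, g ∈ N) (hg : cj g '' A ⊆ S) : Reach S 𝒩 A g :=
  .cons (n := g) (g := 1) hA hn (.refl hg fun a _ => by group) fun a _ => by group

theorem Reach.trans (r : Reach S 𝒩 A g) : Reach S 𝒩 (cj g '' A) h → Reach S 𝒩 A (h * g) := by
  induction r with
  | @refl A g hA hg =>
    intro r'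
    have hA' : cj g '' A = A := by
      rw [cj_image_congr (g := 1) (fun a ha => by rw [hg a ha]; group), cj_image_one]
    rw [hA'] at r'
    exact r'.congr fun a ha => by
      rw [show h * g * a * (h * g)⁻¹ = h * (g * a * g⁻¹) * h⁻¹ by group, hg a ha]
  | @cons A n g k hA hn _ hk ih =>
    intro r'
    rw [cj_image_congr hk, ← cj_image_image] at r'
    refine .cons hA hn (ih r') fun a ha => ?_
    rw [show h * k * a * (h * k)⁻¹ = h * (k * a * k⁻¹) * h⁻¹ by group, hk a ha]
    group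

theorem Reach.symm (r : Reach S 𝒩 A g) : Reach S 𝒩 (cj g '' A) g⁻¹ := by
  induction r with
  | @refl A g hA hg =>
    refine .refl ?_ ?_
    · rintro _ ⟨a, ha, rfl⟩
      rw [cj_apply, hg a ha]
      exact hA ha
    · rintro _ ⟨a, ha, rfl⟩
      rw [cj_apply, hg a ha]
      have := hg a ha
      calc g⁻¹ * a * g⁻¹⁻¹ = g⁻¹ * (g * a * g⁻¹) * g := by rw [this, inv_inv]
        _ = a := by group
  | @cons A n g k hA hn h hk ih =>
    obtain ⟨N, hN, hnN⟩ := hn
    have h1 : Reach S 𝒩 (cj g⁻¹ '' (cj g '' (cj n '' A))) n⁻¹ := by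
      rw [cj_image_inv_image]
      refine .single h.left ⟨N, hN, inv_mem hnN⟩ ?_
      rw [cj_image_inv_image]
      exact hA
    have h2 := ih.trans h1
    rw [cj_image_image] at h2
    rw [cj_image_congr hk]
    refine h2.congr ?_
    rintro _ ⟨a, ha, rfl⟩
    rw [cj_apply, ← hk a ha]
    have := hk a ha
    calc k⁻¹ * (k * a * k⁻¹) * k⁻¹⁻¹ = (n⁻¹ * g⁻¹) * ((g * n) * a * (g * n)⁻¹) * (n⁻¹ * g⁻¹)⁻¹ := by
          group
      _ = _ := by rw [← this]

theorem Reach.mono (r : Reach S 𝒩 A g) : ∀ {B : Set G}, B ⊆ A → Reach S 𝒩 B g := by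
  induction r with
  | refl hA hg => exact fun hB => .refl (hB.trans hA) fun a ha => hg a (hB ha)
  | cons hA hn _ hk ih =>
    exact fun hB => .cons (hB.trans hA) hn (ih (Set.image_mono hB)) fun a ha => hk a (hB ha)

theorem isMapRel_reach (S : Subgroup G) (𝒩 : Set (Subgroup G)) : IsMapRel S (Reach S 𝒩) where
  sub r a ha := ⟨r.left ha, r.right ⟨a, ha, rfl⟩⟩
  triv hA hg := .refl hA hg
  congr r h := r.congr h
  mono h r := r.mono h
  trans r r' := r.trans r'
  symm r := r.symm

/-- Chains as indexed families. -/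
theorem Reach.exists_fin (r : Reach S 𝒩 A g) :
    ∃ (n : ℕ) (c : Fin (n + 1) → G), c 0 = 1 ∧
      (∀ i : Fin n, ∃ N ∈ 𝒩, c i.succ * (c i.castSucc)⁻¹ ∈ N) ∧
      (∀ i, cj (c i) '' A ⊆ S) ∧ ∀ a ∈ A, c (Fin.last n) * a * (c (Fin.last n))⁻¹ = g * a * g⁻¹ := by
  induction r with
  | @refl A g hA hg =>
    refine ⟨0, fun _ => 1, rfl, fun i => i.elim0, fun _ => by rwa [cj_image_one], fun a ha => ?_⟩
    rw [hg a ha]; group
  | @cons A n g k hA hn h hk ih =>
    obtain ⟨m, c, hc0, hcN, hcS, hcl⟩ := ih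
    refine ⟨m + 1, Fin.cons 1 (fun i => c i * n), rfl, ?_, ?_, ?_⟩
    · intro i
      induction i using Fin.cases with
      | zero => simpa [hc0] using hn
      | succ i =>
        obtain ⟨N, hN, hiN⟩ := hcN i
        refine ⟨N, hN, ?_⟩
        rw [Fin.cons_succ, Fin.castSucc_succ, Fin.cons_succ]
        simpa [mul_assoc] using hiN
    · intro i
      induction i using Fin.cases with
      | zero => rw [Fin.cons_zero, cj_image_one]; exact hA
      | succ i =>
        rw [Fin.cons_succ, ← cj_image_image]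
        exact hcS i
    · intro a ha
      rw [← Fin.succ_last, Fin.cons_succ, hk a ha]
      calc c (Fin.last m) * n * a * (c (Fin.last m) * n)⁻¹
          = c (Fin.last m) * (cj n a) * (c (Fin.last m))⁻¹ := by rw [cj_apply]; group
        _ = g * cj n a * g⁻¹ := hcl _ ⟨a, ha, rfl⟩
        _ = g * n * a * (g * n)⁻¹ := by rw [cj_apply]; group

/-- A map relation containing every step contains every chain. -/
theorem IsMapRel.of_fin {S : Subgroup G} {R : Set G → G → Prop} (hR : IsMapRel S R) {A : Set G}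
    (hA : A ⊆ S) {n : ℕ} (c : Fin (n + 1) → G) (hc0 : c 0 = 1)
    (hstep : ∀ i : Fin n, R (cj (c i.castSucc) '' A) (c i.succ * (c i.castSucc)⁻¹))
    {g : G} (hg : ∀ a ∈ A, c (Fin.last n) * a * (c (Fin.last n))⁻¹ = g * a * g⁻¹) : R A g := by
  have key : ∀ i : Fin (n + 1), R A (c i) := by
    intro i
    induction i using Fin.induction with
    | zero => exact hR.triv hA fun a _ => by rw [hc0]; group
    | succ i ih =>
      have h1 := hR.trans ih (hstep i)
      rwa [inv_mul_cancel_right] at h1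
  exact hR.congr (key (Fin.last n)) fun a ha => (hg a ha).symm

end Cfsg.Agent.Functors
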