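/-
A subgroup of `S` with a central series of strongly closed subgroups controls strong fusion.
-/
import Cfsg.Agent.Lib.Functors.SL2LocalFusion
import Cfsg.Agent.Lib.CharP.AxB

set_option autoImplicit false
set_option linter.style.haveILetI false
set_option linter.unusedSectionVars false

namespace Cfsg.Agent.SeriesNormal

open scoped commutatorElement
open Cfsg Cfsg.Agent.Functors Cfsg.Agent.ClosedZJ

universe u

variable {G : Type u} [Group G] [Finite G] {p : ℕ} [hp : Fact p.Prime]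

/-- The elements of `N(X)` stabilizing the series `X ≥ X ∩ Ws k ≥ … ≥ X ∩ Ws 0`. -/
def stabilizes (X : Subgroup G) (Ws : ℕ → Subgroup G) (k : ℕ) (y : G) : Prop :=
  y ∈ Subgroup.normalizer (X : Set G) ∧ (∀ u ∈ X, ⁅y, u⁆ ∈ Ws k) ∧
    ∀ i < k, ∀ u ∈ X ⊓ Ws (i + 1), ⁅y, u⁆ ∈ Ws i

theorem realised_of_series (S : Sylow p G) (Ws : ℕ → Subgroup G) (k : ℕ) (h0 : Ws 0 = ⊥)
    (hclosed : ∀ i, IsStronglyClosed (Ws i) (S : Subgroup G))
    (hcentral : ∀ i < k, ∀ w ∈ Ws k, ∀ u ∈ Ws (i + 1), ⁅w, u⁆ ∈ Ws i)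
    (A : Set G) (g : G) (hA : A ⊆ (S : Subgroup G)) (hgA : cj g '' A ⊆ (S : Subgroup G)) :
    Realised (Subgroup.normalizer (Ws k : Set G)) (S : Subgroup G) A g := by
  set W := Ws k with hW
  have hR : IsMapRel (S : Subgroup G) (Realised (Subgroup.normalizer (W : Set G)) (S : Subgroup G)) :=
    isMapRel_realised _ _
  have hSW : (S : Subgroup G) ≤ Subgroup.normalizer (W : Set G) := fun s hs =>
    map_cj_eq_iff.1 (Subgroup.eq_of_le_of_card_ge (by
      rintro _ ⟨w, hw, rfl⟩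
      exact (hclosed k).2 w hw s (mul_mem (mul_mem hs ((hclosed k).1 hw)) (inv_mem hs))) (card_map_cj _ _).ge)
  refine (SL2Local.local_to_global_growing S.isPGroup' hR ∅ (fun W hW => absurd hW (Set.notMem_empty _))
    (fun _ => True) (Extremal p (S : Subgroup G)) (fun _ h => h) (fun _ hV hn => extremal_of_normal S hV hn)
    (fun _ _ hV => exists_extremal S hV) ?_ (fun _ _ _ _ _ _ => trivial) (fun _ _ _ _ => trivial)).1 A g hA hgA
  intro X _ hX _ hbig x hx
  have hXS := hX.1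
  have hmove : ∀ y ∈ Subgroup.normalizer (X : Set G), ∀ i, ∀ d ∈ X, d ∈ Ws i → y * d * y⁻¹ ∈ Ws i :=
    fun y hy i d hd hdi => (hclosed i).2 d hdi y (hXS ((Subgroup.mem_normalizer_iff.1 hy d).1 hd))
  have hcX : ∀ y ∈ Subgroup.normalizer (X : Set G), ∀ u ∈ X, ⁅y, u⁆ ∈ X := fun y hy u hu => by
    rw [commutatorElement_def]
    exact mul_mem ((Subgroup.mem_normalizer_iff.1 hy u).1 hu) (inv_mem hu)
  by_cases hWX : W ≤ X
  · refine ⟨hXS, ?_, x, ?_, fun a _ => rfl⟩
    · rw [cj_image_coe, map_cj_eq_iff.2 hx]; exact hXS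
    · exact map_cj_eq_iff.1 (Subgroup.eq_of_le_of_card_ge (by
        rintro _ ⟨w, hw, rfl⟩
        exact hmove x hx k w (hWX hw) hw) (card_map_cj _ _).ge)
  let K : Subgroup G :=
    { carrier := {y | stabilizes X Ws k y}
      one_mem' := ⟨one_mem _, fun u _ => by simp, fun i _ u _ => by simp⟩
      mul_mem' := by
        rintro y z ⟨hyN, hy1, hy2⟩ ⟨hzN, hz1, hz2⟩
        have e : ∀ u, ⁅y * z, u⁆ = y * ⁅z, u⁆ * y⁻¹ * ⁅y, u⁆ := fun u => by
          simp only [commutatorElement_def]; group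
        refine ⟨mul_mem hyN hzN, fun u hu => ?_, fun i hi u hu => ?_⟩
        · rw [e]; exact mul_mem (hmove y hyN k _ (hcX z hzN u hu) (hz1 u hu)) (hy1 u hu)
        · rw [e]
          exact mul_mem (hmove y hyN i _ (hcX z hzN u (Subgroup.mem_inf.1 hu).1) (hz2 i hi u hu)) (hy2 i hi u hu)
      inv_mem' := by
        rintro y ⟨hyN, hy1, hy2⟩
        have e : ∀ u, ⁅y⁻¹, u⁆ = y⁻¹ * ⁅y, u⁆⁻¹ * y⁻¹⁻¹ := fun u => by
          simp only [commutatorElement_def]; group
        refine ⟨inv_mem hyN, fun u hu => ?_, fun i hi u hu => ?_⟩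
        · rw [e]; exact hmove _ (inv_mem hyN) k _ (inv_mem (hcX y hyN u hu)) (inv_mem (hy1 u hu))
        · rw [e]
          exact hmove _ (inv_mem hyN) i _ (inv_mem (hcX y hyN u (Subgroup.mem_inf.1 hu).1))
            (inv_mem (hy2 i hi u hu)) }
  have hKN : K ≤ Subgroup.normalizer (X : Set G) := fun y hy => hy.1
  have hNK : Subgroup.normalizer (X : Set G) ≤ Subgroup.normalizer (K : Set G) := by
    intro n hn
    refine map_cj_eq_iff.1 (Subgroup.eq_of_le_of_card_ge ?_ (card_map_cj _ _).ge)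
    rintro _ ⟨y, ⟨hyN, hy1, hy2⟩, rfl⟩
    have e : ∀ u, ⁅n * y * n⁻¹, u⁆ = n * ⁅y, n⁻¹ * u * n⁻¹⁻¹⁆ * n⁻¹ := fun u => by
      simp only [commutatorElement_def]; group
    have hu' : ∀ u ∈ X, n⁻¹ * u * n⁻¹⁻¹ ∈ X := fun u hu =>
      (Subgroup.mem_normalizer_iff.1 (inv_mem hn) u).1 hu
    refine ⟨mul_mem (mul_mem hn hyN) (inv_mem hn), fun u hu => ?_, fun i hi u hu => ?_⟩
    · show ⁅n * y * n⁻¹, u⁆ ∈ Ws k
      rw [e]; exact hmove n hn k _ (hcX y hyN _ (hu' u hu)) (hy1 _ (hu' u hu))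
    · show ⁅n * y * n⁻¹, u⁆ ∈ Ws i
      obtain ⟨hu1, hu2⟩ := Subgroup.mem_inf.1 hu
      rw [e]
      exact hmove n hn i _ (hcX y hyN _ (hu' u hu1))
        (hy2 i hi _ (Subgroup.mem_inf.2 ⟨hu' u hu1, hmove _ (inv_mem hn) (i + 1) u hu1 hu2⟩))
  -- coprime elements of `K` centralize `X`
  have hcop : ∀ z ∈ K, (orderOf z).Coprime p → z ∈ Subgroup.centralizer (X : Set G) := by
    rintro z ⟨hzN, hz1, hz2⟩ hzc
    have step : ∀ (B : Subgroup G), B ≤ X → (∀ u ∈ X, u ∈ B → ∀ d, d = u⁻¹ * (z * u * z⁻¹) → z * d = d * z) →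
        ∀ u ∈ B, z * u = u * z := fun B hB h u hu =>
      AxB.commute_of_conj_mem (S.isPGroup'.to_le hXS) (q := u)
        (mul_mem (inv_mem (hB hu)) ((Subgroup.mem_normalizer_iff.1 hzN u).1 (hB hu)))
        (h u (hB hu) hu _ rfl) (pow_orderOf_eq_one z) hzc.symm
    have e : ∀ u, u⁻¹ * (z * u * z⁻¹) = u⁻¹ * ⁅z, u⁆ * u := fun u => by
      simp only [commutatorElement_def]; group
    have hlev : ∀ i ≤ k, ∀ u ∈ X ⊓ Ws i, z * u = u * z := by
      intro i
      induction i with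
      | zero => intro _ u hu; rw [h0, inf_bot_eq, Subgroup.mem_bot] at hu; simp [hu]
      | succ i ih =>
        intro hi
        refine step _ inf_le_left fun u hu hu' d hd => ?_
        subst hd
        rw [e]
        refine ih (by omega) _ (Subgroup.mem_inf.2 ⟨mul_mem (mul_mem (inv_mem hu) (hcX z hzN u hu)) hu, ?_⟩)
        have := hmove u⁻¹ (inv_mem (Subgroup.le_normalizer hu)) i _ (hcX z hzN u hu) (hz2 i (by omega) u hu')
        rwa [inv_inv] at this
    refine Subgroup.mem_centralizer_iff.2 fun u hu => (step X le_rfl (fun u hu _ d hd => ?_) u hu).symm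
    subst hd
    rw [e]
    refine hlev k le_rfl _ (Subgroup.mem_inf.2 ⟨mul_mem (mul_mem (inv_mem hu) (hcX z hzN u hu)) hu, ?_⟩)
    have := hmove u⁻¹ (inv_mem (Subgroup.le_normalizer hu)) k _ (hcX z hzN u hu) (hz1 u hu)
    rwa [inv_inv] at this
  -- Sylow subgroup and Frattini
  set P0 := (S : Subgroup G) ⊓ Subgroup.normalizer (X : Set G) ⊓ K with hP0
  have hsyl : IsSylowIn p P0 K := hX.2.inf_normalized hKN hNK
  obtain ⟨y, hy, hyle⟩ := exists_conj_le_of_isSylowIn hsyl (hsyl.isPGroup.map (cj x))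
    ((Subgroup.map_mono inf_le_right).trans (map_cj_eq_iff.2 (hNK hx)).le)
  rw [map_map_cj] at hyle
  have hyx := map_cj_eq_iff.1 (Subgroup.eq_of_le_of_card_ge hyle (card_map_cj _ _).ge)
  obtain ⟨Q, hQ⟩ := hsyl.exists_sylow
  set CK := (Subgroup.centralizer (X : Set G)).subgroupOf K with hCK
  haveI : CK.Normal := ⟨fun c hc n => by
    rw [hCK, Subgroup.mem_subgroupOf] at hc ⊢
    rw [Subgroup.mem_centralizer_iff]
    intro b hb
    have hb' : (n : G)⁻¹ * b * n ∈ X := by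
      simpa using (Subgroup.mem_normalizer_iff.1 (inv_mem (hKN n.2)) b).1 hb
    have h1 := Subgroup.mem_centralizer_iff.1 hc _ hb'
    push_cast
    calc b * ((n : G) * c * (n : G)⁻¹) = n * (((n : G)⁻¹ * b * n) * c) * (n : G)⁻¹ := by group
      _ = n * c * (n : G)⁻¹ * b := by rw [h1]; group⟩
  have hq : IsPGroup p (↥K ⧸ CK) := fun q => by
    induction q using QuotientGroup.induction_on with
    | _ z =>
      obtain ⟨j, hj⟩ := ChiefAct.exists_pow_mem_of_coprime_mem hcop z.2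
      refine ⟨j, ?_⟩
      rw [← QuotientGroup.mk_pow, QuotientGroup.eq_one_iff, hCK, Subgroup.mem_subgroupOf]
      simpa using hj
  obtain ⟨q, hq', c, hc, hqc⟩ := Subgroup.mem_sup_of_normal_right.1
    ((PBasic.sylow_sup_eq_top Q hq).ge (Subgroup.mem_top (⟨y, hy⟩ : ↥K)))
  rw [hQ, Subgroup.mem_subgroupOf] at hq'
  rw [hCK, Subgroup.mem_subgroupOf] at hc
  have e1 : (q : G) * c = y := congrArg Subtype.val hqc
  have hcx : (c : G) * x ∈ Subgroup.normalizer (P0 : Set G) := by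
    have := mul_mem (inv_mem (Subgroup.le_normalizer hq')) hyx
    rw [← e1, mul_assoc (q : G), inv_mul_cancel_left] at this
    exact this
  set T := X ⊔ P0 with hT
  have hTS : T ≤ (S : Subgroup G) := sup_le hXS (inf_le_left.trans inf_le_left)
  have hlt : Nat.card ↥X < Nat.card ↥T := by
    refine Nat.lt_of_not_ge fun hle => hWX ?_
    have hP0X : P0 ≤ X := le_sup_right.trans (Subgroup.eq_of_le_of_card_ge (le_sup_left : X ≤ T) hle).ge
    have hWN : W ⊓ Subgroup.normalizer (X : Set G) ≤ X := by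
      intro w hw
      obtain ⟨hwW, hwN⟩ := Subgroup.mem_inf.1 hw
      refine hP0X (Subgroup.mem_inf.2 ⟨Subgroup.mem_inf.2 ⟨(hclosed k).1 hwW, hwN⟩, hwN, fun u hu => ?_, fun i hi u hu => ?_⟩)
      · rw [commutatorElement_def, mul_assoc, mul_assoc, ← mul_assoc u]
        exact mul_mem hwW ((Subgroup.mem_normalizer_iff.1 (hSW (hXS hu)) _).1 (inv_mem hwW))
      · exact hcentral i hi w hwW u (Subgroup.mem_inf.1 hu).2
    by_contra hnot
    have hlt' : X < W ⊔ X := lt_of_le_of_ne le_sup_right fun h => hnot (le_sup_left.trans h.ge)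
    refine (lt_inf_normalizer_of_lt (S.isPGroup'.to_le (sup_le (hclosed k).1 hXS)) hlt').not_ge fun z hz => ?_
    obtain ⟨hz1, hz2⟩ := Subgroup.mem_inf.1 hz
    have hz' : z ∈ ((W ⊔ X : Subgroup G) : Set G) := hz1
    rw [Subgroup.coe_mul_of_right_le_normalizer_left _ _ (hXS.trans hSW)] at hz'
    obtain ⟨w, hw, a, ha, rfl⟩ := Set.mem_mul.1 hz'
    refine mul_mem (hWN (Subgroup.mem_inf.2 ⟨hw, ?_⟩)) ha
    have := mul_mem hz2 (inv_mem (Subgroup.le_normalizer ha))
    rwa [mul_inv_cancel_right] at this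
  have r := hR.mono (SetLike.coe_subset_coe.2 (le_sup_left : X ≤ T)) (hbig T (c * x) hlt hTS (by
    rw [hT, Subgroup.map_sup, map_cj_eq_iff.2 hcx, ← map_map_cj X, map_cj_eq_iff.2 hx,
      map_cj_eq_iff.2 (Subgroup.centralizer_le_normalizer _ hc)]
    exact hTS))
  refine hR.congr r fun a ha => Eq.symm ?_
  have h1 := Subgroup.mem_centralizer_iff.1 hc _ ((Subgroup.mem_normalizer_iff.1 hx a).1 ha)
  calc c * x * a * (c * x)⁻¹ = c * (x * a * x⁻¹) * (c : G)⁻¹ := by group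
    _ = x * a * x⁻¹ := by rw [← h1]; group

end Cfsg.Agent.SeriesNormal
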