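import Cfsg.Agent.Lib.Functors.Control

/-!
Towers and well-placed subgroups.
-/

set_option autoImplicit false
set_option linter.style.haveILetI false

namespace Cfsg.Agent.Functors

open Cfsg

variable {G : Type*} [Group G] {p : ℕ}

/-- `N_S` of the `i`-th term of the tower. -/
def towerNorm (W : Subgroup G → Subgroup G) (S T : Subgroup G) (i : ℕ) : Subgroup G :=
  S ⊓ Subgroup.normalizer ((functorTower W S T i : Subgroup G) : Set G)

theorem functorTower_succ (W : Subgroup G → Subgroup G) (S T : Subgroup G) (i : ℕ) :
    functorTower W S T (i + 1) = W (towerNorm W S T i) := rfl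

theorem functorTower_shift (W : Subgroup G → Subgroup G) (S T : Subgroup G) (i : ℕ) :
    functorTower W S (functorTower W S T 1) i = functorTower W S T (i + 1) := by
  induction i with
  | zero => rfl
  | succ i ih =>
    change W (S ⊓ Subgroup.normalizer ((functorTower W S (functorTower W S T 1) i : Subgroup G) : Set G)) = _
    rw [ih]
    rfl

theorem IsWellPlaced.extremal [Finite G] {W : Subgroup G → Subgroup G} {S T : Subgroup G}
    (hS : IsPGroup p ↥S) (h : IsWellPlaced p W S T) : Extremal p S T :=
  ⟨h.1, inf_le_right, hS.to_le inf_le_left, h.2 0⟩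

variable {W : Subgroup G → Subgroup G}

theorem towerNorm_mono (hW : IsConjugacyFunctor p W) {S : Subgroup G} (hS : IsPGroup p ↥S)
    (T : Subgroup G) (i : ℕ) : towerNorm W S T i ≤ towerNorm W S T (i + 1) :=
  le_inf inf_le_left (le_normalizer_conjFunctor hW (hS.to_le inf_le_left))

theorem functorTower_le (hW : IsConjugacyFunctor p W) {S : Subgroup G} (hS : IsPGroup p ↥S)
    {T : Subgroup G} (hT : T ≤ S) (i : ℕ) : functorTower W S T i ≤ S := by
  cases i with
  | zero => exact hT
  | succ i => exact (conjFunctor_le hW (hS.to_le inf_le_left)).trans inf_le_left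

theorem IsWellPlaced.shift (hW : IsConjugacyFunctor p W) {S T : Subgroup G} (hS : IsPGroup p ↥S)
    (h : IsWellPlaced p W S T) : IsWellPlaced p W S (functorTower W S T 1) :=
  ⟨functorTower_le hW hS h.1 1, fun i => by rw [functorTower_shift]; exact h.2 (i + 1)⟩

theorem towerNorm_stationary {S T : Subgroup G} {i : ℕ}
    (h : towerNorm W S T (i + 1) = towerNorm W S T i) :
    ∀ j, towerNorm W S T (i + j) = towerNorm W S T i := by
  intro j
  induction j with
  | zero => rfl
  | succ j ih =>
    refine Eq.trans ?_ h
    rw [towerNorm, show i + (j + 1) = i + j + 1 from rfl, functorTower_succ, ih, ← functorTower_succ W S T i]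
    rfl

variable [Finite G] [hp : Fact p.Prime]

/-- Where the tower stops growing, the normalizer is all of `S`. -/
theorem towerNorm_eq_of_stationary (hW : IsConjugacyFunctor p W) {S : Subgroup G}
    (hS : IsPGroup p ↥S) {T : Subgroup G} {i : ℕ}
    (h : towerNorm W S T (i + 1) = towerNorm W S T i) : towerNorm W S T i = S := by
  by_contra hne
  set P := towerNorm W S T i with hP
  have hlt : P < S := lt_of_le_of_ne inf_le_left hne
  have h1 := lt_inf_normalizer_of_lt hS hlt
  refine (h1.trans_le ?_).ne h.symm
  exact inf_le_inf_left _ (normalizer_le_normalizer_conjFunctor hW (hS.to_le inf_le_left))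

omit hp in
theorem exists_stationary (hW : IsConjugacyFunctor p W) {S : Subgroup G} (hS : IsPGroup p ↥S)
    (T : Subgroup G) : ∃ i < Nat.card ↥S, towerNorm W S T (i + 1) = towerNorm W S T i := by
  by_contra hc
  push Not at hc
  have key : ∀ i, i ≤ Nat.card ↥S → i + 1 ≤ Nat.card ↥(towerNorm W S T i) := by
    intro i
    induction i with
    | zero => exact fun _ => Nat.card_pos
    | succ i ih =>
      intro hi
      have h1 := ih (by omega)
      have hne := hc i (by omega)
      have hlt : Nat.card ↥(towerNorm W S T i) < Nat.card ↥(towerNorm W S T (i + 1)) :=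
        Nat.lt_of_not_ge fun hle =>
          hne (Subgroup.eq_of_le_of_card_ge (towerNorm_mono hW hS T i) hle).symm
      omega
  have := key _ le_rfl
  have := Subgroup.card_le_of_le (show towerNorm W S T (Nat.card ↥S) ≤ S from inf_le_left)
  omega

theorem towerNorm_card (hW : IsConjugacyFunctor p W) {S : Subgroup G} (hS : IsPGroup p ↥S)
    (T : Subgroup G) {i : ℕ} (hi : Nat.card ↥S ≤ i) : towerNorm W S T i = S := by
  obtain ⟨j, hj, hst⟩ := exists_stationary hW hS T
  obtain ⟨k, rfl⟩ := Nat.exists_eq_add_of_le (hj.le.trans hi)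
  rw [towerNorm_stationary hst k, towerNorm_eq_of_stationary hW hS hst]

theorem isWellPlaced_of_normal (S : Sylow p G) (hW : IsConjugacyFunctor p W) {T : Subgroup G}
    (hT : T ≤ (S : Subgroup G)) (hn : (S : Subgroup G) ≤ Subgroup.normalizer (T : Set G)) :
    IsWellPlaced p W (S : Subgroup G) T := by
  refine ⟨hT, fun i => ?_⟩
  have h : (S : Subgroup G) ≤ Subgroup.normalizer ((functorTower W (S : Subgroup G) T i : Subgroup G) : Set G) := by
    induction i with
    | zero => exact hn
    | succ i ih =>
      rw [functorTower_succ, towerNorm, inf_eq_left.2 ih]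
      exact le_normalizer_conjFunctor hW S.isPGroup'
  rw [inf_eq_left.2 h]
  exact ((isSylowIn_sylow S).of_le h le_top).2.2

/-- Every subgroup of `S` has a well-placed conjugate, reached by an element carrying its normalizer
in `S` into `S`. -/
theorem exists_wellPlaced (S : Sylow p G) (hW : IsConjugacyFunctor p W) {T : Subgroup G}
    (hT : T ≤ (S : Subgroup G)) :
    ∃ h : G, IsWellPlaced p W (S : Subgroup G) (T.map (cj h)) ∧
      ((S : Subgroup G) ⊓ Subgroup.normalizer (T : Set G)).map (cj h) ≤ S := by
  suffices key : ∀ k : ℕ, ∃ h : G, T.map (cj h) ≤ (S : Subgroup G) ∧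
      ((S : Subgroup G) ⊓ Subgroup.normalizer (T : Set G)).map (cj h) ≤ S ∧
      ∀ i < k, IsSylowIn p (towerNorm W (S : Subgroup G) (T.map (cj h)) i)
        (Subgroup.normalizer ((functorTower W (S : Subgroup G) (T.map (cj h)) i : Subgroup G) : Set G)) by
    obtain ⟨h, hle, hN, hgood⟩ := key (Nat.card ↥(S : Subgroup G) + 1)
    refine ⟨h, ⟨hle, fun i => ?_⟩, hN⟩
    by_cases hi : i < Nat.card ↥(S : Subgroup G) + 1
    · exact (hgood i hi).2.2
    · have h1 := towerNorm_card hW S.isPGroup' (T.map (cj h)) (i := i) (by omega)
      have h2 : (S : Subgroup G) ≤ Subgroup.normalizer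
          ((functorTower W (S : Subgroup G) (T.map (cj h)) i : Subgroup G) : Set G) :=
        h1.ge.trans inf_le_right
      rw [inf_eq_left.2 h2]
      exact ((isSylowIn_sylow S).of_le h2 le_top).2.2
  intro k
  induction k with
  | zero => exact ⟨1, by rwa [map_cj_one], by rw [map_cj_one]; exact inf_le_left, fun i hi => absurd hi (Nat.not_lt_zero i)⟩
  | succ k ih =>
    obtain ⟨h, hle, hN, hgood⟩ := ih
    set U := functorTower W (S : Subgroup G) (T.map (cj h)) k with hU
    obtain ⟨g, hgext, hg⟩ := exists_extremal S (functorTower_le hW S.isPGroup' hle k)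
    rw [← hU] at hgext hg
    -- earlier terms are carried along
    have hmove : ∀ i, i ≤ k →
        functorTower W (S : Subgroup G) (T.map (cj (g * h))) i = (functorTower W (S : Subgroup G) (T.map (cj h)) i).map (cj g) ∧
        (i < k → (towerNorm W (S : Subgroup G) (T.map (cj h)) i).map (cj g) =
          towerNorm W (S : Subgroup G) (T.map (cj (g * h))) i) := by
      have hbelow : ∀ i, i ≤ k → towerNorm W (S : Subgroup G) (T.map (cj h)) i ≤
          towerNorm W (S : Subgroup G) (T.map (cj h)) k := fun i hi =>
        monotone_nat_of_le_succ (fun j => towerNorm_mono hW S.isPGroup' (T.map (cj h)) j) hi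
      have hnorm : ∀ i, i < k →
          functorTower W (S : Subgroup G) (T.map (cj (g * h))) i = (functorTower W (S : Subgroup G) (T.map (cj h)) i).map (cj g) →
          (towerNorm W (S : Subgroup G) (T.map (cj h)) i).map (cj g) =
            towerNorm W (S : Subgroup G) (T.map (cj (g * h))) i := by
        intro i hi he
        have h1 := (hgood i hi).map_cj g
        rw [map_cj_normalizer, ← he] at h1
        exact h1.eq_of_le (S.isPGroup'.to_le inf_le_left)
          (le_inf ((Subgroup.map_mono (hbelow i hi.le)).trans hg) h1.le) inf_le_right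
      intro i
      induction i with
      | zero =>
        intro hi
        have e : functorTower W (S : Subgroup G) (T.map (cj (g * h))) 0 =
            (functorTower W (S : Subgroup G) (T.map (cj h)) 0).map (cj g) := (map_map_cj T g h).symm
        exact ⟨e, fun hlt => hnorm 0 hlt e⟩
      | succ i ihi =>
        intro hi
        have e : functorTower W (S : Subgroup G) (T.map (cj (g * h))) (i + 1) =
            (functorTower W (S : Subgroup G) (T.map (cj h)) (i + 1)).map (cj g) := by
          have hN' := (ihi (by omega)).2 (by omega)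
          rw [functorTower_succ, functorTower_succ, ← hN', conjFunctor_map hW (show IsPGroup p ↥(towerNorm W (S : Subgroup G) (T.map (cj h)) i) from S.isPGroup'.to_le inf_le_left)]
        exact ⟨e, fun hlt => hnorm (i + 1) hlt e⟩
    have hN0 : ((S : Subgroup G) ⊓ Subgroup.normalizer (T : Set G)).map (cj h) ≤
        towerNorm W (S : Subgroup G) (T.map (cj h)) k := by
      refine le_trans ?_ (monotone_nat_of_le_succ
        (fun j => towerNorm_mono hW S.isPGroup' (T.map (cj h)) j) (Nat.zero_le k))
      refine le_inf hN ?_
      rw [show functorTower W (S : Subgroup G) (T.map (cj h)) 0 = T.map (cj h) from rfl, ← map_cj_normalizer]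
      exact Subgroup.map_mono inf_le_right
    have hN' : ((S : Subgroup G) ⊓ Subgroup.normalizer (T : Set G)).map (cj (g * h)) ≤ S := by
      rw [← map_map_cj]
      exact (Subgroup.map_mono hN0).trans hg
    refine ⟨g * h, (Subgroup.map_mono (le_inf hT Subgroup.le_normalizer)).trans hN', hN', fun i hi => ?_⟩
    rcases Nat.lt_succ_iff_lt_or_eq.1 hi with hik | rfl
    · obtain ⟨e1, e2⟩ := hmove i hik.le
      have h1 := (hgood i hik).map_cj g
      rwa [map_cj_normalizer, ← e1, e2 hik] at h1
    · obtain ⟨e1, -⟩ := hmove i le_rfl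
      rw [towerNorm, e1]
      exact hgext.2

end Cfsg.Agent.Functors
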